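import Cfsg.Agent.Lib.Perm.Asch.Forms.OPower
import Cfsg.Agent.Lib.Perm.Trans.QuadSubf
import Cfsg.Agent.Lib.Perm.Trans.QuadSingFam
import Cfsg.Agent.Lib.Perm.Trans.QuadNondegCases

/-!
# Orthogonal groups of a quadratic form in any dimension: elementary lemmas
-/

set_option autoImplicit false
set_option linter.all false

namespace CfsgLib.Perm.Asch.OE

open scoped Classical Matrix
open Matrix Cfsg.Geo CfsgLib.Perm.Asch CfsgLib.Perm.Trans CfsgLib.Perm.Trans.Quad

variable {ι : Type} [Fintype ι] [DecidableEq ι] {F : Type*} [Field F]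
variable {Q : (ι → F) → F}

local notation "pol" => QuadraticMap.polar

/-- the Gram matrix of the polar form -/
def qG (Q : (ι → F) → F) : Matrix ι ι F := gramMatrix (pol Q)

theorem qG_symm : (qG Q)ᵀ = qG Q := Matrix.ext fun a b => by
  show pol Q _ _ = pol Q _ _
  exact Quad.pcomm _ _

variable (hQ : IsNondegenerateQuadraticForm Q)
include hQ

theorem pol_eq : pol Q = gform (RingHom.id F) (qG Q) := by
  have hb := hQ.polar_bilinear
  obtain ⟨G, hG⟩ := exists_gform (RingHom.id F) _ hb.add_left hb.smul_left hb.add_right hb.smul_right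
  rw [hG, qG, hG]
  congr 1
  exact Matrix.ext fun a b => (gform_single (RingHom.id F) G a b).symm

theorem refl_qG : Refl (RingHom.id F) (qG Q) := by
  refine ⟨fun _ => rfl, fun h0 => ?_, 1, by rw [qG_symm, one_smul]; ext i j; rfl⟩
  obtain ⟨v, hv, hv0⟩ := Matrix.exists_mulVec_eq_zero_iff.2 h0
  obtain ⟨⟨x, hx⟩, -⟩ := hQ.nondegenerate v hv
  refine hx ?_
  rw [pol_eq hQ]
  simp [gform, hv0]

theorem iso_le : Cfsg.isometryGroup F Q ≤ iso (RingHom.id F) (qG Q) := fun g hg =>
  Asch.mem_iso_iff.2 fun u v => by rw [← pol_eq hQ]; exact iso_pol hg u v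

theorem adj_pol (a : Matrix ι ι F) (u v : ι → F) :
    pol Q (a *ᵥ u) v = pol Q u (adj (RingHom.id F) (qG Q) a *ᵥ v) := by
  rw [pol_eq hQ]
  exact (refl_qG hQ).adj_spec a u v

theorem adjClosedFor_of {K : Subalgebra F (Matrix ι ι F)}
    (h : AdjClosed (RingHom.id F) (qG Q) (K : Set (Matrix ι ι F))) : IsAdjointClosedFor (pol Q) K :=
  fun k hk => ⟨_, h k hk, adj_pol hQ k⟩

theorem selfAdjointFor_iff {K : Subalgebra F (Matrix ι ι F)} :
    IsSelfAdjointFor (pol Q) K ↔ ∀ k ∈ K, adj (RingHom.id F) (qG Q) k = k :=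
  ⟨fun h k hk => (refl_qG hQ).adj_eq_of_forall fun u v => by rw [← pol_eq hQ]; exact h k hk u v,
    fun h k hk u v => by rw [adj_pol hQ, h k hk]⟩

theorem perp_eq (W : Submodule F (ι → F)) : perp (RingHom.id F) (qG Q) W = qperp hQ W := by
  ext v
  show (∀ w ∈ W, gform _ _ v w = 0) ↔ ∀ w ∈ W, pol Q v w = 0
  rw [pol_eq hQ]

/-! ### orthogonals -/

theorem qperp_sup (A B : Submodule F (ι → F)) : qperp hQ (A ⊔ B) = qperp hQ A ⊓ qperp hQ B := by
  refine le_antisymm (fun x hx => ⟨fun a ha => hx a (Submodule.mem_sup_left ha),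
    fun b hb => hx b (Submodule.mem_sup_right hb)⟩) fun x hx w hw => ?_
  obtain ⟨a, ha, b, hb, rfl⟩ := Submodule.mem_sup.1 hw
  rw [padd_right hQ, hx.1 a ha, hx.2 b hb, add_zero]

theorem le_qperp_comm {A B : Submodule F (ι → F)} (h : A ≤ qperp hQ B) : B ≤ qperp hQ A :=
  fun b hb a ha => by rw [pcomm]; exact h ha b hb

theorem qperp_qperp_any [Fintype F] (W : Submodule F (ι → F)) : qperp hQ (qperp hQ W) = W := by
  refine (Submodule.eq_of_le_of_finrank_le (le_qperp_comm hQ le_rfl) ?_).symm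
  have h1 := finrank_qperp_add hQ W
  have h2 := finrank_qperp_add hQ (qperp hQ W)
  omega

/-- members of nondegenerate orthogonal subspaces are independent -/
theorem orth_disjoint {A B : Submodule F (ι → F)} (hA : NdOn Q A) (h : AreOrthogonalFor (pol Q) A B) :
    Disjoint A B := by
  rw [Submodule.disjoint_def]
  intro x hx hx'
  by_contra h0
  obtain ⟨y, hy, hyx⟩ := (hA x hx h0).1
  exact hyx (h y hy x hx')

theorem orth_comm {A B : Submodule F (ι → F)} (h : AreOrthogonalFor (pol Q) A B) : AreOrthogonalFor (pol Q) B A :=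
  fun b hb a ha => by rw [pcomm]; exact h a ha b hb

theorem orth_sup_right {A B C : Submodule F (ι → F)} (hB : AreOrthogonalFor (pol Q) A B)
    (hC : AreOrthogonalFor (pol Q) A C) : AreOrthogonalFor (pol Q) A (B ⊔ C) := by
  intro a ha x hx
  obtain ⟨b, hb, c, hc, rfl⟩ := Submodule.mem_sup.1 hx
  rw [padd_right hQ, hB a ha b hb, hC a ha c hc, add_zero]

theorem nd_sup {A B : Submodule F (ι → F)} (hA : NdOn Q A) (hB : NdOn Q B) (h : AreOrthogonalFor (pol Q) A B) :
    NdOn Q (A ⊔ B) := by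
  intro w hw hw0
  obtain ⟨a, ha, b, hb, rfl⟩ := Submodule.mem_sup.1 hw
  suffices h1 : ∃ x ∈ A ⊔ B, pol Q (a + b) x ≠ 0 by
    obtain ⟨x, hx, hne⟩ := h1
    exact ⟨⟨x, hx, by rwa [pcomm]⟩, x, hx, hne⟩
  rcases eq_or_ne a 0 with ha0 | ha0
  · obtain ⟨x, hx, hxb⟩ := (hB b hb (fun h0 => hw0 (by rw [ha0, h0, add_zero]))).2
    exact ⟨x, Submodule.mem_sup_right hx, by rw [padd_left hQ, h a ha x hx, zero_add]; exact hxb⟩
  · obtain ⟨x, hx, hxa⟩ := (hA a ha ha0).2
    refine ⟨x, Submodule.mem_sup_left hx, ?_⟩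
    rw [padd_left hQ, pcomm b x, h x hx b hb, add_zero]
    exact hxa

theorem finrank_sup_disjoint {A B : Submodule F (ι → F)} (h : Disjoint A B) :
    Module.finrank F ↥(A ⊔ B) = Module.finrank F A + Module.finrank F B := by
  have := Submodule.finrank_sup_add_finrank_inf_eq A B
  rw [disjoint_iff.1 h, finrank_bot, add_zero] at this
  exact this

theorem nd_split {L W : Submodule F (ι → F)} (hL : NdOn Q L) (hLW : L ≤ W) : L ⊔ (W ⊓ qperp hQ L) = W := by
  refine le_antisymm (sup_le hLW inf_le_left) fun x hx => ?_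
  obtain ⟨p, hp, hxp⟩ := qperp_decomp hQ hL x
  exact Submodule.mem_sup.2 ⟨p, hp, x - p, ⟨W.sub_mem hx (hLW hp), hxp⟩, add_sub_cancel p x⟩

theorem nd_inf_qperp {L W : Submodule F (ι → F)} (hW : NdOn Q W) (hL : NdOn Q L) (hLW : L ≤ W) :
    NdOn Q (W ⊓ qperp hQ L) := by
  intro v hv hv0
  suffices h1 : ∃ y ∈ W ⊓ qperp hQ L, pol Q v y ≠ 0 by
    obtain ⟨y, hy, hne⟩ := h1
    exact ⟨⟨y, hy, by rwa [pcomm]⟩, y, hy, hne⟩
  obtain ⟨x, hx, hvx⟩ := (hW v hv.1 hv0).2
  rw [← nd_split hQ hL hLW] at hx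
  obtain ⟨p, hp, y, hy, rfl⟩ := Submodule.mem_sup.1 hx
  exact ⟨y, hy, by rwa [padd_right hQ, hv.2 p hp, zero_add] at hvx⟩

theorem finrank_nd_inf {L W : Submodule F (ι → F)} (hL : NdOn Q L) (hLW : L ≤ W) :
    Module.finrank F ↥(W ⊓ qperp hQ L) + Module.finrank F L = Module.finrank F W := by
  conv_rhs => rw [← nd_split hQ hL hLW]
  rw [finrank_sup_disjoint hQ (orth_disjoint hQ hL fun a ha b hb => by rw [pcomm]; exact hb.2 a ha), add_comm]

/-- the orthogonal of a totally singular subspace inside a nondegenerate one -/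
theorem finrank_inf_ts [Fintype F] {T W : Submodule F (ι → F)} (hW : NdOn Q W) (hTW : T ≤ W) :
    Module.finrank F ↥(W ⊓ qperp hQ T) + Module.finrank F T = Module.finrank F W := by
  have h1 : qperp hQ (qperp hQ W ⊔ T) = W ⊓ qperp hQ T := by rw [qperp_sup hQ, qperp_qperp_any hQ]
  have h2 := finrank_qperp_add hQ (qperp hQ W ⊔ T)
  have h3 := finrank_qperp_add hQ W
  have h4 : Disjoint T (qperp hQ W) :=
    (orth_disjoint hQ hW fun a ha b hb => by rw [pcomm]; exact hb a ha).mono_left hTW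
  rw [h1, finrank_sup_disjoint hQ h4.symm] at h2
  omega

/-! ### additive maps scaled by squares -/

omit hQ in
theorem sq_surjective [Fintype F] (h2 : (2 : F) = 0) (c : F) : ∃ s : F, s ^ 2 = c := by
  haveI : CharP F 2 := CharTwo.of_one_ne_zero_of_two_eq_zero one_ne_zero h2
  have h1 : ringChar F = 2 := ringChar.eq F 2
  obtain ⟨s, hs⟩ := FiniteField.isSquare_of_char_two h1 c
  exact ⟨s, by rw [hs, sq]⟩

/-- the kernel of an additive map scaled by squares -/
def sqKer (D : (ι → F) → F) (hadd : ∀ x y, D (x + y) = D x + D y) (hsq : ∀ (c : F) x, D (c • x) = c ^ 2 * D x) :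
    Submodule F (ι → F) where
  carrier := {x | D x = 0}
  add_mem' {a b} ha hb := by
    show D (a + b) = 0
    rw [hadd, ha, hb, add_zero]
  zero_mem' := by
    show D 0 = 0
    have := hsq 0 0
    simpa using this
  smul_mem' c x hx := by
    show D (c • x) = 0
    rw [hsq, show D x = 0 from hx, mul_zero]

omit hQ in
theorem sqKer_finrank [Fintype F] {D : (ι → F) → F} (hadd : ∀ x y, D (x + y) = D x + D y)
    (hsq : ∀ (c : F) x, D (c • x) = c ^ 2 * D x) :
    Fintype.card ι ≤ Module.finrank F (sqKer D hadd hsq) + 1 := by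
  by_cases h2 : (2 : F) = 0
  swap
  · have : sqKer D hadd hsq = ⊤ := eq_top_iff.2 fun x _ => by
      show D x = 0
      have h1 := hsq 2 x
      rw [show (2 : F) • x = x + x from two_smul F x, hadd] at h1
      exact (mul_eq_zero.1 (show (2 : F) * D x = 0 by linear_combination -h1)).resolve_left h2
    rw [this, finrank_top, Module.finrank_fintype_fun_eq_card]
    omega
  by_cases hall : ∀ x, D x = 0
  · have : sqKer D hadd hsq = ⊤ := eq_top_iff.2 fun x _ => hall x
    rw [this, finrank_top, Module.finrank_fintype_fun_eq_card]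
    omega
  push Not at hall
  obtain ⟨x0, hx0⟩ := hall
  have htop : sqKer D hadd hsq ⊔ Submodule.span F {x0} = ⊤ := eq_top_iff.2 fun y _ => by
    obtain ⟨s, hs⟩ := sq_surjective h2 (D y / D x0)
    refine Submodule.mem_sup.2 ⟨y + s • x0, ?_, (-s) • x0, Submodule.smul_mem _ _ (Submodule.mem_span_singleton_self _),
      by rw [neg_smul]; abel⟩
    show D (y + s • x0) = 0
    rw [hadd, hsq, hs, div_mul_cancel₀ _ hx0, ← two_mul, h2, zero_mul]
  have h1 := Submodule.finrank_add_le_finrank_add_finrank (sqKer D hadd hsq) (Submodule.span F {x0})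
  rw [htop, finrank_top, Module.finrank_fintype_fun_eq_card] at h1
  rw [finrank_span_singleton (fun h0 => hx0 (by
    rw [h0]; have := hsq 0 (0 : ι → F); simpa using this))] at h1
  omega

omit hQ in
/-- an invariant additive map scaled by squares vanishes -/
theorem addfun_zero [Fintype F] (hn : 2 ≤ Fintype.card ι) {H : Subgroup (GL ι F)} (hirr : Irred H)
    {D : (ι → F) → F} (hadd : ∀ x y, D (x + y) = D x + D y) (hsq : ∀ (c : F) x, D (c • x) = c ^ 2 * D x)
    (hinv : ∀ g ∈ H, ∀ x, D x = 0 → D ((g : Matrix ι ι F) *ᵥ x) = 0) : ∀ x, D x = 0 := by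
  have h1 := sqKer_finrank hadd hsq
  rcases hirr.eq_bot_or_top (sqKer D hadd hsq) (fun g hg w hw => hinv g hg w hw) with h | h
  · rw [h, finrank_bot] at h1
    omega
  · intro x
    exact (show x ∈ sqKer D hadd hsq by rw [h]; exact Submodule.mem_top)

/-! ### isometries of subspaces -/

omit hQ in
theorem isometric_refl (W : Submodule F (ι → F)) : AreIsometricFor Q W W :=
  ⟨LinearEquiv.refl F W, fun _ => rfl⟩

omit hQ in
theorem isometric_symm {W W' : Submodule F (ι → F)} (h : AreIsometricFor Q W W') : AreIsometricFor Q W' W := by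
  obtain ⟨e, he⟩ := h
  exact ⟨e.symm, fun w => by conv_rhs => rw [← e.apply_symm_apply w, he]⟩

omit hQ in
theorem isometric_trans {W W' W'' : Submodule F (ι → F)} (h : AreIsometricFor Q W W')
    (h' : AreIsometricFor Q W' W'') : AreIsometricFor Q W W'' := by
  obtain ⟨e, he⟩ := h
  obtain ⟨e', he'⟩ := h'
  exact ⟨e.trans e', fun w => by rw [LinearEquiv.trans_apply, he', he]⟩

omit hQ in
theorem isometric_finrank {W W' : Submodule F (ι → F)} (h : AreIsometricFor Q W W') :
    Module.finrank F W = Module.finrank F W' := h.choose.finrank_eq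

theorem isometric_pol {W W' : Submodule F (ι → F)} {e : W ≃ₗ[F] W'}
    (he : ∀ w : W, Q ((e w : W') : ι → F) = Q (w : ι → F)) (x y : W) :
    pol Q (e x : ι → F) (e y : ι → F) = pol Q (x : ι → F) (y : ι → F) := by
  simp only [QuadraticMap.polar, ← Submodule.coe_add, ← map_add, he]

theorem isometric_sup {A B A' B' : Submodule F (ι → F)} (hd : Disjoint A B) (hd' : Disjoint A' B')
    (ho : AreOrthogonalFor (pol Q) A B) (ho' : AreOrthogonalFor (pol Q) A' B') (hA : AreIsometricFor Q A A')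
    (hB : AreIsometricFor Q B B') : AreIsometricFor Q (A ⊔ B) (A' ⊔ B') := by
  obtain ⟨eA, hA⟩ := hA
  obtain ⟨eB, hB⟩ := hB
  have key : ∀ {X Y : Submodule F (ι → F)}, Disjoint X Y →
      ∃ E : (X × Y) ≃ₗ[F] ↥(X ⊔ Y), ∀ p : X × Y, ((E p : ↥(X ⊔ Y)) : ι → F) = (p.1 : ι → F) + (p.2 : ι → F) := by
    intro X Y hXY
    have hinj : Function.Injective (X.subtype.coprod Y.subtype) := by
      refine (injective_iff_map_eq_zero _).2 ?_
      rintro ⟨x, y⟩ hxy
      have hxy' : (x : ι → F) + (y : ι → F) = 0 := hxy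
      have hx : (x : ι → F) = 0 := Submodule.disjoint_def.1 hXY _ x.2 (by
        rw [eq_neg_of_add_eq_zero_left hxy']; exact Y.neg_mem y.2)
      rw [hx, zero_add] at hxy'
      exact Prod.ext (Subtype.ext hx) (Subtype.ext hxy')
    refine ⟨(LinearEquiv.ofInjective _ hinj).trans (LinearEquiv.ofEq _ _ ?_), fun p => rfl⟩
    rw [LinearMap.range_coprod, Submodule.range_subtype, Submodule.range_subtype]
  obtain ⟨E, hE⟩ := key hd
  obtain ⟨E', hE'⟩ := key hd'
  refine ⟨E.symm.trans ((eA.prodCongr eB).trans E'), fun w => ?_⟩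
  obtain ⟨⟨a, b⟩, rfl⟩ := E.surjective w
  rw [LinearEquiv.trans_apply, LinearEquiv.trans_apply, LinearEquiv.symm_apply_apply, hE, hE', LinearEquiv.prodCongr_apply]
  show Q ((eA a : ι → F) + (eB b : ι → F)) = Q ((a : ι → F) + (b : ι → F))
  rw [qadd hQ, qadd hQ, hA, hB, ho' _ (eA a).2 _ (eB b).2, ho _ a.2 _ b.2]

/-- two frames with the same values span isometric subspaces -/
theorem isometric_pair {u v u' v' : ι → F} (hdet : pol Q u v ^ 2 ≠ 4 * Q u * Q v) (hu : Q u' = Q u) (hv : Q v' = Q v)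
    (hp : pol Q u' v' = pol Q u v) :
    AreIsometricFor Q (Submodule.span F {u, v}) (Submodule.span F {u', v'}) := by
  have key : ∀ {x y : ι → F}, pol Q x y ^ 2 ≠ 4 * Q x * Q y →
      ∃ E : (F × F) ≃ₗ[F] Submodule.span F {x, y}, ∀ p : F × F,
        ((E p : Submodule.span F {x, y}) : ι → F) = p.1 • x + p.2 • y := by
    intro x y hxy
    let f : (F × F) →ₗ[F] (ι → F) :=
      ((LinearMap.id : F →ₗ[F] F).smulRight x).coprod ((LinearMap.id : F →ₗ[F] F).smulRight y)
    have hf : ∀ p : F × F, f p = p.1 • x + p.2 • y := fun p => rfl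
    have hinj : Function.Injective f := by
      refine (injective_iff_map_eq_zero _).2 ?_
      rintro ⟨a, b⟩ hab
      rw [hf] at hab
      have e1 := congrArg (fun z => pol Q z x) hab
      have e2 := congrArg (fun z => pol Q z y) hab
      simp only [padd_left hQ, psmul_left hQ, pself hQ, pzero_left hQ] at e1 e2
      rw [pcomm y x] at e1
      have hne : pol Q x y ^ 2 - 4 * Q x * Q y ≠ 0 := sub_ne_zero.2 hxy
      refine Prod.ext ?_ ?_
      · exact (mul_eq_zero.1 (show a * (pol Q x y ^ 2 - 4 * Q x * Q y) = 0 by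
          linear_combination pol Q x y * e2 - 2 * Q y * e1)).resolve_right hne
      · exact (mul_eq_zero.1 (show b * (pol Q x y ^ 2 - 4 * Q x * Q y) = 0 by
          linear_combination pol Q x y * e1 - 2 * Q x * e2)).resolve_right hne
    refine ⟨(LinearEquiv.ofInjective f hinj).trans (LinearEquiv.ofEq _ _ ?_), fun p => rfl⟩
    ext z
    rw [LinearMap.mem_range, Submodule.mem_span_pair]
    exact ⟨fun ⟨p, hp⟩ => ⟨p.1, p.2, hp⟩, fun ⟨a, b, h⟩ => ⟨(a, b), h⟩⟩
  obtain ⟨E, hE⟩ := key hdet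
  obtain ⟨E', hE'⟩ := key (x := u') (y := v') (by rw [hu, hv, hp]; exact hdet)
  refine ⟨E.symm.trans E', fun w => ?_⟩
  obtain ⟨p, rfl⟩ := E.surjective w
  rw [LinearEquiv.trans_apply, LinearEquiv.symm_apply_apply, hE, hE']
  simp only [qadd hQ, qsmul hQ, psmul_left hQ, psmul_right hQ, hu, hv, hp]

end CfsgLib.Perm.Asch.OE
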