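import Cfsg.Agent.Lib.Perm.Asch.OE.TensorCases
import Cfsg.Agent.Lib.Perm.Trans.QuadFrameCases
import Cfsg.Agent.Lib.Perm.Trans.QuadPlusPlane
import Cfsg.Agent.Lib.Perm.Trans.QuadSingFam

/-!
# Maximal subgroups of `Ω` in dimensions eight to twelve: the classes one at a time
-/

set_option autoImplicit false
set_option linter.all false

namespace CfsgLib.Perm.Asch.OE

open scoped Classical Matrix
open Matrix Cfsg.Geo CfsgLib.Perm.Asch CfsgLib.Perm.Trans CfsgLib.Perm.Trans.Quad

variable {ι : Type} [Fintype ι] [DecidableEq ι] {F : Type*} [Field F] [Fintype F]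
variable {Q : (ι → F) → F}

local notation "pol" => QuadraticMap.polar

omit [DecidableEq ι] [Fintype ι] in
theorem odd_card_iff_two : Odd (Fintype.card F) ↔ (2 : F) ≠ 0 := by
  constructor
  · exact fun h => two_ne_zero_of_odd h
  · intro h2
    by_contra hq
    haveI := charTwo_of_even hq
    exact h2 CharTwo.two_eq_zero

omit [DecidableEq ι] [Fintype ι] in
theorem card_ne_six : Fintype.card F ≠ 6 := by
  intro h
  obtain ⟨p, a, hp, -, hcard, -⟩ := exists_char_card (F := F)
  rw [h] at hcard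
  have h2 : 2 ∣ p ^ a := ⟨3, by omega⟩
  have h3 : 3 ∣ p ^ a := ⟨2, by omega⟩
  have e2 := (Nat.prime_dvd_prime_iff_eq Nat.prime_two hp).1 (Nat.prime_two.dvd_of_dvd_pow h2)
  have e3 := (Nat.prime_dvd_prime_iff_eq Nat.prime_three hp).1 (Nat.prime_three.dvd_of_dvd_pow h3)
  omega

theorem mdec_count {t k : ℕ} {D : Fin t → Submodule F (ι → F)} (hD : IsMDecomposition k D) :
    t * k = Fintype.card ι := by
  have hI : DirectSum.IsInternal D :=
    (DirectSum.isInternal_submodule_iff_iSupIndep_and_iSup_eq_top D).2 ⟨hD.indep, hD.iSup_eq_top⟩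
  have := Module.finrank_eq_card_basis
    (hI.collectedBasis fun i => Module.finBasisOfFinrankEq F (D i) (hD.finrank_eq i))
  rw [Module.finrank_fintype_fun_eq_card] at this
  simp at this
  omega

theorem pow_two_ne {n l : ℕ} (hn : 8 < n) (hn' : n ≤ 12) : n ≠ 2 ^ l := by
  intro h
  rcases Nat.lt_or_ge l 4 with hl | hl
  · interval_cases l <;> omega
  · have := Nat.pow_le_pow_right (show 0 < 2 by norm_num) hl
    omega

theorem pow_ne_of_three {n d t : ℕ} (hn : n ≤ 12) (hn' : n ≠ 9) (hd : 3 ≤ d) (ht : 2 ≤ t) : n ≠ d ^ t := by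
  intro h
  have h1 : d ^ 2 ≤ d ^ t := Nat.pow_le_pow_right (by omega) ht
  have h2 : d = 3 := by
    have : d ^ 2 < 4 ^ 2 := by omega
    have := lt_of_pow_lt_pow_left₀ 2 (Nat.zero_le 4) this
    omega
  subst h2
  rcases Nat.lt_or_ge t 3 with h3 | h3
  · interval_cases t; omega
  · have := Nat.pow_le_pow_right (show 0 < 3 by norm_num) h3
    omega

variable (hQ : IsNondegenerateQuadraticForm Q) {H : Subgroup (GL ι F)}
variable (hH : IsMaximalIn (omegaGL Q) H)
include hQ hH

omit hQ in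
theorem max_iso : H ≤ Cfsg.isometryGroup F Q := hH.1.le.trans omegaGL_le_iso

variable (hn : 8 ≤ Fintype.card ι) (hn' : Fintype.card ι ≤ 12)
include hn hn'

theorem case_singular {W : Submodule F (ι → F)} (h0 : W ≠ ⊥) (hs : IsTotallySingularQuad Q W)
    (h : H ≤ subspaceStabilizer W) :
    H = subspaceStabilizer W ⊓ omegaGL Q ∧
      (IsPlusTypeOn Q ⊤ → 2 * (Module.finrank F W + 1) ≠ Fintype.card ι) := by
  have heq := eq_inf hH h (not_le_singular hQ (by omega) h0 hs)
  exact ⟨heq, fun hp hd => not_between hH heq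
    (submaximal_singular_not_maximal hQ (by omega) hd hp hs rfl)⟩

/-- passing to the smaller of a subspace and its orthogonal complement -/
theorem case_nondeg {W : Submodule F (ι → F)} (h0 : W ≠ ⊥) (h1 : W ≠ ⊤) (hW : NdOn Q W) (h : H ≤ subspaceStabilizer W) :
    ∃ V : Submodule F (ι → F), V ≠ ⊥ ∧ V ≠ ⊤ ∧ NdOn Q V ∧ 2 * Module.finrank F V ≤ Fintype.card ι ∧
      1 ≤ Module.finrank F V ∧ H ≤ subspaceStabilizer V ∧ H = subspaceStabilizer V ⊓ omegaGL Q := by
  have main : ∀ V : Submodule F (ι → F), NdOn Q V → H ≤ subspaceStabilizer V → 1 ≤ Module.finrank F V →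
      2 * Module.finrank F V ≤ Fintype.card ι → V ≠ ⊥ ∧ V ≠ ⊤ ∧ NdOn Q V ∧ 2 * Module.finrank F V ≤ Fintype.card ι ∧
      1 ≤ Module.finrank F V ∧ H ≤ subspaceStabilizer V ∧ H = subspaceStabilizer V ⊓ omegaGL Q := by
    intro V hV hle hpos hd
    have e0 : V ≠ ⊥ := Submodule.one_le_finrank_iff.1 hpos
    have e1 : V ≠ ⊤ := fun e => by
      rw [e, finrank_top, Module.finrank_fintype_fun_eq_card] at hd
      omega
    exact ⟨e0, e1, hV, hd, hpos, hle, eq_inf hH hle (not_le_subspace hQ (by omega) e0 e1)⟩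
  have hsum := finrank_qperp_add hQ W
  have hpos : 1 ≤ Module.finrank F W := Submodule.one_le_finrank_iff.2 h0
  have hlt : Module.finrank F W < Fintype.card ι := by
    rw [← Module.finrank_fintype_fun_eq_card F (η := ι)]
    exact Submodule.finrank_lt h1
  by_cases hd : 2 * Module.finrank F W ≤ Fintype.card ι
  · exact ⟨W, main W hW h hpos hd⟩
  · exact ⟨qperp hQ W, main _ (qperp_nd hQ hW) (stab_qperp hQ (max_iso hH) h) (by omega) (by omega)⟩

theorem case_plane {W : Submodule F (ι → F)} (hd : Module.finrank F W = 2) (hW : NdOn Q W)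
    (heq : H = subspaceStabilizer W ⊓ omegaGL Q) (hp : IsPlusTypeOn Q W) : 4 ≤ Fintype.card F := by
  by_contra hq
  exact not_between hH heq (plus_plane_not_maximal hQ (by omega) (by omega) W hd hW hp)

theorem case_point {v : ι → F} (h2 : (2 : F) = 0) (hv : Q v ≠ 0) (h : H ≤ subspaceStabilizer (Submodule.span F {v})) :
    ¬ Odd (Fintype.card F) ∧ H = subspaceStabilizer (Submodule.span F {v}) ⊓ omegaGL Q :=
  ⟨fun ho => odd_card_iff_two.1 ho h2, eq_inf hH h (not_le_point hQ (by omega) hv)⟩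

theorem case_decomposition {t k : ℕ} {D : Fin t → Submodule F (ι → F)} (hD : IsMDecomposition k D)
    (h : H ≤ decompositionStabilizer D) : t * k = Fintype.card ι ∧ H = decompositionStabilizer D ⊓ omegaGL Q :=
  ⟨mdec_count hD, eq_inf hH h (not_le_decomposition hQ hn hn' hD (mdec_count hD))⟩

/-- two nondegenerate halves -/
theorem case_halves {W : Submodule F (ι → F)} {k : ℕ} (hk : Module.finrank F W = k) (h2k : 2 * k = Fintype.card ι)
    (hW : NdOn Q W) (h : H ≤ subspaceStabilizer W) :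
    IsNondegenerateMDecomposition (pol Q) k ![W, qperp hQ W] ∧
      H = decompositionStabilizer ![W, qperp hQ W] ⊓ omegaGL Q ∧
      (AreIsometricFor Q W (qperp hQ W) → IsOrthogonalMDecomposition Q k ![W, qperp hQ W]) := by
  have hD := two_dec hQ hW hk h2k (by omega)
  refine ⟨hD, (case_decomposition hQ hH hn hn' hD.decomp (le_two_dec hQ (max_iso hH) h)).2, fun hi => ⟨hD, ?_⟩⟩
  intro i j
  fin_cases i <;> fin_cases j <;>
    first | exact isometric_refl _ | exact hi | exact isometric_symm hi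

theorem case_pair {k : ℕ} {D : Fin 2 → Submodule F (ι → F)} (hD : IsMDecomposition k D)
    (hs : ∀ i, IsTotallySingularQuad Q (D i)) (h : H ≤ decompositionStabilizer D) :
    2 * k = Fintype.card ι ∧ IsPlusTypeOn Q ⊤ ∧ H = decompositionStabilizer D ⊓ omegaGL Q ∧ ¬ Odd k := by
  obtain ⟨htk, heq⟩ := case_decomposition hQ hH hn hn' hD h
  refine ⟨htk, ⟨D 0, le_top, hs 0, ?_⟩, heq, fun hko =>
    not_between hH heq (singular_pair_not_maximal hQ (by omega) htk hko D hD hs)⟩
  rw [hD.finrank_eq, finrank_top, Module.finrank_fintype_fun_eq_card, htk]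

theorem case_field {r : ℕ} (hr : r.Prime) {K : Subalgebra F (Matrix ι ι F)} (hK : IsFieldSubalgebra r K)
    (h : H ≤ subalgebraNormalizer K) : r ∣ Fintype.card ι ∧ H = subalgebraNormalizer K ⊓ omegaGL Q := by
  haveI : Nonempty ι := Fintype.card_pos_iff.1 (by omega)
  exact ⟨finrank_dvd_card hK, eq_inf hH h (not_le_field hQ (by omega) hr hK)⟩

omit hH hn' in
theorem field_similar_type {K : Subalgebra F (Matrix ι ι F)} (hK : IsFieldSubalgebra 2 K)
    (hd : IsAdjointClosedFor (pol Q) K) (hsim : ∀ k ∈ K, ∃ c : F, ∀ v : ι → F, Q (k *ᵥ v) = c * Q v) :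
    ∃ j, Fintype.card ι = 2 * j ∧ (IsPlusTypeOn Q ⊤ ↔ Even j) := by
  haveI : Nonempty ι := Fintype.card_pos_iff.1 (by omega)
  refine type_of_similar_field hQ hK (fun k hk => ?_) hsim
  obtain ⟨k', hk', e⟩ := hd k hk
  rw [(refl_qG hQ).adj_eq_of_forall (b := k') fun u v => by rw [← pol_eq hQ]; exact e u v]
  exact hk'

omit hH hn' in
theorem field_selfAdjoint_odd {K : Subalgebra F (Matrix ι ι F)} (hK : IsFieldSubalgebra 2 K)
    (hsa : IsSelfAdjointFor (pol Q) K) (h4 : ¬ 4 ∣ Fintype.card ι) : Odd (Fintype.card F) := by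
  haveI : Nonempty ι := Fintype.card_pos_iff.1 (by omega)
  exact odd_card_iff_two.2 fun h2 => h4 (two_mul_dvd_of_selfAdjoint hQ h2 hK hsa)

theorem case_sub (he : Even (Fintype.card ι)) {F₀ : Subfield F} {r : ℕ} {P : GL ι F} {ζ : F} (hr : r.Prime)
    (hc : Fintype.card F = Nat.card F₀ ^ r) (hζ : ζ ≠ 0)
    (hs : IsQuadFormRationalStructure (fun v : ι → F => ζ * Q v) F₀ P) (h : H ≤ subfieldSubgroup F₀ P) :
    H = subfieldSubgroup F₀ P ⊓ omegaGL Q ∧ (¬ IsPlusTypeOn Q ⊤ → Odd r) :=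
  ⟨eq_inf hH h (not_le_subfield hQ hn he hr hc P), fun hm => hr.odd_of_ne_two fun h2 => hm
    (plus_of_rat2 hQ (h2 ▸ hc) hζ hs he)⟩

theorem case_tensor {d k : ℕ} (hd : 2 ≤ d) (hk : 2 ≤ k) (hdk : d + k + 2 < Fintype.card ι)
    {e : ι ≃ Fin d × Fin k} {P : GL ι F} (h : H ≤ tensorProductSubgroup d k e P) :
    H = tensorProductSubgroup d k e P ⊓ omegaGL Q :=
  eq_inf hH h (not_le_tensor hQ (by omega) (by omega) (by omega) (by omega) e P)

omit hH hn' in
/-- alternating factors: one of them is a plane -/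
theorem tensorA_plus {d k : ℕ} (hdk : d = 2 ∨ k = 2) {e : ι ≃ Fin d × Fin k} {P : GL ι F}
    (hp : ∀ (x₁ : Fin d → F) (x₂ : Fin k → F),
      Q ((P : Matrix ι ι F) *ᵥ ((fun a : Fin d × Fin k => x₁ a.1 * x₂ a.2) ∘ e)) = 0) : IsPlusTypeOn Q ⊤ := by
  rcases hdk with rfl | rfl
  · exact plus_of_pure_left hQ e P hp
  · exact plus_of_pure_right hQ e P hp

omit hQ hH hn hn' in
theorem tensor_count {d k : ℕ} (e : ι ≃ Fin d × Fin k) : d * k = Fintype.card ι := by
  rw [Fintype.card_congr e]; simp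

omit hQ hH hn in
theorem tensorS_dims {d k : ℕ} (hd : 3 ≤ d) (hdk : d ≤ k) (e : ι ≃ Fin d × Fin k) :
    d = 3 ∧ 3 * k = Fintype.card ι := by
  have h := tensor_count e
  have h3 : d = 3 := by
    by_contra hne
    have : 4 * 4 ≤ d * k := Nat.mul_le_mul (by omega) (by omega)
    omega
  exact ⟨h3, h3 ▸ h⟩

end CfsgLib.Perm.Asch.OE
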