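import Cfsg.Agent.Lib.Perm.Asch.OE.Cases
import Cfsg.Agent.Lib.Perm.Trans.TensorSympTwo
import Cfsg.Agent.Lib.Perm.Trans.TensorOrthThree

/-!
# Maximal subgroups of `Ω` in dimensions eight to twelve: small fields
-/

set_option autoImplicit false
set_option linter.all false

namespace CfsgLib.Perm.Asch.OE

open scoped Classical Matrix
open Matrix Cfsg.Geo CfsgLib.Perm.Asch CfsgLib.Perm.Trans CfsgLib.Perm.Trans.Quad

variable {ι : Type} [Fintype ι] [DecidableEq ι] {F : Type*} [Field F] [Fintype F]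
variable {Q : (ι → F) → F}

local notation "pol" => QuadraticMap.polar

omit [DecidableEq ι] [Fintype ι] in
theorem mod_four_of_square (h2 : (2 : F) ≠ 0) (h : IsSquare (-1 : F)) : Fintype.card F % 4 = 1 := by
  have h1 := isSquare_neg_one_mod.1 h
  obtain ⟨j, hj⟩ := odd_card_iff_two.2 h2
  omega

omit [DecidableEq ι] [Fintype ι] in
theorem mod_four_of_nonsquare (h : ¬ IsSquare (-1 : F)) : Fintype.card F % 4 = 3 := by
  by_contra h1
  exact h (isSquare_neg_one_mod.2 h1)

variable (hQ : IsNondegenerateQuadraticForm Q) {H : Subgroup (GL ι F)}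
variable (hH : IsMaximalIn (omegaGL Q) H)
include hQ hH

variable (hn : 10 ≤ Fintype.card ι) (hn' : Fintype.card ι ≤ 12)
include hn hn'

theorem plus_planes_card {t : ℕ} {D : Fin t → Submodule F (ι → F)} (hD : IsOrthogonalMDecomposition Q 2 D)
    (heq : H = decompositionStabilizer D ⊓ omegaGL Q) (hp : ∀ i, IsPlusTypeOn Q (D i)) :
    7 ≤ Fintype.card F := by
  by_contra hlt
  have h1 := Fintype.one_lt_card (α := F)
  have h6 := card_ne_six (F := F)
  obtain ⟨i⟩ : Nonempty (Fin t) := ⟨⟨0, by have := hD.decomp.decomp.two_le; omega⟩⟩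
  obtain ⟨x, hx, hx0, hQx⟩ := (plane_plus_iff hQ (hD.decomp.decomp.finrank_eq i)).1 (hp i)
  rcases (show (Fintype.card F = 3 ∨ Fintype.card F = 5) ∨ (Fintype.card F = 2 ∨ Fintype.card F = 4) by omega) with
    hq | hq
  · exact not_between hH heq (plus_lines_not_maximal hQ hD hn rfl hq hx hx0 hQx)
  · exact not_between hH heq (plus_lattice_not_maximal hQ hD hn rfl hq hp)

theorem minus_planes_card {t : ℕ} {D : Fin t → Submodule F (ι → F)} (hD : IsOrthogonalMDecomposition Q 2 D)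
    (heq : H = decompositionStabilizer D ⊓ omegaGL Q) (hm : ∀ i, ¬ IsPlusTypeOn Q (D i)) :
    Fintype.card F ≠ 3 := fun hq => by
  obtain ⟨i⟩ : Nonempty (Fin t) := ⟨⟨0, by have := hD.decomp.decomp.two_le; omega⟩⟩
  refine not_between hH heq (minus_lines_not_maximal hQ hD hn rfl hq (i := i) fun x hx hQx => ?_)
  by_contra hx0
  exact hm i ((plane_plus_iff hQ (hD.decomp.decomp.finrank_eq i)).2 ⟨x, hx, hx0, hQx⟩)

theorem triples_card {t : ℕ} {D : Fin t → Submodule F (ι → F)} (hD : IsOrthogonalMDecomposition Q 3 D)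
    (heq : H = decompositionStabilizer D ⊓ omegaGL Q) : Odd (Fintype.card F) ∧ 5 ≤ Fintype.card F := by
  have i : Fin t := ⟨0, by have := hD.decomp.decomp.two_le; omega⟩
  have hodd : Odd (Fintype.card F) := odd_card_iff_two.2 (two_ne_of_odd_nd hQ (hD.decomp.nondegenerate i)
    (by rw [hD.decomp.decomp.finrank_eq]; decide))
  refine ⟨hodd, ?_⟩
  by_contra hlt
  have h1 := Fintype.one_lt_card (α := F)
  obtain ⟨j, hj⟩ := hodd
  exact not_between hH heq (triple_lines_not_maximal hQ hD hn rfl (by omega) i)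

theorem fours_card {t : ℕ} {D : Fin t → Submodule F (ι → F)} (hD : IsOrthogonalMDecomposition Q 4 D)
    (heq : H = decompositionStabilizer D ⊓ omegaGL Q) (hp : ∀ i, IsPlusTypeOn Q (D i)) :
    3 ≤ Fintype.card F := by
  by_contra hlt
  have h1 := Fintype.one_lt_card (α := F)
  exact not_between hH heq (plus_four_not_maximal hQ hD hn rfl (by omega) hp)

theorem symp_pair_card {e : ι ≃ Fin 2 × Fin 6} {P : GL ι F} {f₁ : (Fin 2 → F) → (Fin 2 → F) → F}
    {f₂ : (Fin 6 → F) → (Fin 6 → F) → F} (h₁ : IsSymplecticForm f₁) (h₂ : IsSymplecticForm f₂)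
    (hs : IsTensorFormStructure id (pol Q) f₁ f₂ e P) (hp : ∀ x y, Q (pt2 e P x y) = 0)
    (heq : H = tensorProductSubgroup 2 6 e P ⊓ omegaGL Q) : 3 ≤ Fintype.card F := by
  by_contra hlt
  have h1 := Fintype.one_lt_card (α := F)
  exact not_between hH heq (CfsgLib.Perm.Trans.TensorSympTwo.symp_two_not_maximal (by omega) (by omega) (by norm_num)
    hQ h₁ h₂ hs hp)

theorem orth_three_card {e : ι ≃ Fin 3 × Fin 4} {P : GL ι F} {f₁ : (Fin 3 → F) → (Fin 3 → F) → F}
    {f₂ : (Fin 4 → F) → (Fin 4 → F) → F} (h2 : (2 : F) ≠ 0) (h₁ : IsSymmetricForm f₁) (h₂ : IsSymmetricForm f₂)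
    (hs : IsTensorFormStructure id (pol Q) f₁ f₂ e P)
    (heq : H = tensorProductSubgroup 3 4 e P ⊓ omegaGL Q) : 5 ≤ Fintype.card F := by
  by_contra hlt
  have h1 := Fintype.one_lt_card (α := F)
  obtain ⟨j, hj⟩ := odd_card_iff_two.2 h2
  exact not_between hH heq (CfsgLib.Perm.Trans.TensorOrthThree.orth_three_not_maximal (by omega) (by omega)
    (by norm_num) hQ h₁ h₂ hs)

theorem case_pair26 {e : ι ≃ Fin 2 × Fin 6} {P : GL ι F} {f₁ : (Fin 2 → F) → (Fin 2 → F) → F}
    {f₂ : (Fin 6 → F) → (Fin 6 → F) → F} (h₁ : IsSymplecticForm f₁) (h₂ : IsSymplecticForm f₂)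
    (hs : IsTensorFormStructure id (pol Q) f₁ f₂ e P) (hp : ∀ x y, Q (pt2 e P x y) = 0)
    (h : H ≤ tensorProductSubgroup 2 6 e P) :
    3 ≤ Fintype.card F ∧ H = tensorProductSubgroup 2 6 e P ⊓ omegaGL Q := by
  have hc := tensor_count e
  have heq := case_tensor hQ hH (by omega) hn' (by norm_num) (by norm_num) (by omega) h
  exact ⟨symp_pair_card hQ hH hn hn' h₁ h₂ hs hp heq, heq⟩

end CfsgLib.Perm.Asch.OE
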