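import Cfsg.Agent.Lib.Perm.Asch.OE.Types3

/-!
# The geometric classes of an orthogonal group in even dimension
-/

set_option autoImplicit false
set_option linter.all false

namespace CfsgLib.Perm.Asch.OE

open scoped Classical Matrix
open Matrix Cfsg.Geo CfsgLib.Perm.Asch CfsgLib.Perm.Trans CfsgLib.Perm.Trans.Quad

variable {ι : Type} [Fintype ι] [DecidableEq ι] {F : Type*} [Field F] [Fintype F]

local notation "pol" => QuadraticMap.polar

/-- the possible structures preserved by a subgroup of the isometry group -/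
inductive OEClass (Q : (ι → F) → F) (H : Subgroup (GL ι F)) : Prop where
  | singular {W : Submodule F (ι → F)} (h0 : W ≠ ⊥) (hs : IsTotallySingularQuad Q W) (h : H ≤ subspaceStabilizer W) :
      OEClass Q H
  | nondeg {W : Submodule F (ι → F)} (h0 : W ≠ ⊥) (h1 : W ≠ ⊤) (hn : NdOn Q W) (h : H ≤ subspaceStabilizer W) :
      OEClass Q H
  | point {v : ι → F} (h2 : (2 : F) = 0) (hv : Q v ≠ 0) (h : H ≤ subspaceStabilizer (Submodule.span F {v})) :
      OEClass Q H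
  | dec {t k : ℕ} {D : Fin t → Submodule F (ι → F)}
      (hk : 1 < k ∨ (k = 1 ∧ (Fintype.card F).Prime ∧ (2 : F) ≠ 0))
      (hD : IsOrthogonalMDecomposition Q k D) (h : H ≤ decompositionStabilizer D) : OEClass Q H
  | pair {k : ℕ} {D : Fin 2 → Submodule F (ι → F)} (hD : IsMDecomposition k D)
      (hs : ∀ i, IsTotallySingularQuad Q (D i)) (h : H ≤ decompositionStabilizer D) : OEClass Q H
  | field {r : ℕ} {K : Subalgebra F (Matrix ι ι F)} (hr : r.Prime) (hK : IsFieldSubalgebra r K)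
      (hne : r = 2 ∨ Fintype.card ι ≠ 2 * r)
      (hcl : IsSelfAdjointFor (QuadraticMap.polar Q) K ∨ (r = 2 ∧ IsAdjointClosedFor (QuadraticMap.polar Q) K ∧
        ¬ IsSelfAdjointFor (QuadraticMap.polar Q) K ∧ ∀ k ∈ K, ∃ c : F, ∀ v : ι → F, Q (k *ᵥ v) = c * Q v))
      (h : H ≤ subalgebraNormalizer K) : OEClass Q H
  | sub {F₀ : Subfield F} {r : ℕ} {P : GL ι F} {ζ : F} (hr : r.Prime) (hc : Fintype.card F = Nat.card F₀ ^ r)
      (hζ : ζ ≠ 0) (hs : IsQuadFormRationalStructure (fun v : ι → F => ζ * Q v) F₀ P)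
      (h : H ≤ subfieldSubgroup F₀ P) : OEClass Q H
  | tensorA {d k : ℕ} (e : ι ≃ Fin d × Fin k) (P : GL ι F) {f₁ : (Fin d → F) → (Fin d → F) → F}
      {f₂ : (Fin k → F) → (Fin k → F) → F} (hd : 2 ≤ d) (hk : 2 ≤ k) (h₁ : IsSymplecticForm f₁)
      (h₂ : IsSymplecticForm f₂) (hs : IsTensorFormStructure id (QuadraticMap.polar Q) f₁ f₂ e P)
      (hp : ∀ (x₁ : Fin d → F) (x₂ : Fin k → F),
        Q ((P : Matrix ι ι F) *ᵥ ((fun a : Fin d × Fin k => x₁ a.1 * x₂ a.2) ∘ e)) = 0)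
      (h : H ≤ tensorProductSubgroup d k e P) : OEClass Q H
  | tensorS {d k : ℕ} (e : ι ≃ Fin d × Fin k) (P : GL ι F) {f₁ : (Fin d → F) → (Fin d → F) → F}
      {f₂ : (Fin k → F) → (Fin k → F) → F} (h2 : (2 : F) ≠ 0) (hd : 3 ≤ d) (hdk : d ≤ k)
      (h₁ : IsSymmetricForm f₁) (h₂ : IsSymmetricForm f₂)
      (hs : IsTensorFormStructure id (QuadraticMap.polar Q) f₁ f₂ e P)
      (h : H ≤ tensorProductSubgroup d k e P) : OEClass Q H
  | sym (h2 : (2 : F) ≠ 0) {a : Matrix ι ι F} (haQ : ∀ x, Q (a *ᵥ x) = Q x) (ha : a * a = -1)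
      (hn : ∃ l, Fintype.card ι = 2 ^ l) : OEClass Q H
  | powerTwo (hn : ∃ t, 2 ≤ t ∧ Fintype.card ι = 2 ^ t) (hp : IsPlusTypeOn Q ⊤) : OEClass Q H
  | power {d t : ℕ} (hd : 3 ≤ d) (ht : 2 ≤ t) (hn : Fintype.card ι = d ^ t) : OEClass Q H

variable {Q : (ι → F) → F} (hQ : IsNondegenerateQuadraticForm Q) {H : Subgroup (GL ι F)}
include hQ

/-- the value of an orthogonal combination -/
theorem q_sum {α : Type*} (s : Finset α) (c : α → F) (w : α → ι → F) (hw : ∀ i j, i ≠ j → pol Q (w i) (w j) = 0) :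
    Q (∑ i ∈ s, c i • w i) = ∑ i ∈ s, c i ^ 2 * Q (w i) := by
  classical
  induction s using Finset.induction_on with
  | empty => simp [qzero hQ]
  | @insert a s ha ih =>
    rw [Finset.sum_insert ha, Finset.sum_insert ha, qadd hQ, qsmul hQ, ih, psmul_left hQ]
    have h0 : pol Q (w a) (∑ i ∈ s, c i • w i) = 0 := by
      rw [Quad.pcomm]
      show pfl hQ (w a) (∑ i ∈ s, c i • w i) = 0
      rw [map_sum]
      refine Finset.sum_eq_zero fun i hi => ?_
      show pol Q (c i • w i) (w a) = 0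
      rw [psmul_left hQ, hw i a (fun h => ha (h ▸ hi)), mul_zero]
    rw [h0, mul_zero, add_zero]

/-- a group permuting, up to scalars, an orthogonal basis of equal values over a non-prime field -/
theorem sub_of_frame [Nonempty ι] (hI : H ≤ Cfsg.isometryGroup F Q) (hq : ¬ (Fintype.card F).Prime)
    (w : ι → ι → F) {d : F} (hd : d ≠ 0) (hwQ : ∀ i, Q (w i) = d) (hli : LinearIndependent F w)
    (hwo : ∀ i j, i ≠ j → pol Q (w i) (w j) = 0)
    (hperm : ∀ g ∈ H, ∀ i, ∃ j, ∃ s : F, (g : Matrix ι ι F) *ᵥ w i = s • w j) : OEClass Q H := by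
  obtain ⟨p, a, hp', hcp, hcard', ha⟩ := exists_char_card (F := F)
  haveI := hcp
  haveI : Fact p.Prime := ⟨hp'⟩
  have hne : (⊥ : Subfield F) ≠ ⊤ := by
    intro h
    refine hq ?_
    have h1 : Nat.card (⊥ : Subfield F) = Fintype.card F := by
      rw [h, Nat.card_congr Subfield.topEquiv.toEquiv, Nat.card_eq_fintype_card]
    rw [← h1]
    have hbot : Nat.card (⊥ : Subfield F) = p := Subfield.card_bot F p
    rw [hbot]
    exact hp'
  obtain ⟨F₁, r, -, hr, hc⟩ := exists_prime_index_subfield (⊥ : Subfield F) hne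
  set Bm : Matrix ι ι F := Matrix.of fun a b => w b a with hBm
  have hmul : ∀ u, Bm *ᵥ u = ∑ b, u b • w b := fun u => by
    funext x
    simp [hBm, mulVec, dotProduct, mul_comm]
  have hdet : Bm.det ≠ 0 := fun h0 => by
    obtain ⟨v, hv, hv0⟩ := Matrix.exists_mulVec_eq_zero_iff.2 h0
    rw [hmul] at hv0
    exact hv (funext fun i => Fintype.linearIndependent_iff.1 hli v hv0 i)
  set B : GL ι F := Matrix.GeneralLinearGroup.mkOfDetNeZero Bm hdet with hB
  have hcol : ∀ b, (B : Matrix ι ι F) *ᵥ Pi.single b 1 = w b := fun b => by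
    show Bm *ᵥ _ = _
    funext x
    simp [hBm, mulVec_single]
  refine .sub (P := B) (ζ := d⁻¹) hr hc (inv_ne_zero hd) (fun u hu => ?_) fun g hg => ?_
  · show d⁻¹ * Q (Bm *ᵥ u) ∈ F₁
    rw [hmul, q_sum hQ _ _ _ hwo, Finset.mul_sum]
    refine sum_mem fun b _ => ?_
    rw [hwQ, show d⁻¹ * (u b ^ 2 * d) = u b ^ 2 * (d⁻¹ * d) by ring, inv_mul_cancel₀ hd, mul_one]
    exact F₁.pow_mem (hu b) 2
  · refine mem_subfieldSubgroup_of (s := 1) one_ne_zero fun a b => ?_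
    rw [inv_one, one_mul]
    obtain ⟨j, t, ht⟩ := hperm g hg b
    have hsq : t = 1 ∨ t = -1 := by
      have h1 := Quad.mem_iso.1 (hI hg) (w b)
      rw [ht, qsmul hQ, hwQ, hwQ] at h1
      exact mul_self_eq_one_iff.1 (mul_right_cancel₀ hd (by rw [one_mul]; linear_combination h1))
    have hcolg : cj B⁻¹ (g : Matrix ι ι F) *ᵥ Pi.single b 1 = t • Pi.single j 1 := by
      rw [cj, inv_inv, mul_assoc, ← mulVec_mulVec, ← mulVec_mulVec, hcol, ht, mulVec_smul, ← hcol, mulVec_mulVec,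
        Asch.gl_inv_mul, one_mulVec]
    have := congrFun hcolg a
    rw [mulVec_single_one] at this
    simp only [Matrix.col_apply, Pi.smul_apply, smul_eq_mul] at this
    rw [this, Pi.single_apply]
    split_ifs
    · rw [mul_one]
      rcases hsq with h | h <;> rw [h]
      · exact F₁.one_mem
      · exact F₁.neg_mem F₁.one_mem
    · rw [mul_zero]; exact F₁.zero_mem

theorem maps_qperp (hI : H ≤ Cfsg.isometryGroup F Q) {W : Submodule F (ι → F)}
    (hinv : ∀ g ∈ H, ∀ w ∈ W, (g : Matrix ι ι F) *ᵥ w ∈ W) :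
    ∀ g ∈ H, ∀ w ∈ qperp hQ W, (g : Matrix ι ι F) *ᵥ w ∈ qperp hQ W := by
  intro g hg w hw u hu
  have h1 := hinv g⁻¹ (H.inv_mem hg) u hu
  conv_lhs => rw [← Trans.gl_mulVec_inv g u, iso_pol (hI hg)]
  exact hw _ h1

theorem oe_irred (hI : H ≤ Cfsg.isometryGroup F Q) (hH : ¬ OEClass Q H) : Irred H := by
  intro W hW
  by_contra hcon
  push Not at hcon
  obtain ⟨h0, h1⟩ := hcon
  have hinv : ∀ g ∈ H, ∀ w ∈ W, (g : Matrix ι ι F) *ᵥ w ∈ W :=
    fun g hg w hw => hW _ (mem_matrixSet hg) ⟨w, hw, rfl⟩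
  by_cases hR : W ⊓ qperp hQ W = ⊥
  · refine hH (.nondeg h0 h1 ?_ (subspaceStabilizer_mem hinv))
    show IsNondegenerateOn (pol Q) W
    rw [pol_eq hQ]
    exact (refl_qG hQ).nondegenerateOn (by rw [perp_eq hQ]; exact hR)
  have hRinv : ∀ g ∈ H, ∀ w ∈ W ⊓ qperp hQ W, (g : Matrix ι ι F) *ᵥ w ∈ W ⊓ qperp hQ W :=
    fun g hg w hw => ⟨hinv g hg w hw.1, maps_qperp hQ hI hinv g hg w hw.2⟩
  have hself : ∀ u ∈ W ⊓ qperp hQ W, (2 : F) * Q u = 0 := fun u hu => by rw [← pself hQ]; exact hu.2 u hu.1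
  by_cases hs : ∀ u ∈ W ⊓ qperp hQ W, Q u = 0
  · exact hH (.singular hR hs (subspaceStabilizer_mem hRinv))
  push Not at hs
  obtain ⟨v, hv, hQv⟩ := hs
  have h2 : (2 : F) = 0 := (mul_eq_zero.1 (hself v hv)).resolve_right hQv
  let Z : Submodule F (ι → F) :=
    { carrier := {u | u ∈ W ⊓ qperp hQ W ∧ Q u = 0}
      zero_mem' := ⟨Submodule.zero_mem _, qzero hQ⟩
      add_mem' := fun {a b} ha hb => ⟨Submodule.add_mem _ ha.1 hb.1, by
        rw [qadd hQ, ha.2, hb.2, ha.1.2 b hb.1.1, add_zero, add_zero]⟩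
      smul_mem' := fun c a ha => ⟨Submodule.smul_mem _ _ ha.1, by rw [qsmul hQ, ha.2, mul_zero]⟩ }
  by_cases hZ : Z = ⊥
  · refine hH (.point h2 hQv (subspaceStabilizer_mem fun g hg w hw => ?_))
    obtain ⟨c, rfl⟩ := Submodule.mem_span_singleton.1 hw
    rw [mulVec_smul]
    refine Submodule.smul_mem _ _ ?_
    obtain ⟨u, hu⟩ : ∃ u, u = (g : Matrix ι ι F) *ᵥ v := ⟨_, rfl⟩
    have hum : u ∈ W ⊓ qperp hQ W := hu ▸ hRinv g hg v hv
    have hQu : Q u = Q v := by rw [hu]; exact Quad.mem_iso.1 (hI hg) v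
    have h3 : u + v = 0 := (Submodule.eq_bot_iff Z).1 hZ _ ⟨Submodule.add_mem _ hum hv, by
      rw [qadd hQ, hQu, hum.2 v hv.1, add_zero]; linear_combination (Q v) * h2⟩
    rw [← hu, eq_neg_of_add_eq_zero_left h3]
    exact Submodule.neg_mem _ (Submodule.mem_span_singleton_self v)
  · exact hH (.singular hZ (fun u hu => hu.2) (subspaceStabilizer_mem fun g hg w hw =>
      ⟨hRinv g hg w hw.1, by rw [Quad.mem_iso.1 (hI hg)]; exact hw.2⟩))

end CfsgLib.Perm.Asch.OE
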