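import Cfsg.Agent.Lib.Perm.Asch.OE.Class

/-!
# Field extensions normalised by irreducible orthogonal groups
-/

set_option autoImplicit false
set_option linter.all false

namespace CfsgLib.Perm.Asch.OE

open scoped Classical Matrix
open Matrix Cfsg.Geo CfsgLib.Perm.Asch CfsgLib.Perm.Trans CfsgLib.Perm.Trans.Quad

variable {ι : Type} [Fintype ι] [DecidableEq ι] {F : Type*} [Field F] [Fintype F]
variable {Q : (ι → F) → F}

local notation "pol" => QuadraticMap.polar

/-- the adjoint on a field is a power of the Frobenius -/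
theorem adj_frob [Nonempty ι] {G : Matrix ι ι F} (hG : Refl (RingHom.id F) G) {r : ℕ}
    {K : Subalgebra F (Matrix ι ι F)} (hK : IsFieldSubalgebra r K)
    (hd : AdjClosed (RingHom.id F) G (K : Set (Matrix ι ι F))) :
    ∃ j : ℕ, r ∣ 2 * j ∧ (r ∣ j → ∀ x ∈ K, adj (RingHom.id F) G x = x) ∧
      ∀ x ∈ K, adj (RingHom.id F) G x = x ^ (Fintype.card F ^ j) := by
  obtain ⟨p, a, hp, hcp, hcard, ha⟩ := exists_char_card (F := F)
  haveI := hcp
  haveI : Fact p.Prime := ⟨hp⟩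
  obtain ⟨hfix, hfrob⟩ := fieldSubalgebra_frob hK hcard
  obtain ⟨i, hi⟩ := hfrob (adj (RingHom.id F) G) (fun x hx => hd x hx) hG.adj_one (fun x _ y _ => hG.adj_add x y)
    (fun x hx y hy => by rw [hG.adj_mul]; exact hK.comm _ (hd y hy) _ (hd x hx))
  have hai : a ∣ i := (pow_fix_iff_field hcard i).1 fun c => by
    have h1 := hi _ (sc_mem K c)
    rw [hG.adj_smul, hG.adj_one, smul_pow, one_pow] at h1
    have := congrFun (congrFun h1 (Classical.arbitrary ι)) (Classical.arbitrary ι)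
    simpa using this.symm
  have h2i : a * r ∣ i + i := (hfix _).1 fun x hx => by
    rw [pow_add, pow_mul, ← hi x hx, ← hi _ (hd x hx), hG.adj_adj]
  obtain ⟨j, rfl⟩ := hai
  refine ⟨j, ?_, fun hj x hx => ?_, fun x hx => ?_⟩
  · rw [← mul_add] at h2i
    rw [two_mul]
    exact Nat.dvd_of_mul_dvd_mul_left ha h2i
  · rw [hi x hx]
    exact (hfix _).2 (Nat.mul_dvd_mul_left a hj) x hx
  · rw [hi x hx, hcard, pow_mul]

/-- fields of odd prime degree are self-adjoint -/
theorem adj_eq_of_odd [Nonempty ι] {G : Matrix ι ι F} (hG : Refl (RingHom.id F) G) {r : ℕ} (hr : r.Prime)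
    (hr2 : r ≠ 2) {K : Subalgebra F (Matrix ι ι F)} (hK : IsFieldSubalgebra r K)
    (hd : AdjClosed (RingHom.id F) G (K : Set (Matrix ι ι F))) : ∀ x ∈ K, adj (RingHom.id F) G x = x := by
  obtain ⟨j, h1, h2, -⟩ := adj_frob hG hK hd
  exact h2 ((hr.dvd_mul.1 h1).resolve_left fun h => hr2 ((Nat.prime_dvd_prime_iff_eq hr Nat.prime_two).1 h))

/-- the elements fixed by the Frobenius of the base field are scalars -/
theorem scalar_of_pow_card [Nonempty ι] {r : ℕ} {K : Subalgebra F (Matrix ι ι F)} (hK : IsFieldSubalgebra r K)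
    {x : Matrix ι ι F} (hx : x ∈ K) (hq : x ^ Fintype.card F = x) : ∃ c : F, x = c • (1 : Matrix ι ι F) := by
  obtain ⟨K₁, -, hK₁, hmem⟩ := exists_subfield_subalgebra hK.comm hK.inv one_pos (one_dvd _)
  have hbot : K₁ = ⊥ := Subalgebra.eq_bot_of_finrank_one hK₁.finrank_eq
  exact mem_bot_iff.1 (hbot ▸ (hmem x).2 ⟨hx, by rwa [pow_one]⟩)

variable (hQ : IsNondegenerateQuadraticForm Q) {H : Subgroup (GL ι F)}
include hQ

/-- a normalised quadratic field gives a class -/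
theorem class_two [Nonempty ι] (hn : 5 ≤ Fintype.card ι) (hI : H ≤ Cfsg.isometryGroup F Q) (hirr : Irred H)
    {K : Subalgebra F (Matrix ι ι F)} (hK : IsFieldSubalgebra 2 K)
    (hd : AdjClosed (RingHom.id F) (qG Q) (K : Set (Matrix ι ι F))) (hn' : Normalises H K) : OEClass Q H := by
  have hG := refl_qG hQ
  have hle := hn'.le_normalizer
  by_cases hsa : ∀ x ∈ K, adj (RingHom.id F) (qG Q) x = x
  · exact .field Nat.prime_two hK (Or.inl rfl) (Or.inl ((selfAdjointFor_iff hQ).2 hsa)) hle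
  refine .field Nat.prime_two hK (Or.inl rfl) (Or.inr ⟨rfl, adjClosedFor_of hQ hd,
    fun h => hsa ((selfAdjointFor_iff hQ).1 h), ?_⟩) hle
  -- the adjoint is the Frobenius
  obtain ⟨p, a, hp, hcp, hcard, ha⟩ := exists_char_card (F := F)
  haveI := hcp
  haveI : Fact p.Prime := ⟨hp⟩
  obtain ⟨j, -, hj2, hj⟩ := adj_frob hG hK hd
  have hjodd : ∃ l, j = 2 * l + 1 := ⟨j / 2, by
    have : ¬ 2 ∣ j := fun h => hsa (hj2 h)
    omega⟩
  have hfix : ∀ x ∈ K, adj (RingHom.id F) (qG Q) x = x → ∃ c : F, x = c • (1 : Matrix ι ι F) := by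
    intro x hx hxa
    obtain ⟨l, rfl⟩ := hjodd
    refine scalar_of_pow_card hK hx ?_
    have hper : ∀ y ∈ K, ∀ l, y ^ (Fintype.card F ^ (2 * l)) = y := fun y hy l => by
      rw [hcard, ← pow_mul]
      exact ((fieldSubalgebra_frob hK hcard).1 _).2 (Nat.mul_dvd_mul_left a (dvd_mul_right 2 l)) y hy
    have h1 := hj x hx
    rw [hxa, pow_succ, pow_mul, hper x hx] at h1
    exact h1.symm
  have hN : ∀ k : K, ∃ c : F, adj (RingHom.id F) (qG Q) (k : Matrix ι ι F) * k = c • (1 : Matrix ι ι F) :=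
    fun k => hfix _ (K.mul_mem (hd _ k.2) k.2) (by rw [hG.adj_mul, hG.adj_adj])
  choose N hN using hN
  have hpk : ∀ (k : K) (x y : ι → F),
      pol Q ((k : Matrix ι ι F) *ᵥ x) ((k : Matrix ι ι F) *ᵥ y) = N k * pol Q x y := fun k x y => by
    rw [adj_pol hQ, mulVec_mulVec, hN, smul_mulVec, one_mulVec, psmul_right hQ]
  let Dk : K → (ι → F) → F := fun k x => Q ((k : Matrix ι ι F) *ᵥ x) - N k * Q x
  have hadd : ∀ k x y, Dk k (x + y) = Dk k x + Dk k y := fun k x y => by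
    simp only [Dk]
    rw [mulVec_add, qadd hQ, qadd hQ x y, hpk]
    ring
  have hsq : ∀ k (c : F) x, Dk k (c • x) = c ^ 2 * Dk k x := fun k c x => by
    simp only [Dk]
    rw [mulVec_smul, qsmul hQ, qsmul hQ]
    ring
  -- the common kernel
  let W : Submodule F (ι → F) :=
    { carrier := {x | ∀ k, Dk k x = 0}
      zero_mem' := fun k => by simp [Dk, qzero hQ]
      add_mem' := fun {x y} hx hy k => by rw [hadd, hx k, hy k, add_zero]
      smul_mem' := fun c x hx k => by rw [hsq, hx k, mul_zero] }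
  have hone : ((1 : Matrix ι ι F) ≠ 0) := one_ne_zero
  have hW : ∀ g ∈ H, ∀ x ∈ W, (g : Matrix ι ι F) *ᵥ x ∈ W := by
    intro g hg x hx k
    obtain ⟨k', hk'⟩ : ∃ k' : K, (k' : Matrix ι ι F) = cj g⁻¹ (k : Matrix ι ι F) :=
      ⟨⟨_, hn' _ (H.inv_mem hg) _ k.2⟩, rfl⟩
    have hNk : N k' = N k := by
      have h1 := hN k'
      rw [hk', hG.adj_cj (iso_le hQ (hI (H.inv_mem hg))), ← cj_mul, hN, cj_smul, cj_one] at h1
      exact smul_left_injective F hone h1.symm
    have hgk : (k : Matrix ι ι F) *ᵥ ((g : Matrix ι ι F) *ᵥ x) =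
        (g : Matrix ι ι F) *ᵥ ((k' : Matrix ι ι F) *ᵥ x) := by
      rw [mulVec_mulVec, mulVec_mulVec, hk', cj, inv_inv, ← mul_assoc, ← mul_assoc, Asch.gl_mul_inv, one_mul]
    show Q _ - N k * Q _ = 0
    rw [hgk, Quad.mem_iso.1 (hI hg), Quad.mem_iso.1 (hI hg), ← hNk]
    exact hx k'
  -- a generator
  obtain ⟨k₀, hk₀⟩ : ∃ k₀ : K, ∀ k : K, ∃ s t : F,
      (k : Matrix ι ι F) = s • (1 : Matrix ι ι F) + t • (k₀ : Matrix ι ι F) := by
    obtain ⟨k₀, hk₀⟩ : ∃ k₀ : K, k₀ ∉ Submodule.span F ({1} : Set K) := by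
      by_contra hcon
      push Not at hcon
      have h1 : (⊤ : Submodule F K) ≤ Submodule.span F {1} := fun x _ => hcon x
      have h2 := Submodule.finrank_mono h1
      rw [finrank_top, finrank_span_singleton (fun h => hone (congrArg Subtype.val h)), hK.finrank_eq] at h2
      omega
    refine ⟨k₀, fun k => ?_⟩
    have hli : LinearIndependent F ![(1 : K), k₀] := by
      rw [LinearIndependent.pair_iff' (fun h => hone (congrArg Subtype.val h))]
      exact fun s hs => hk₀ (Submodule.mem_span_singleton.2 ⟨s, hs⟩)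
    have hspan := hli.span_eq_top_of_card_eq_finrank (by rw [Fintype.card_fin]; exact hK.finrank_eq.symm)
    obtain ⟨c, hc⟩ := (Submodule.mem_span_range_iff_exists_fun F).1 (hspan ▸ Submodule.mem_top : k ∈ _)
    rw [Fin.sum_univ_two] at hc
    refine ⟨c 0, c 1, ?_⟩
    have := congrArg Subtype.val hc
    simpa using this.symm
  obtain ⟨T, hT⟩ : ∃ T : F, (k₀ : Matrix ι ι F) + adj (RingHom.id F) (qG Q) k₀ = T • (1 : Matrix ι ι F) :=
    hfix _ (K.add_mem k₀.2 (hd _ k₀.2)) (by rw [hG.adj_add, hG.adj_adj, add_comm])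
  let E : (ι → F) → F := fun x => pol Q x ((k₀ : Matrix ι ι F) *ᵥ x) - T * Q x
  have hEadd : ∀ x y, E (x + y) = E x + E y := fun x y => by
    have h1 : pol Q x ((k₀ : Matrix ι ι F) *ᵥ y) + pol Q y ((k₀ : Matrix ι ι F) *ᵥ x) = T * pol Q x y := by
      rw [Quad.pcomm y, adj_pol hQ, ← padd_right hQ, ← add_mulVec, hT, smul_mulVec, one_mulVec, psmul_right hQ]
    simp only [E]
    rw [mulVec_add, padd_left hQ, padd_right hQ, padd_right hQ, qadd hQ x y]
    linear_combination h1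
  have hEsq : ∀ (c : F) x, E (c • x) = c ^ 2 * E x := fun c x => by
    simp only [E]
    rw [mulVec_smul, psmul_left hQ, psmul_right hQ, qsmul hQ]
    ring
  have hsub : sqKer (Dk k₀) (hadd k₀) (hsq k₀) ⊓ sqKer E hEadd hEsq ≤ W := by
    rintro x ⟨h1, h2⟩ k
    have h1 : Q ((k₀ : Matrix ι ι F) *ᵥ x) - N k₀ * Q x = 0 := h1
    have h2 : pol Q x ((k₀ : Matrix ι ι F) *ᵥ x) - T * Q x = 0 := h2
    obtain ⟨s, t, hk⟩ := hk₀ k
    have hNk : N k = s ^ 2 + s * t * T + t ^ 2 * N k₀ := by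
      refine smul_left_injective F hone ?_
      show N k • (1 : Matrix ι ι F) = _ • (1 : Matrix ι ι F)
      rw [← hN k, hk, hG.adj_add, hG.adj_smul, hG.adj_smul, hG.adj_one, add_mul, mul_add, mul_add]
      simp only [RingHom.id_apply, smul_mul_assoc, mul_smul_comm, one_mul, mul_one, smul_smul, hN k₀]
      rw [show (s ^ 2 + s * t * T + t ^ 2 * N k₀) • (1 : Matrix ι ι F) =
          s ^ 2 • (1 : Matrix ι ι F) + (s * t) • (T • (1 : Matrix ι ι F)) + (t ^ 2 * N k₀) • 1 by module, ← hT]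
      module
    show Q ((k : Matrix ι ι F) *ᵥ x) - N k * Q x = 0
    rw [hk, add_mulVec, smul_mulVec, smul_mulVec, one_mulVec, qadd hQ, qsmul hQ, qsmul hQ, psmul_left hQ,
      psmul_right hQ, hNk]
    linear_combination t ^ 2 * h1 + s * t * h2
  have hWne : W ≠ ⊥ := by
    intro hb
    have h1 := sqKer_finrank (hadd k₀) (hsq k₀)
    have h2 := sqKer_finrank hEadd hEsq
    have h3 := Submodule.finrank_sup_add_finrank_inf_eq (sqKer (Dk k₀) (hadd k₀) (hsq k₀)) (sqKer E hEadd hEsq)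
    have h4 := Submodule.finrank_le (sqKer (Dk k₀) (hadd k₀) (hsq k₀) ⊔ sqKer E hEadd hEsq)
    have h5 := Submodule.finrank_mono hsub
    rw [hb, finrank_bot] at h5
    rw [Module.finrank_fintype_fun_eq_card] at h4
    omega
  intro k hk
  refine ⟨N ⟨k, hk⟩, fun v => sub_eq_zero.1 ?_⟩
  have : v ∈ W := by rw [(hirr.eq_bot_or_top W hW).resolve_left hWne]; exact Submodule.mem_top
  exact this ⟨k, hk⟩

/-- the orbit of the two components coming from the idempotents -/
theorem class_idem [Nonempty ι] (hn : 5 ≤ Fintype.card ι) (hI : H ≤ Cfsg.isometryGroup F Q) (hirr : Irred H)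
    (h : (∃ (t k : ℕ) (D : Fin t → Submodule F (ι → F)), IsNondegenerateMDecomposition (gform (RingHom.id F) (qG Q)) k D ∧
        H ≤ decompositionStabilizer D ∧ ∀ i j, ∃ g ∈ H, (D i).map (Matrix.toLin' (g : Matrix ι ι F)) = D j) ∨
      (∃ (k : ℕ) (D : Fin 2 → Submodule F (ι → F)) (e : Matrix ι ι F), IsMDecomposition k D ∧
        (∀ i, IsTotallySingularFor (gform (RingHom.id F) (qG Q)) (D i)) ∧ H ≤ decompositionStabilizer D ∧ e * e = e ∧
        adj (RingHom.id F) (qG Q) e = 1 - e ∧ ∀ g ∈ H, cj g e = e ∨ cj g e = 1 - e)) : OEClass Q H := by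
  rw [← pol_eq hQ] at h
  rcases h with ⟨t, k, D, hD, hle, htr⟩ | ⟨k, D, e, hD, hs, hle, -, -, -⟩
  · have hmaps : ∀ i j, ∃ g ∈ H, ∀ x ∈ D i, (g : Matrix ι ι F) *ᵥ x ∈ D j := fun i j => by
      obtain ⟨g, hg, hgij⟩ := htr i j
      exact ⟨g, hg, fun x hx => hgij ▸ ⟨x, hx, Matrix.toLin'_apply _ x⟩⟩
    have hiso : ∀ i j, AreIsometricFor Q (D i) (D j) := fun i j => by
      obtain ⟨g, hg, hgij⟩ := hmaps i j
      exact isometric_of_maps hQ (hI hg) hgij (by rw [hD.decomp.finrank_eq, hD.decomp.finrank_eq])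
    rcases Nat.lt_or_ge 1 k with hk1 | hk1
    · exact .dec (Or.inl hk1) ⟨hD, hiso⟩ hle
    obtain rfl : k = 1 := by have := hD.decomp.pos; omega
    have htn : t = Fintype.card ι := by
      have := mdec_card hD.decomp
      rwa [mul_one] at this
    let i0 : Fin t := ⟨0, by omega⟩
    have h2 : (2 : F) ≠ 0 := two_ne_of_odd_nd hQ (hD.nondegenerate i0) (by rw [hD.decomp.finrank_eq]; exact odd_one)
    by_cases hp : (Fintype.card F).Prime
    · exact .dec (Or.inr ⟨rfl, hp, h2⟩) ⟨hD, hiso⟩ hle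
    obtain ⟨u0, hu0m, hu00⟩ := Submodule.exists_mem_ne_zero_of_ne_bot (p := D i0) fun h0 => by
      have := hD.decomp.finrank_eq i0
      rw [h0, finrank_bot] at this; omega
    have hspan : D i0 = Submodule.span F {u0} := (Submodule.eq_of_le_of_finrank_eq
      ((Submodule.span_singleton_le_iff_mem _ _).2 hu0m) (by rw [finrank_span_singleton hu00, hD.decomp.finrank_eq])).symm
    have hQu0 : Q u0 ≠ 0 := fun h0 => by
      obtain ⟨⟨x, hx, hxu⟩, -⟩ := hD.nondegenerate i0 u0 hu0m hu00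
      rw [hspan, Submodule.mem_span_singleton] at hx
      obtain ⟨c, rfl⟩ := hx
      exact hxu (by rw [psmul_left hQ, pself hQ, h0, mul_zero, mul_zero])
    choose g hg hgD using fun j => htr i0 j
    let φ : ι ≃ Fin t := Fintype.equivFinOfCardEq htn.symm
    let w : ι → ι → F := fun b => (g (φ b) : Matrix ι ι F) *ᵥ u0
    have hwmem : ∀ b, w b ∈ D (φ b) := fun b => by
      rw [← hgD (φ b)]; exact ⟨u0, hu0m, Matrix.toLin'_apply _ _⟩
    have hwo : ∀ a b, a ≠ b → pol Q (w a) (w b) = 0 := fun a b hab =>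
      hD.orthogonal _ _ (fun h => hab (φ.injective h)) _ (hwmem a) _ (hwmem b)
    have hwQ : ∀ b, Q (w b) = Q u0 := fun b => Quad.mem_iso.1 (hI (hg _)) u0
    refine sub_of_frame hQ hI hp w hQu0 hwQ ?_ hwo fun x hx b => ?_
    · refine Fintype.linearIndependent_iff.2 fun c hc b => ?_
      have h1 : pfl hQ (w b) (∑ a, c a • w a) = 0 := by rw [hc, map_zero]
      rw [map_sum, Finset.sum_eq_single b] at h1
      · rw [map_smul, show pfl hQ (w b) (w b) = pol Q (w b) (w b) from rfl, pself hQ, hwQ, smul_eq_mul] at h1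
        exact (mul_eq_zero.1 h1).resolve_right (mul_ne_zero h2 hQu0)
      · intro a _ hab
        rw [map_smul, show pfl hQ (w b) (w a) = pol Q (w a) (w b) from rfl, hwo a b hab, smul_zero]
      · exact fun h => absurd (Finset.mem_univ b) h
    · obtain ⟨π, hπ⟩ := hle hx
      have h1 : (x : Matrix ι ι F) *ᵥ w b ∈ D (π (φ b)) := by
        rw [← hπ (φ b)]; exact ⟨w b, hwmem b, Matrix.toLin'_apply _ _⟩
      rw [← hgD (π (φ b))] at h1
      obtain ⟨y, hy, hy'⟩ := h1
      rw [hspan, SetLike.mem_coe, Submodule.mem_span_singleton] at hy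
      obtain ⟨c, rfl⟩ := hy
      refine ⟨φ.symm (π (φ b)), c, ?_⟩
      rw [← hy', Matrix.toLin'_apply, mulVec_smul]
      simp [w]
  · refine .pair hD (fun i u hu => ?_) hle
    by_cases h2 : (2 : F) = 0
    swap
    · exact (mul_eq_zero.1 (show (2 : F) * Q u = 0 by rw [← pself hQ]; exact hs i u hu u hu)).resolve_left h2
    have hcard := mdec_card hD
    have hQadd : ∀ i, ∀ a ∈ D i, ∀ b ∈ D i, Q (a + b) = Q a + Q b := fun i a ha b hb => by
      rw [qadd hQ, hs i a ha b hb, add_zero]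
    let Z : Fin 2 → Submodule F (ι → F) := fun i =>
      { carrier := {u | u ∈ D i ∧ Q u = 0}
        zero_mem' := ⟨(D i).zero_mem, qzero hQ⟩
        add_mem' := fun {a b} ha hb => ⟨(D i).add_mem ha.1 hb.1, by rw [hQadd i a ha.1 b hb.1, ha.2, hb.2, add_zero]⟩
        smul_mem' := fun c a ha => ⟨(D i).smul_mem _ ha.1, by rw [qsmul hQ, ha.2, mul_zero]⟩ }
    have hinv : ∀ g ∈ H, ∀ x ∈ Z 0 ⊔ Z 1, (g : Matrix ι ι F) *ᵥ x ∈ Z 0 ⊔ Z 1 := by
      intro g hg
      obtain ⟨π, hπ⟩ := hle hg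
      have h1 : ∀ l, ∀ x ∈ Z l, (g : Matrix ι ι F) *ᵥ x ∈ Z 0 ⊔ Z 1 := fun l x hx => by
        have h2 : (g : Matrix ι ι F) *ᵥ x ∈ Z (π l) := by
          refine ⟨?_, by rw [Quad.mem_iso.1 (hI hg)]; exact hx.2⟩
          rw [← hπ l]; exact ⟨x, hx.1, Matrix.toLin'_apply _ _⟩
        rcases (by decide : ∀ i : Fin 2, i = 0 ∨ i = 1) (π l) with h | h <;> rw [h] at h2
        · exact Submodule.mem_sup_left h2
        · exact Submodule.mem_sup_right h2
      intro x hx
      obtain ⟨a, ha, b, hb, rfl⟩ := Submodule.mem_sup.1 hx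
      rw [mulVec_add]
      exact Submodule.add_mem _ (h1 0 a ha) (h1 1 b hb)
    have hZ0 : Z 0 ≠ ⊥ := fun hb => by
      have hk3 : 2 < Module.finrank F (D 0) := by rw [hD.finrank_eq]; omega
      obtain ⟨a, ha, ha0⟩ := Submodule.exists_mem_ne_zero_of_ne_bot (p := D 0) fun h0 => by
        rw [h0, finrank_bot] at hk3; omega
      obtain ⟨b, hb', hba⟩ := SetLike.exists_of_lt (lt_of_le_of_ne ((Submodule.span_singleton_le_iff_mem _ _).2 ha)
        fun h0 => by rw [← h0, finrank_span_singleton ha0] at hk3; omega)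
      have hQa : Q a ≠ 0 := fun h0 => ha0 ((Submodule.eq_bot_iff _).1 hb a ⟨ha, h0⟩)
      obtain ⟨s, hs'⟩ := sq_surjective h2 (Q b / Q a)
      have h3 : b + s • a = 0 := (Submodule.eq_bot_iff _).1 hb _ ⟨(D 0).add_mem hb' ((D 0).smul_mem _ ha), by
        rw [hQadd 0 b hb' _ ((D 0).smul_mem _ ha), qsmul hQ, hs', div_mul_cancel₀ _ hQa]
        linear_combination (Q b) * h2⟩
      refine hba (Submodule.mem_span_singleton.2 ⟨-s, ?_⟩)
      rw [neg_smul]
      exact (eq_neg_of_add_eq_zero_left h3).symm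
    have htop : Z 0 ⊔ Z 1 = ⊤ := (hirr.eq_bot_or_top _ hinv).resolve_left fun h0 => hZ0 (sup_eq_bot_iff.1 h0).1
    have hmem : u ∈ Z 0 ⊔ Z 1 := htop ▸ Submodule.mem_top
    obtain ⟨a, ha, b, hb, rfl⟩ := Submodule.mem_sup.1 hmem
    have hdisj := hD.indep.pairwiseDisjoint (show (0 : Fin 2) ≠ 1 by decide)
    rcases (by decide : ∀ i : Fin 2, i = 0 ∨ i = 1) i with rfl | rfl
    · have hb' : b ∈ D 0 := by have := (D 0).sub_mem hu ha.1; rwa [add_sub_cancel_left] at this
      rw [hQadd 0 a ha.1 b hb', ha.2, hb.2, add_zero]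
    · have ha' : a ∈ D 1 := by have := (D 1).sub_mem hu hb.1; rwa [add_sub_cancel_right] at this
      rw [hQadd 1 a ha' b hb.1, ha.2, hb.2, add_zero]

end CfsgLib.Perm.Asch.OE
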