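import Cfsg.Agent.Lib.Perm.Asch.OE.Structure

/-!
# No member of a geometric class contains `Ω` in even dimension
-/

set_option autoImplicit false
set_option linter.all false

namespace CfsgLib.Perm.Asch.OE

open scoped Classical Matrix
open Matrix Cfsg.Geo CfsgLib.Perm.Asch CfsgLib.Perm.Trans CfsgLib.Perm.Trans.Quad

variable {ι : Type} [Fintype ι] [DecidableEq ι] {F : Type*} [Field F] [Fintype F]
variable {Q : (ι → F) → F}

local notation "pol" => QuadraticMap.polar

theorem eq_inf {Ω H X : Subgroup (GL ι F)} (hH : IsMaximalIn Ω H) (hle : H ≤ X) (hne : ¬ Ω ≤ X) : H = X ⊓ Ω := by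
  rcases hH.2 (X ⊓ Ω) (le_inf hle hH.1.le) inf_le_right with h | h
  · exact h.symm
  · exact absurd (inf_eq_right.1 h) hne

theorem not_between {Ω H X : Subgroup (GL ι F)} (hH : IsMaximalIn Ω H) (h : H = X)
    (hK : ∃ K : Subgroup (GL ι F), X < K ∧ K < Ω) : False := by
  subst h
  obtain ⟨K, h1, h2⟩ := hK
  rcases hH.2 K h1.le h2.le with e | e
  · exact h1.ne e.symm
  · exact h2.ne e

theorem omega_det {g : GL ι F} (hg : g ∈ omegaGL Q) : (g : Matrix ι ι F).det = 1 := by
  obtain ⟨x, hx, rfl⟩ := Subgroup.mem_map.1 hg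
  let φ : Cfsg.isometryGroup F Q →* Fˣ := Matrix.GeneralLinearGroup.det.comp (Cfsg.isometryGroup F Q).subtype
  have h := Abelianization.commutator_subset_ker φ hx
  exact congrArg Units.val (MonoidHom.mem_ker.1 h)

/-- invariance under all Eichler transformations -/
def EInv (Q : (ι → F) → F) (S : Set (ι → F)) : Prop :=
  ∀ u a : ι → F, Q u = 0 → pol Q u a = 0 →
    ∀ x ∈ S, x + pol Q x u • a - pol Q x a • u - (Q a * pol Q x u) • u ∈ S

variable (hQ : IsNondegenerateQuadraticForm Q)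
include hQ

theorem eInv_of_le (hn : 5 ≤ Fintype.card ι) {X : Subgroup (GL ι F)} (hle : omegaGL Q ≤ X) {S : Set (ι → F)}
    (hS : ∀ g ∈ X, ∀ x ∈ S, (g : Matrix ι ι F) *ᵥ x ∈ S) : EInv Q S := fun u a hu ha x hx => by
  obtain ⟨g, hg, hge⟩ := ein_omega hQ hn hu ha
  rw [← hge x]
  exact hS g (hle hg) x hx

theorem exists_frame (hn : 3 ≤ Fintype.card ι) {v : ι → F} (hv : v ≠ 0) :
    ∃ u u', Q u = 0 ∧ u ≠ 0 ∧ pol Q v u ≠ 0 ∧ Q u' = 0 ∧ pol Q u u' = 1 ∧
      Fintype.card ι ≤ Module.finrank F (pairPerp hQ ⊤ u u') + 2 ∧ NdOn Q (pairPerp hQ ⊤ u u') := by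
  obtain ⟨u, hu, hvu⟩ := exists_singular_nonorth hQ hn hv
  have hu0 : u ≠ 0 := fun h => hvu (by rw [h, pzero_right hQ])
  obtain ⟨u', -, hu', huu'⟩ := exists_qpartner hQ (ndOn_top hQ) Submodule.mem_top hu0 hu
  have hdim := pair_finrank hQ (P := ⊤) (e := u) (f := u') Submodule.mem_top Submodule.mem_top hu hu' huu'
  rw [finrank_top, Module.finrank_fintype_fun_eq_card] at hdim
  exact ⟨u, u', hu, hu0, hvu, hu', huu', hdim,
    pair_nd hQ Submodule.mem_top Submodule.mem_top hu hu' huu' (ndOn_top hQ)⟩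

/-- `Ω` is irreducible -/
theorem eInv_irred (hn : 3 ≤ Fintype.card ι) {W : Submodule F (ι → F)} (h0 : W ≠ ⊥)
    (hinv : EInv Q (W : Set (ι → F))) : W = ⊤ := by
  obtain ⟨w, hw, hw0⟩ := Submodule.exists_mem_ne_zero_of_ne_bot h0
  obtain ⟨u, u', hu, hu0, hwu, hu', huu', hdim, hnd⟩ := exists_frame hQ hn hw0
  have hmove : ∀ a, pol Q u a = 0 → pol Q w u • a - pol Q w a • u - (Q a * pol Q w u) • u ∈ W := by
    intro a ha
    have := W.sub_mem (hinv u a hu ha w hw) hw
    convert this using 1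
    abel
  have huW : u ∈ W := by
    obtain ⟨a, ha, ha0⟩ := Submodule.exists_mem_ne_zero_of_ne_bot (p := pairPerp hQ ⊤ u u') fun h => by
      rw [h, finrank_bot] at hdim; omega
    obtain ⟨b, hb, hab⟩ := (hnd a ha ha0).2
    have ha' : pol Q u a = 0 := by rw [pcomm]; exact ((mem_pairPerp hQ).1 ha).2.1
    have hb' : pol Q u b = 0 := by rw [pcomm]; exact ((mem_pairPerp hQ).1 hb).2.1
    have := W.sub_mem (W.sub_mem (hmove (a + b) (by rw [padd_right hQ, ha', hb', add_zero])) (hmove a ha')) (hmove b hb')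
    rw [padd_right hQ, qadd hQ] at this
    have e : pol Q w u • (a + b) - (pol Q w a + pol Q w b) • u - ((Q a + Q b + pol Q a b) * pol Q w u) • u -
        (pol Q w u • a - pol Q w a • u - (Q a * pol Q w u) • u) -
        (pol Q w u • b - pol Q w b • u - (Q b * pol Q w u) • u) = (-(pol Q a b * pol Q w u)) • u := by module
    rw [e] at this
    exact (W.smul_mem_iff (neg_ne_zero.2 (mul_ne_zero hab hwu))).1 this
  have hperp : ∀ a, pol Q u a = 0 → a ∈ W := fun a ha => by
    refine (W.smul_mem_iff hwu).1 ?_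
    have := W.add_mem (hmove a ha) (W.smul_mem (pol Q w a + Q a * pol Q w u) huW)
    convert this using 1
    module
  refine eq_top_iff.2 fun x _ => ?_
  obtain ⟨s, hs⟩ : ∃ s, s = pol Q u x / pol Q w u := ⟨_, rfl⟩
  have hx : x - s • w ∈ W := hperp _ (by
    rw [psub_right hQ, psmul_right hQ, pcomm u w, hs, div_mul_cancel₀ _ hwu, sub_self])
  simpa using W.add_mem hx (W.smul_mem s hw)

/-- invariant sets are large -/
theorem eInv_card (hn : 3 ≤ Fintype.card ι) {S : Set (ι → F)} (hS : EInv Q S) {v : ι → F} (hv : v ∈ S) (hv0 : v ≠ 0) :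
    Fintype.card F ^ (Fintype.card ι - 2) ≤ Nat.card S := by
  obtain ⟨u, u', hu, hu0, hvu, hu', huu', hdim, hnd⟩ := exists_frame hQ hn hv0
  have hker : ∀ a : pairPerp hQ ⊤ u u', pol Q u (a : ι → F) = 0 ∧ pol Q (a : ι → F) u' = 0 := fun a =>
    ⟨by rw [pcomm]; exact ((mem_pairPerp hQ).1 a.2).2.1, ((mem_pairPerp hQ).1 a.2).2.2⟩
  have hinj : Function.Injective fun a : pairPerp hQ ⊤ u u' =>
      (⟨v + pol Q v u • (a : ι → F) - pol Q v (a : ι → F) • u - (Q a * pol Q v u) • u,
        hS u a hu (hker a).1 v hv⟩ : S) := by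
    intro a b hab
    have h3 : v + pol Q v u • (a : ι → F) - pol Q v (a : ι → F) • u - (Q a * pol Q v u) • u =
        v + pol Q v u • (b : ι → F) - pol Q v (b : ι → F) • u - (Q b * pol Q v u) • u := congrArg Subtype.val hab
    obtain ⟨s, hs⟩ : ∃ s, s = pol Q v (a : ι → F) + Q a * pol Q v u - (pol Q v (b : ι → F) + Q b * pol Q v u) := ⟨_, rfl⟩
    have h4 : pol Q v u • ((a : ι → F) - b) = s • u := by
      rw [← sub_eq_zero] at h3 ⊢
      rw [← h3, hs]
      module
    have h5 := congrArg (fun x => pol Q x u') h4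
    simp only [psmul_left hQ, psub_left hQ, (hker a).2, (hker b).2, sub_zero, mul_zero, huu', mul_one] at h5
    rw [← h5, zero_smul] at h4
    exact Subtype.ext (sub_eq_zero.1 ((smul_eq_zero.1 h4).resolve_left hvu))
  have h6 := Nat.card_le_card_of_injective _ hinj
  rw [Module.natCard_eq_pow_finrank (K := F) (V := pairPerp hQ ⊤ u u'), Nat.card_eq_fintype_card] at h6
  exact le_trans (Nat.pow_le_pow_right Fintype.card_pos (by omega)) h6

theorem not_le_subspace (hn : 5 ≤ Fintype.card ι) {W : Submodule F (ι → F)} (h0 : W ≠ ⊥) (h1 : W ≠ ⊤) :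
    ¬ omegaGL Q ≤ subspaceStabilizer W := fun hle =>
  h1 (eInv_irred hQ (by omega) h0 (eInv_of_le hQ hn hle fun g hg x hx => (hg x).1 hx))

theorem not_le_singular (hn : 5 ≤ Fintype.card ι) {W : Submodule F (ι → F)} (h0 : W ≠ ⊥)
    (hs : IsTotallySingularQuad Q W) : ¬ omegaGL Q ≤ subspaceStabilizer W := by
  refine not_le_subspace hQ hn h0 fun h => ?_
  have := ts_finrank_le hQ hs
  rw [h, finrank_top, Module.finrank_fintype_fun_eq_card] at this
  omega

theorem not_le_point (hn : 5 ≤ Fintype.card ι) {v : ι → F} (hv : Q v ≠ 0) :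
    ¬ omegaGL Q ≤ subspaceStabilizer (Submodule.span F {v}) := by
  have hv0 : v ≠ 0 := fun h => hv (by rw [h, qzero hQ])
  refine not_le_subspace hQ hn (by rw [Ne, Submodule.span_singleton_eq_bot]; exact hv0) fun h => ?_
  have := finrank_span_singleton (K := F) hv0
  rw [h, finrank_top, Module.finrank_fintype_fun_eq_card] at this
  omega

theorem not_le_decomposition (hn : 8 ≤ Fintype.card ι) (hn' : Fintype.card ι ≤ 12) {t k : ℕ}
    {D : Fin t → Submodule F (ι → F)} (hD : IsMDecomposition k D) (htk : t * k = Fintype.card ι) :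
    ¬ omegaGL Q ≤ decompositionStabilizer D := by
  intro hle
  set S : Set (ι → F) := {x | ∃ i, x ∈ D i}
  have hS : EInv Q S := eInv_of_le hQ (by omega) hle fun g hg x ⟨i, hx⟩ => by
    obtain ⟨σ, hσ⟩ := hg
    exact ⟨σ i, (hσ i).le ⟨x, hx, rfl⟩⟩
  let i0 : Fin t := ⟨0, by have := hD.two_le; omega⟩
  obtain ⟨v, hv, hv0⟩ := Submodule.exists_mem_ne_zero_of_ne_bot (show D i0 ≠ ⊥ from fun h => by
    have := hD.finrank_eq i0
    rw [h, finrank_bot] at this
    exact hD.pos.ne this)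
  have h1 := eInv_card hQ (by omega) hS ⟨i0, hv⟩ hv0
  have h3 : Nat.card S ≤ t * Fintype.card F ^ k := by
    refine le_trans (Nat.card_le_card_of_surjective (fun p : (i : Fin t) × D i => (⟨p.2.1, p.1, p.2.2⟩ : S)) ?_) ?_
    · rintro ⟨x, i, hx⟩; exact ⟨⟨i, x, hx⟩, rfl⟩
    · rw [Nat.card_sigma]
      rw [Finset.sum_congr rfl fun i _ => (Module.natCard_eq_pow_finrank (K := F) (V := D i))]
      simp [hD.finrank_eq, Nat.card_eq_fintype_card]
  set q := Fintype.card F
  have hq : 2 ≤ q := Fintype.one_lt_card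
  have hqk : 0 < q ^ k := pow_pos (by omega) k
  have ht := hD.two_le
  have hk := hD.pos
  rcases Nat.lt_or_ge t 3 with ht3 | ht3
  · have h4 : t * q ^ k ≤ q ^ (k + 1) := by rw [pow_succ']; exact Nat.mul_le_mul_right _ (by omega)
    obtain rfl : t = 2 := by omega
    have h5 := Nat.pow_lt_pow_right (show 1 < q by omega) (show k + 1 < Fintype.card ι - 2 by omega)
    omega
  · have hk' : 3 * k ≤ Fintype.card ι := htk ▸ Nat.mul_le_mul_right k ht3
    have ht' : t ≤ Fintype.card ι := htk ▸ Nat.le_mul_of_pos_right t hk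
    have h4 : t * q ^ k < q ^ 4 * q ^ k :=
      (Nat.mul_lt_mul_right hqk).2 (lt_of_lt_of_le (show t < 2 ^ 4 by omega) (Nat.pow_le_pow_left hq 4))
    rw [← pow_add] at h4
    have h5 := Nat.pow_le_pow_right (show 0 < q by omega) (show 4 + k ≤ Fintype.card ι - 2 by omega)
    omega

theorem not_le_subfield (hn : 8 ≤ Fintype.card ι) (he : Even (Fintype.card ι)) {F₀ : Subfield F} {r : ℕ}
    (hr : r.Prime) (hc : Fintype.card F = Nat.card F₀ ^ r) (P : GL ι F) :
    ¬ omegaGL Q ≤ subfieldSubgroup F₀ P := by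
  intro hle
  let f : F × (ι → F₀) → ι → F := fun p => p.1 • ((P : Matrix ι ι F) *ᵥ fun i => ((p.2 i : F₀) : F))
  have hS : EInv Q (Set.range f) := eInv_of_le hQ (by omega) hle fun g hg => by
    rintro _ ⟨⟨c, u⟩, rfl⟩
    obtain ⟨s, M₀, hM₀, hgw⟩ := subfield_elem hg
    refine ⟨(c * s, fun i => ⟨(M₀ *ᵥ fun j => ((u j : F₀) : F)) i, ?_⟩), ?_⟩
    · exact sum_mem fun j _ => F₀.mul_mem (hM₀ i j) (u j).2
    · show _ = (g : Matrix ι ι F) *ᵥ f (c, u)
      simp only [f, mulVec_smul, hgw, smul_smul]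
  haveI : Nonempty ι := Fintype.card_pos_iff.1 (by omega)
  have hne : f (1, fun _ => 1) ≠ 0 := by
    intro h
    have := congrArg (((P⁻¹ : GL ι F) : Matrix ι ι F) *ᵥ ·) h
    simp only [f, one_smul, mulVec_mulVec, Asch.gl_inv_mul, one_mulVec, mulVec_zero] at this
    have h1 := congrFun this (Classical.arbitrary ι)
    simp at h1
  have h1 := eInv_card hQ (by omega) hS ⟨_, rfl⟩ hne
  have h3 : Nat.card (Set.range f) ≤ Fintype.card F * Nat.card F₀ ^ Fintype.card ι := by
    refine le_trans (Finite.card_range_le f) ?_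
    rw [Nat.card_prod, Nat.card_fun, Nat.card_eq_fintype_card (α := F), Nat.card_eq_fintype_card (α := ι)]
  set q := Fintype.card F
  set q0 := Nat.card F₀
  have hq0 : 2 ≤ q0 := Finite.one_lt_card
  obtain ⟨j, hj⟩ := he
  have h4 : q0 ^ Fintype.card ι ≤ q ^ j := by
    rw [hc, ← pow_mul]
    refine Nat.pow_le_pow_right (by omega) ?_
    have := Nat.mul_le_mul_right j hr.two_le
    omega
  have hq : 1 < q := Fintype.one_lt_card
  have h5 : q * q0 ^ Fintype.card ι ≤ q ^ (j + 1) := by rw [pow_succ']; exact Nat.mul_le_mul_left q h4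
  have h6 := Nat.pow_lt_pow_right hq (show j + 1 < Fintype.card ι - 2 by omega)
  omega

theorem not_le_tensor {d k : ℕ} (hd : 0 < d) (hk : 0 < k) (hn : 5 ≤ Fintype.card ι)
    (hdk : d + k < Fintype.card ι - 2) (e : ι ≃ Fin d × Fin k) (P : GL ι F) :
    ¬ omegaGL Q ≤ tensorProductSubgroup d k e P := by
  intro hle
  let f : (Fin d → F) × (Fin k → F) → ι → F := fun p => pt2 e P p.1 p.2
  have hS : EInv Q (Set.range f) := eInv_of_le hQ hn hle fun g hg => by
    rintro _ ⟨⟨x, y⟩, rfl⟩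
    obtain ⟨a, b, hab⟩ := pt2_act hg
    exact ⟨(a *ᵥ x, b *ᵥ y), (hab x y).symm⟩
  have hne : f (fun _ => 1, fun _ => 1) ≠ 0 := by
    intro h
    have := congrArg (((P⁻¹ : GL ι F) : Matrix ι ι F) *ᵥ ·) h
    simp only [f, pt2, mulVec_mulVec, Asch.gl_inv_mul, one_mulVec, mulVec_zero] at this
    have h1 := congrFun this (e.symm (⟨0, hd⟩, ⟨0, hk⟩))
    simp at h1
  have h1 := eInv_card hQ (by omega) hS ⟨_, rfl⟩ hne
  have h3 : Nat.card (Set.range f) ≤ Fintype.card F ^ (d + k) := by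
    refine le_trans (Finite.card_range_le f) ?_
    simp [Nat.card_eq_fintype_card, pow_add]
  have h4 := Nat.pow_lt_pow_right (a := Fintype.card F) Fintype.one_lt_card hdk
  omega

/-- elements commuting with the Eichler transformations are scalars -/
theorem scalar_of_e_commute (hn : 3 ≤ Fintype.card ι) {k : Matrix ι ι F}
    (hk : ∀ u a x : ι → F, Q u = 0 → pol Q u a = 0 →
      k *ᵥ (x + pol Q x u • a - pol Q x a • u - (Q a * pol Q x u) • u) =
        k *ᵥ x + pol Q (k *ᵥ x) u • a - pol Q (k *ᵥ x) a • u - (Q a * pol Q (k *ᵥ x) u) • u) :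
    ∃ c : F, k = c • 1 := by
  haveI : Nonempty ι := Fintype.card_pos_iff.1 (by omega)
  obtain ⟨u, u', hu, hu0, -, hu', huu', hdim, hnd⟩ := exists_frame hQ hn (v := Pi.single (Classical.arbitrary ι) 1)
    (by simp)
  have huu : pol Q u u = 0 := by rw [pself hQ, hu, mul_zero]
  have hfix : ∀ a, pol Q u a = 0 →
      pol Q (k *ᵥ u) u • a = (pol Q (k *ᵥ u) a + Q a * pol Q (k *ᵥ u) u) • u := by
    intro a ha
    have h3 := hk u a u hu ha
    rw [huu, ha, zero_smul, zero_smul, mul_zero, zero_smul, add_zero, sub_zero, sub_zero] at h3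
    rw [← sub_eq_zero] at h3 ⊢
    rw [← neg_eq_zero, ← h3]
    module
  have hB0 : pol Q (k *ᵥ u) u = 0 := by
    obtain ⟨a, ha, ha0⟩ := Submodule.exists_mem_ne_zero_of_ne_bot (p := pairPerp hQ ⊤ u u') fun h => by
      rw [h, finrank_bot] at hdim; omega
    obtain ⟨-, hau, hau'⟩ := (mem_pairPerp hQ).1 ha
    by_contra hc
    have h3 := hfix a (by rw [pcomm]; exact hau)
    have h4 := congrArg (fun y => pol Q y u') h3
    simp only [psmul_left hQ, hau', mul_zero, huu', mul_one] at h4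
    rw [← h4, zero_smul] at h3
    exact ha0 ((smul_eq_zero.1 h3).resolve_left hc)
  have hBa : ∀ a, pol Q u a = 0 → pol Q (k *ᵥ u) a = 0 := fun a ha => by
    have h3 := hfix a ha
    rw [hB0, zero_smul, mul_zero, add_zero] at h3
    exact (smul_eq_zero.1 h3.symm).resolve_right hu0
  obtain ⟨c, hc⟩ : ∃ c, c = pol Q (k *ᵥ u) u' := ⟨_, rfl⟩
  have heig : k *ᵥ u = c • u := by
    rw [← sub_eq_zero]
    refine eq_zero_of_perp_top hQ fun x => ?_
    have h3 : pol Q u (x - pol Q u x • u') = 0 := by rw [psub_right hQ, psmul_right hQ, huu', mul_one, sub_self]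
    have h4 := hBa _ h3
    rw [psub_right hQ, psmul_right hQ, ← hc] at h4
    rw [psub_left hQ, psmul_left hQ]
    linear_combination h4
  refine ⟨c, Matrix.toLin'.injective (LinearMap.ext fun x => ?_)⟩
  let W : Submodule F (ι → F) := LinearMap.ker (Matrix.toLin' k - c • LinearMap.id)
  have hW : ∀ y, y ∈ W ↔ k *ᵥ y = c • y := fun y => by
    simp [W, LinearMap.mem_ker, sub_eq_zero]
  have htop : W = ⊤ := eInv_irred hQ hn (fun h => hu0 ((Submodule.eq_bot_iff _).1 h u ((hW u).2 heig))) (by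
    intro u a hu ha y hy
    rw [SetLike.mem_coe, hW] at hy ⊢
    rw [hk u a y hu ha, hy, psmul_left hQ, psmul_left hQ]
    module)
  rw [Matrix.toLin'_apply, map_smul, Matrix.toLin'_one, LinearMap.smul_apply, LinearMap.id_apply]
  exact (hW x).1 (htop ▸ Submodule.mem_top)

theorem not_le_field (hn : 5 ≤ Fintype.card ι) {r : ℕ} (hr : r.Prime) {K : Subalgebra F (Matrix ι ι F)}
    (hK : IsFieldSubalgebra r K) : ¬ omegaGL Q ≤ subalgebraNormalizer K := by
  intro hle
  haveI : Nonempty ι := Fintype.card_pos_iff.1 (by omega)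
  have hall : ∀ k ∈ K, ∃ c : F, k = c • (1 : Matrix ι ι F) := by
    intro k hk
    refine scalar_of_e_commute hQ (by omega) fun u a x hu ha => ?_
    obtain ⟨g, hg, hge⟩ := ein_omega hQ hn hu ha
    set D := cj g k - k with hD
    have hDK : D ∈ K := K.sub_mem ((hle hg k).1 hk) hk
    have hD0 : D = 0 := by
      by_contra hne
      obtain ⟨L, -, hL⟩ := hK.inv D hDK hne
      haveI := Classical.decEq (ι → F)
      let s : Finset (ι → F) := {u, a, k *ᵥ u, k *ᵥ a}
      have hrange : ∀ x, D *ᵥ x ∈ Submodule.span F (s : Set (ι → F)) := by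
        intro x
        have hu' : u ∈ Submodule.span F (s : Set (ι → F)) := Submodule.subset_span (by simp [s])
        have ha' : a ∈ Submodule.span F (s : Set (ι → F)) := Submodule.subset_span (by simp [s])
        have hku : k *ᵥ u ∈ Submodule.span F (s : Set (ι → F)) := Submodule.subset_span (by simp [s])
        have hka : k *ᵥ a ∈ Submodule.span F (s : Set (ι → F)) := Submodule.subset_span (by simp [s])
        obtain ⟨y, hy⟩ : ∃ y, y = ((g⁻¹ : GL ι F) : Matrix ι ι F) *ᵥ x := ⟨_, rfl⟩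
        have hxy : x = (g : Matrix ι ι F) *ᵥ y := by rw [hy, mulVec_mulVec, Asch.gl_mul_inv, one_mulVec]
        rw [hD, sub_mulVec, cj, ← mulVec_mulVec, ← mulVec_mulVec, ← hy, hge]
        conv in (k *ᵥ x) => rw [hxy, hge]
        simp only [mulVec_add, mulVec_sub, mulVec_smul]
        rw [show k *ᵥ y + pol Q (k *ᵥ y) u • a - pol Q (k *ᵥ y) a • u -
            (Q a * pol Q (k *ᵥ y) u) • u -
            (k *ᵥ y + pol Q y u • (k *ᵥ a) - pol Q y a • (k *ᵥ u) - (Q a * pol Q y u) • (k *ᵥ u)) =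
            pol Q (k *ᵥ y) u • a + (-(pol Q (k *ᵥ y) a + Q a * pol Q (k *ᵥ y) u)) • u +
            (-pol Q y u) • (k *ᵥ a) + (pol Q y a + Q a * pol Q y u) • (k *ᵥ u) by module]
        exact Submodule.add_mem _ (Submodule.add_mem _ (Submodule.add_mem _ (Submodule.smul_mem _ _ ha')
          (Submodule.smul_mem _ _ hu')) (Submodule.smul_mem _ _ hka)) (Submodule.smul_mem _ _ hku)
      have htop : (⊤ : Submodule F (ι → F)) ≤ Submodule.span F (s : Set (ι → F)) := fun x _ => by
        have := hrange (L *ᵥ x)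
        rwa [mulVec_mulVec, hL, one_mulVec] at this
      have h3 := Submodule.finrank_mono htop
      rw [finrank_top, Module.finrank_fintype_fun_eq_card] at h3
      have h4 : Module.finrank F (Submodule.span F (s : Set (ι → F))) ≤ 4 :=
        le_trans (finrank_span_finset_le_card s) (Finset.card_le_four)
      omega
    rw [hD, sub_eq_zero] at hD0
    rw [← hge x, ← hge (k *ᵥ x), mulVec_mulVec, mulVec_mulVec]
    conv_lhs => rw [← hD0, cj, mul_assoc, Asch.gl_inv_mul, mul_one]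
  have hbot : K = ⊥ := eq_bot_iff.2 fun k hk => Asch.mem_bot_iff.2 (hall k hk)
  have := hK.finrank_eq
  rw [hbot, Subalgebra.finrank_bot] at this
  exact hr.ne_one this.symm

theorem stab_qperp {H : Subgroup (GL ι F)} (hI : H ≤ Cfsg.isometryGroup F Q) {W : Submodule F (ι → F)}
    (h : H ≤ subspaceStabilizer W) : H ≤ subspaceStabilizer (qperp hQ W) :=
  subspaceStabilizer_mem (maps_qperp hQ hI fun g hg w hw => (h hg w).1 hw)

theorem two_dec {W : Submodule F (ι → F)} (hW : NdOn Q W) {k : ℕ} (hk : Module.finrank F W = k)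
    (h2k : 2 * k = Fintype.card ι) (hpos : 0 < k) :
    IsNondegenerateMDecomposition (pol Q) k ![W, qperp hQ W] := by
  have hd := finrank_qperp_add hQ W
  have hfr : ∀ i, Module.finrank F (![W, qperp hQ W] i : Submodule F (ι → F)) = k := fun i => by
    fin_cases i
    · exact hk
    · show Module.finrank F (qperp hQ W) = k
      omega
  refine ⟨⟨le_rfl, hpos, hfr, ?_, ?_⟩, fun i => ?_, fun i j hij => ?_⟩
  · rw [iSupIndep_pair (show (0 : Fin 2) ≠ 1 by decide) (fun i => by fin_cases i <;> simp)]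
    exact orth_disjoint hQ hW (orth_qperp hQ W)
  · rw [eq_top_iff, ← top_split hQ hW]
    exact sup_le (le_iSup ![W, qperp hQ W] 0) (le_iSup ![W, qperp hQ W] 1)
  · fin_cases i
    · exact hW
    · exact qperp_nd hQ hW
  · fin_cases i <;> fin_cases j <;> first | exact absurd rfl hij | exact orth_qperp hQ W | exact orth_comm hQ (orth_qperp hQ W)

theorem le_two_dec {H : Subgroup (GL ι F)} (hI : H ≤ Cfsg.isometryGroup F Q) {W : Submodule F (ι → F)}
    (h : H ≤ subspaceStabilizer W) : H ≤ decompositionStabilizer ![W, qperp hQ W] := by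
  intro g hg
  refine ⟨1, fun i => ?_⟩
  have hmap : ∀ (V : Submodule F (ι → F)), g ∈ subspaceStabilizer V →
      V.map (Matrix.toLin' (g : Matrix ι ι F)) = V := fun V hV =>
    Submodule.eq_of_le_of_finrank_eq (by rintro _ ⟨x, hx, rfl⟩; exact (hV x).1 hx)
      (CfsgLib.Orth.map_gl_finrank g V)
  fin_cases i
  · exact hmap W (h hg)
  · exact hmap _ (stab_qperp hQ hI h hg)

end CfsgLib.Perm.Asch.OE
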