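import Cfsg.Agent.Lib.Perm.Asch.OE.Field

/-!
# A self-adjoint field of degree equal to half the dimension is never the largest normalised one
-/

set_option autoImplicit false
set_option linter.all false

namespace CfsgLib.Perm.Asch.OE

open scoped Classical Matrix
open Matrix Cfsg.Geo CfsgLib.Perm.Asch CfsgLib.Perm.Trans CfsgLib.Perm.Trans.Quad

variable {ι : Type} [Fintype ι] [DecidableEq ι] {F : Type*} [Field F] [Fintype F]

local notation "pol" => QuadraticMap.polar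

/-- the elements of `H` commuting with `K` -/
def InCen (H : Subgroup (GL ι F)) (K : Subalgebra F (Matrix ι ι F)) (g : GL ι F) : Prop :=
  g ∈ H ∧ ∀ k ∈ K, (g : Matrix ι ι F) * k = k * (g : Matrix ι ι F)

theorem InCen.inv {H : Subgroup (GL ι F)} {K : Subalgebra F (Matrix ι ι F)} {g : GL ι F} (h : InCen H K g) :
    InCen H K g⁻¹ := by
  refine ⟨H.inv_mem h.1, fun k hk => ?_⟩
  calc ((g⁻¹ : GL ι F) : Matrix ι ι F) * k
      = ((g⁻¹ : GL ι F) : Matrix ι ι F) * k * ((g : Matrix ι ι F) * ((g⁻¹ : GL ι F) : Matrix ι ι F)) := by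
        rw [Asch.gl_mul_inv, mul_one]
    _ = ((g⁻¹ : GL ι F) : Matrix ι ι F) * (k * (g : Matrix ι ι F)) * ((g⁻¹ : GL ι F) : Matrix ι ι F) := by
        simp only [mul_assoc]
    _ = k * ((g⁻¹ : GL ι F) : Matrix ι ι F) := by
        rw [← h.2 k hk, ← mul_assoc, Asch.gl_inv_mul, one_mul]

theorem InCen.conj {H : Subgroup (GL ι F)} {K : Subalgebra F (Matrix ι ι F)} (hn : Normalises H K) {g : GL ι F}
    (h : InCen H K g) {x : GL ι F} (hx : x ∈ H) : InCen H K (x * g * x⁻¹) := by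
  refine ⟨H.mul_mem (H.mul_mem hx h.1) (H.inv_mem hx), fun k hk => ?_⟩
  rw [← cj_cj_inv x k, ← cj_coe, ← cj_mul, ← cj_mul, h.2 _ (hn _ (H.inv_mem hx) _ hk)]

theorem field_sq_surj [Nonempty ι] {r : ℕ} {K : Subalgebra F (Matrix ι ι F)} (hK : IsFieldSubalgebra r K)
    (h2 : (2 : F) = 0) : ∀ k ∈ K, ∃ l ∈ K, l * l = k := by
  have hinj : Function.Injective fun x : K => x * x := by
    intro x y hxy
    have e : (x : Matrix ι ι F) * x = (y : Matrix ι ι F) * y := congrArg Subtype.val hxy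
    have hadd : ((x : Matrix ι ι F) + y) * ((x : Matrix ι ι F) + y) = 0 := by
      rw [add_mul, mul_add, mul_add, e, hK.comm _ y.2 _ x.2,
        show (y : Matrix ι ι F) * y + (x : Matrix ι ι F) * y + ((x : Matrix ι ι F) * y + (y : Matrix ι ι F) * y) =
          (2 : F) • ((y : Matrix ι ι F) * y + (x : Matrix ι ι F) * y) by rw [two_smul]; abel, h2, zero_smul]
    by_contra hne
    obtain ⟨z, hz, hxz⟩ := hK.inv _ (K.add_mem x.2 y.2) fun h0 => hne (Subtype.ext (by
      rw [eq_neg_of_add_eq_zero_left h0, ← neg_one_smul F (y : Matrix ι ι F),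
        show (-1 : F) = 1 by linear_combination -h2, one_smul]))
    have h3 : (x : Matrix ι ι F) + y = 0 := by
      rw [← mul_one ((x : Matrix ι ι F) + y), ← hxz, ← mul_assoc, hadd, zero_mul]
    rw [h3, zero_mul] at hxz
    exact zero_ne_one hxz
  haveI : Finite K := Finite.of_injective _ Subtype.val_injective
  intro k hk
  obtain ⟨l, hl⟩ := (Finite.injective_iff_surjective.1 hinj) ⟨k, hk⟩
  exact ⟨l, l.2, congrArg Subtype.val hl⟩

/-- the `K`-line through a vector -/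
def kline (K : Subalgebra F (Matrix ι ι F)) (v : ι → F) : Submodule F (ι → F) :=
  LinearMap.range
    ({ toFun := fun k => (k : Matrix ι ι F) *ᵥ v
       map_add' := fun x y => Matrix.add_mulVec _ _ _
       map_smul' := fun c x => Matrix.smul_mulVec _ _ _ } : K →ₗ[F] (ι → F))

theorem mem_kline {K : Subalgebra F (Matrix ι ι F)} {v x : ι → F} : x ∈ kline K v ↔ ∃ k ∈ K, k *ᵥ v = x :=
  ⟨fun ⟨k, hk⟩ => ⟨k, k.2, hk⟩, fun ⟨k, hk, h⟩ => ⟨⟨k, hk⟩, h⟩⟩

theorem field_mulVec_eq_zero {r : ℕ} {K : Subalgebra F (Matrix ι ι F)} (hK : IsFieldSubalgebra r K)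
    {k : Matrix ι ι F} (hk : k ∈ K) {v : ι → F} (hv : v ≠ 0) (h : k *ᵥ v = 0) : k = 0 := by
  by_contra h0
  obtain ⟨l, hl, hkl⟩ := hK.inv k hk h0
  refine hv ?_
  rw [← one_mulVec v, ← hkl, hK.comm k hk l hl, ← mulVec_mulVec, h, mulVec_zero]

theorem kline_finrank {r : ℕ} {K : Subalgebra F (Matrix ι ι F)} (hK : IsFieldSubalgebra r K) {v : ι → F}
    (hv : v ≠ 0) : Module.finrank F (kline K v) = r := by
  rw [kline, LinearMap.finrank_range_of_inj]
  · exact hK.finrank_eq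
  · exact (injective_iff_map_eq_zero _).2 fun k hk => Subtype.ext (field_mulVec_eq_zero hK k.2 hv hk)

theorem field_mul_ne_zero {r : ℕ} {K : Subalgebra F (Matrix ι ι F)} (hK : IsFieldSubalgebra r K) {a b : Matrix ι ι F}
    (ha : a ∈ K) (ha0 : a ≠ 0) (hb0 : b ≠ 0) : a * b ≠ 0 := by
  intro h
  obtain ⟨l, hl, hal⟩ := hK.inv a ha ha0
  exact hb0 (by rw [← one_mul b, ← hal, hK.comm a ha l hl, mul_assoc, h, mul_zero])

variable {Q : (ι → F) → F} (hQ : IsNondegenerateQuadraticForm Q)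
include hQ

/-- a map commuting with the field whose pairings all vanish lies in the field -/
theorem mem_of_pairing_zero [Nonempty ι] (h2 : (2 : F) = 0) {r : ℕ} {K : Subalgebra F (Matrix ι ι F)}
    (hK : IsFieldSubalgebra r K) (hn : Fintype.card ι = 2 * r)
    (hsa : ∀ k ∈ K, ∀ u v, pol Q (k *ᵥ u) v = pol Q u (k *ᵥ v)) {C : Matrix ι ι F}
    (hcom : ∀ k ∈ K, C * k = k * C) (hC : ∀ m ∈ K, ∀ x, pol Q (m *ᵥ (C *ᵥ x)) x = 0) : C ∈ K := by
  have hperp : ∀ x, x ≠ 0 → qperp hQ (kline K x) = kline K x := by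
    intro x hx
    have h1 : kline K x ≤ qperp hQ (kline K x) := by
      intro y hy z hz
      obtain ⟨k, hk, rfl⟩ := mem_kline.1 hy
      obtain ⟨l, hl, rfl⟩ := mem_kline.1 hz
      rw [← hsa l hl, mulVec_mulVec]
      obtain ⟨m, hm, hm2⟩ := field_sq_surj hK h2 (l * k) (K.mul_mem hl hk)
      rw [← hm2, ← mulVec_mulVec, hsa m hm, pself hQ, h2, zero_mul]
    refine (Submodule.eq_of_le_of_finrank_le h1 ?_).symm
    have h3 := finrank_qperp_add hQ (kline K x)
    rw [kline_finrank hK hx] at h3 ⊢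
    omega
  have hin : ∀ x, x ≠ 0 → C *ᵥ x ∈ kline K x := fun x hx => by
    rw [← hperp x hx]
    intro z hz
    obtain ⟨m, hm, rfl⟩ := mem_kline.1 hz
    rw [← hsa m hm]
    exact hC m hm x
  obtain ⟨x, hx⟩ : ∃ x : ι → F, x ≠ 0 := ⟨Pi.single (Classical.arbitrary ι) 1, by simp⟩
  obtain ⟨a, ha, hax⟩ := mem_kline.1 (hin x hx)
  have hout : ∀ y, y ∉ kline K x → C *ᵥ y = a *ᵥ y := by
    intro y hy
    have hy0 : y ≠ 0 := fun h => hy (h ▸ Submodule.zero_mem _)
    have hxy : x + y ≠ 0 := fun h => hy (by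
      rw [eq_neg_of_add_eq_zero_right h]
      exact Submodule.neg_mem _ (mem_kline.2 ⟨1, K.one_mem, one_mulVec x⟩))
    obtain ⟨b, hb, hby⟩ := mem_kline.1 (hin y hy0)
    obtain ⟨c, hc, hcxy⟩ := mem_kline.1 (hin _ hxy)
    have h1 : (a - c) *ᵥ x = (c - b) *ᵥ y := by
      rw [mulVec_add, mulVec_add, ← hax, ← hby] at hcxy
      rw [sub_mulVec, sub_mulVec, sub_eq_sub_iff_add_eq_add, add_comm (c *ᵥ y), hcxy]
    have hcb : c - b = 0 := by
      by_contra h0
      obtain ⟨l, hl, hcl⟩ := hK.inv _ (K.sub_mem hc hb) h0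
      refine hy (mem_kline.2 ⟨l * (a - c), K.mul_mem hl (K.sub_mem ha hc), ?_⟩)
      rw [← mulVec_mulVec, h1, mulVec_mulVec, hK.comm l hl _ (K.sub_mem hc hb), hcl, one_mulVec]
    rw [hcb, zero_mulVec] at h1
    have hac := field_mulVec_eq_zero hK (K.sub_mem ha hc) hx h1
    rw [← hby, ← sub_eq_zero.1 hcb, ← sub_eq_zero.1 hac]
  obtain ⟨y, hy⟩ : ∃ y, y ∉ kline K x := by
    by_contra hcon
    push Not at hcon
    have h1 : kline K x = ⊤ := eq_top_iff.2 fun z _ => hcon z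
    have h3 := kline_finrank hK hx
    rw [h1, finrank_top, Module.finrank_fintype_fun_eq_card] at h3
    have : 0 < Fintype.card ι := Fintype.card_pos
    omega
  have hall : C = a := Matrix.ext_iff_mulVec.2 fun z => by
    by_cases hz : z ∈ kline K x
    · have hzy : z + y ∉ kline K x := fun h => hy (by
        have := (kline K x).sub_mem h hz
        rwa [add_sub_cancel_left] at this)
      have h1 := hout _ hzy
      rw [mulVec_add, mulVec_add, hout y hy] at h1
      exact add_right_cancel h1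
    · exact hout z hz
  rw [hall]
  exact ha

/-- commuting families in the centraliser of the field -/
theorem exists_commuting [Nonempty ι] {H : Subgroup (GL ι F)} (hI : H ≤ Cfsg.isometryGroup F Q) {r : ℕ}
    {K : Subalgebra F (Matrix ι ι F)} (hK : IsFieldSubalgebra r K) (hn : Fintype.card ι = 2 * r)
    (hsa : ∀ k ∈ K, adj (RingHom.id F) (qG Q) k = k) (hnorm : Normalises H K)
    (hns : ∃ g, InCen H K g ∧ (g : Matrix ι ι F) ∉ K) :
    ∃ S : Set (Matrix ι ι F), (∀ s ∈ S, ∀ k ∈ K, s * k = k * s) ∧ (∀ s ∈ S, ∀ t ∈ S, s * t = t * s) ∧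
      (∀ g ∈ H, ∀ s ∈ S, cj g s ∈ S) ∧ (∀ s ∈ S, adj (RingHom.id F) (qG Q) s ∈ S) ∧ ∃ s ∈ S, s ∉ K := by
  have hG := refl_qG hQ
  have hsa' := (selfAdjointFor_iff hQ).2 hsa
  have hadj : ∀ g : GL ι F, g ∈ H →
      adj (RingHom.id F) (qG Q) (g : Matrix ι ι F) = ((g⁻¹ : GL ι F) : Matrix ι ι F) :=
    fun g hg => hG.adj_mem_iff.1 (iso_le hQ (hI hg))
  by_cases hab : ∀ g h, InCen H K g → InCen H K h →
      (g : Matrix ι ι F) * (h : Matrix ι ι F) = (h : Matrix ι ι F) * (g : Matrix ι ι F)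
  · refine ⟨{s | ∃ g, InCen H K g ∧ (g : Matrix ι ι F) = s}, ?_, ?_, ?_, ?_, ?_⟩
    · rintro _ ⟨g, hg, rfl⟩ k hk; exact hg.2 k hk
    · rintro _ ⟨g, hg, rfl⟩ _ ⟨h, hh, rfl⟩; exact hab g h hg hh
    · rintro x hx _ ⟨g, hg, rfl⟩; exact ⟨_, hg.conj hnorm hx, (cj_coe x g).symm⟩
    · rintro _ ⟨g, hg, rfl⟩; exact ⟨_, hg.inv, (hadj g hg.1).symm⟩
    · obtain ⟨g, hg, hgK⟩ := hns; exact ⟨_, ⟨g, hg, rfl⟩, hgK⟩
  push Not at hab
  obtain ⟨g₀, h₀, hg₀, hh₀, hne⟩ := hab
  have hinvcomm : ∀ (g : GL ι F) (X : Matrix ι ι F),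
      X * (g : Matrix ι ι F) = (g : Matrix ι ι F) * X → X * ((g⁻¹ : GL ι F) : Matrix ι ι F) = ((g⁻¹ : GL ι F) : Matrix ι ι F) * X := by
    intro g X hX
    calc X * ((g⁻¹ : GL ι F) : Matrix ι ι F)
        = ((g⁻¹ : GL ι F) : Matrix ι ι F) * ((g : Matrix ι ι F) * X) * ((g⁻¹ : GL ι F) : Matrix ι ι F) := by
          rw [← mul_assoc, Asch.gl_inv_mul, one_mul]
      _ = ((g⁻¹ : GL ι F) : Matrix ι ι F) * X := by
          rw [← hX, mul_assoc, mul_assoc, Asch.gl_mul_inv, mul_one]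
  by_cases h2 : (2 : F) = 0
  · -- characteristic two: the elements `g` with `g + g⁻¹ ≠ 0`
    obtain ⟨T, hTdef⟩ : ∃ T : GL ι F → Matrix ι ι F, ∀ g, T g = (g : Matrix ι ι F) + ((g⁻¹ : GL ι F) : Matrix ι ι F) :=
      ⟨_, fun g => rfl⟩
    have hneg : ∀ X : Matrix ι ι F, -X = X := fun X => by
      rw [← neg_one_smul F X, show (-1 : F) = 1 by linear_combination -h2, one_smul]
    have hTc : ∀ g, InCen H K g → ∀ k ∈ K, T g * k = k * T g := fun g hg k hk => by
      simp only [hTdef]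
      rw [add_mul, mul_add, hg.2 k hk, hg.inv.2 k hk]
    have hTK : ∀ g, InCen H K g → T g ∈ K := by
      intro g hg
      refine mem_of_pairing_zero hQ h2 hK hn hsa' (hTc g hg) fun m hm x => ?_
      simp only [hTdef]
      rw [add_mulVec, mulVec_add, padd_left hQ]
      have e : pol Q (m *ᵥ (((g⁻¹ : GL ι F) : Matrix ι ι F) *ᵥ x)) x = pol Q (m *ᵥ ((g : Matrix ι ι F) *ᵥ x)) x := by
        conv_lhs => rw [mulVec_mulVec, ← hg.inv.2 m hm, ← mulVec_mulVec,
          ← iso_pol (hI hg.1), Trans.gl_mulVec_inv, hsa' m hm, Quad.pcomm x]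
      rw [e, ← two_mul, h2, zero_mul]
    have hgg : ∀ g : GL ι F, (g : Matrix ι ι F) * (g : Matrix ι ι F) = T g * (g : Matrix ι ι F) + 1 := fun g => by
      simp only [hTdef]
      rw [add_mul, Asch.gl_inv_mul, add_assoc, ← two_smul F (1 : Matrix ι ι F), h2, zero_smul, add_zero]
    have hQT : ∀ g, InCen H K g → ∀ y, Q (T g *ᵥ y) = pol Q ((T g * (g : Matrix ι ι F)) *ᵥ y) y := by
      intro g hg y
      have e1 : pol Q ((g : Matrix ι ι F) *ᵥ y) (((g⁻¹ : GL ι F) : Matrix ι ι F) *ᵥ y) =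
          pol Q (((g : Matrix ι ι F) * (g : Matrix ι ι F)) *ᵥ y) y := by
        conv_lhs => rw [← iso_pol (hI hg.1), Trans.gl_mulVec_inv, mulVec_mulVec]
      have e2 : Q (T g *ᵥ y) = pol Q ((g : Matrix ι ι F) *ᵥ y) (((g⁻¹ : GL ι F) : Matrix ι ι F) *ᵥ y) := by
        simp only [hTdef]
        rw [add_mulVec, qadd hQ, Quad.mem_iso.1 (hI hg.1), Quad.mem_iso.1 (hI hg.inv.1), ← two_mul, h2, zero_mul, zero_add]
      rw [e2, e1, hgg g, add_mulVec, one_mulVec, padd_left hQ, pself hQ y, h2, zero_mul, add_zero]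
    have hcommute : ∀ g h, InCen H K g → InCen H K h → T g ≠ 0 → T h ≠ 0 →
        (g : Matrix ι ι F) * (h : Matrix ι ι F) = (h : Matrix ι ι F) * (g : Matrix ι ι F) := by
      intro g h hg hh hT hU
      have hTm := hTK g hg
      have hUm := hTK h hh
      have hkey : ∀ (g h : GL ι F), InCen H K g → InCen H K h → ∀ l ∈ K, ∀ x,
          pol Q ((l * l * (T h * T h * (T g * (g : Matrix ι ι F)))) *ᵥ x) x = Q (T g *ᵥ ((T h * l) *ᵥ x)) := by
        intro g h hg hh l hl x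
        have hz : T h * l ∈ K := K.mul_mem (hTK h hh) hl
        rw [hQT g hg, mulVec_mulVec, ← hsa' _ hz, mulVec_mulVec]
        congr 2
        have hX : T g * (g : Matrix ι ι F) * (T h * l) = T h * l * (T g * (g : Matrix ι ι F)) := by
          rw [mul_assoc, hg.2 _ hz, ← mul_assoc, hTc g hg _ hz, mul_assoc]
        have hZ : T h * l * (T h * l) = l * l * (T h * T h) := by
          rw [hK.comm (T h) (hTK h hh) l hl,
            Commute.mul_mul_mul_comm (show Commute (T h) l from hK.comm _ (hTK h hh) l hl)]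
        rw [hX, ← mul_assoc (T h * l) (T h * l), hZ, ← mul_assoc (l * l)]
      obtain ⟨D, hD⟩ : ∃ D, D = T h * T h * (T g * (g : Matrix ι ι F)) + T g * T g * (T h * (h : Matrix ι ι F)) :=
        ⟨_, rfl⟩
      have hDK : D ∈ K := by
        refine mem_of_pairing_zero hQ h2 hK hn hsa' (fun k hk => ?_) fun m hm x => ?_
        · have hc : ∀ (P : Matrix ι ι F) (f : GL ι F), P ∈ K → InCen H K f →
              P * (f : Matrix ι ι F) * k = k * (P * (f : Matrix ι ι F)) := fun P f hP hf => by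
            rw [mul_assoc, hf.2 k hk, ← mul_assoc, hK.comm P hP k hk, mul_assoc]
          rw [hD, add_mul, mul_add, ← mul_assoc (T h * T h), ← mul_assoc (T g * T g),
            hc _ g (K.mul_mem (K.mul_mem hUm hUm) hTm) hg, hc _ h (K.mul_mem (K.mul_mem hTm hTm) hUm) hh]
        · obtain ⟨l, hl, rfl⟩ := field_sq_surj hK h2 m hm
          rw [mulVec_mulVec, hD, mul_add, add_mulVec, padd_left hQ, hkey g h hg hh l hl x, hkey h g hh hg l hl x,
            mulVec_mulVec, mulVec_mulVec, ← mul_assoc, ← mul_assoc, hK.comm _ hTm _ hUm, ← two_mul, h2, zero_mul]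
      obtain ⟨z, hz, hz1⟩ := hK.inv _ (K.mul_mem (K.mul_mem hUm hUm) hTm)
        (field_mul_ne_zero hK (K.mul_mem hUm hUm) (field_mul_ne_zero hK hUm hU hU) hT)
      obtain ⟨k', hk'⟩ : ∃ k', k' = z * (T g * T g * T h) := ⟨_, rfl⟩
      have hk'K : k' ∈ K := hk' ▸ K.mul_mem hz (K.mul_mem (K.mul_mem hTm hTm) hUm)
      have hgexp : (g : Matrix ι ι F) = z * D - k' * (h : Matrix ι ι F) := by
        rw [hD, hk', mul_add, mul_assoc z (T g * T g * T h), mul_assoc (T g * T g), add_sub_cancel_right,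
          ← mul_assoc (T h * T h), ← mul_assoc, hK.comm z hz _ (K.mul_mem (K.mul_mem hUm hUm) hTm), hz1, one_mul]
      rw [hgexp, sub_mul, mul_sub, ← mul_assoc (h : Matrix ι ι F) k', hh.2 (z * D) (K.mul_mem hz hDK), hh.2 k' hk'K]
    -- noncommuting elements force a non-vanishing `T`
    obtain ⟨g₁, hg₁, hT₁⟩ : ∃ g, InCen H K g ∧ T g ≠ 0 := by
      by_contra hcon
      push Not at hcon
      refine hne ?_
      have hinvol : ∀ g, InCen H K g → ((g⁻¹ : GL ι F) : Matrix ι ι F) = (g : Matrix ι ι F) := fun g hg => by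
        rw [eq_neg_of_add_eq_zero_right ((hTdef g).symm.trans (hcon g hg)), hneg]
      have h3 := hinvol (g₀ * h₀) ⟨H.mul_mem hg₀.1 hh₀.1, fun k hk => by
        rw [Units.val_mul, mul_assoc, hh₀.2 k hk, ← mul_assoc, hg₀.2 k hk, mul_assoc]⟩
      rw [_root_.mul_inv_rev, Units.val_mul, Units.val_mul, hinvol g₀ hg₀, hinvol h₀ hh₀] at h3
      exact h3.symm
    refine ⟨{s | ∃ g, InCen H K g ∧ T g ≠ 0 ∧ (g : Matrix ι ι F) = s}, ?_, ?_, ?_, ?_, _, ⟨g₁, hg₁, hT₁, rfl⟩, ?_⟩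
    · rintro _ ⟨g, hg, -, rfl⟩ k hk; exact hg.2 k hk
    · rintro _ ⟨g, hg, hT, rfl⟩ _ ⟨h, hh, hU, rfl⟩; exact hcommute g h hg hh hT hU
    · rintro x hx _ ⟨g, hg, hT, rfl⟩
      refine ⟨_, hg.conj hnorm hx, fun h0 => hT (cj_injective x ?_), (cj_coe x g).symm⟩
      have h0' : (x * g * x⁻¹ : GL ι F) + (((x * g * x⁻¹)⁻¹ : GL ι F) : Matrix ι ι F) = (0 : Matrix ι ι F) :=
        (hTdef _).symm.trans h0
      rw [show (x * g * x⁻¹)⁻¹ = x * g⁻¹ * x⁻¹ by group, ← cj_coe, ← cj_coe, ← cj_add] at h0'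
      rw [hTdef, h0']
      simp [cj]
    · rintro _ ⟨g, hg, hT, rfl⟩
      refine ⟨_, hg.inv, ?_, (hadj g hg.1).symm⟩
      rw [hTdef, inv_inv, add_comm, ← hTdef]
      exact hT
    · intro hgK
      refine hT₁ ?_
      have h4 := hadj g₁ hg₁.1
      rw [hsa _ hgK] at h4
      simp only [hTdef]
      rw [← h4, ← two_smul F (g₁ : Matrix ι ι F), h2, zero_smul]
  · -- odd characteristic: the skew parts
    obtain ⟨A, hAdef⟩ : ∃ A : GL ι F → Matrix ι ι F, ∀ g, A g = (g : Matrix ι ι F) - ((g⁻¹ : GL ι F) : Matrix ι ι F) :=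
      ⟨_, fun g => rfl⟩
    have hAc : ∀ g, InCen H K g → ∀ k ∈ K, A g * k = k * A g := fun g hg k hk => by
      simp only [hAdef]
      rw [sub_mul, mul_sub, hg.2 k hk, hg.inv.2 k hk]
    have hAadj : ∀ g, InCen H K g → adj (RingHom.id F) (qG Q) (A g) = -A g := fun g hg => by
      simp only [hAdef]
      rw [hG.adj_sub, hadj g hg.1, hadj _ (H.inv_mem hg.1), inv_inv]
      abel
    obtain ⟨v, -, hQv⟩ := exists_nonsingular hQ (ndOn_top hQ) (by
      intro h0
      have hx : (Pi.single (Classical.arbitrary ι) 1 : ι → F) ∈ (⊥ : Submodule F (ι → F)) := h0 ▸ Submodule.mem_top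
      exact one_ne_zero (Pi.single_eq_zero_iff.1 ((Submodule.mem_bot F).1 hx)))
    have hv0 : v ≠ 0 := fun h0 => hQv (by rw [h0, qzero hQ])
    obtain ⟨P, hP⟩ : ∃ P, P = qperp hQ (kline K v) := ⟨_, rfl⟩
    have hdisj : ∀ y, y ∈ kline K v → y ∈ P → y = 0 := by
      intro y hy hy'
      obtain ⟨k, hk, rfl⟩ := mem_kline.1 hy
      by_contra h0
      obtain ⟨l, hl, hkl⟩ := hK.inv k hk fun e => h0 (by rw [e, zero_mulVec])
      rw [hP] at hy'
      have h1 := hy' (l *ᵥ v) (mem_kline.2 ⟨l, hl, rfl⟩)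
      rw [← hsa' l hl, mulVec_mulVec, hK.comm l hl k hk, hkl, one_mulVec, pself hQ] at h1
      exact mul_ne_zero h2 hQv h1
    have hPd : Module.finrank F P = r := by
      have h1 := finrank_qperp_add hQ (kline K v)
      rw [kline_finrank hK hv0, ← hP] at h1
      omega
    have hsup : kline K v ⊔ P = ⊤ := by
      refine Submodule.eq_top_of_finrank_eq ?_
      have h1 := Submodule.finrank_sup_add_finrank_inf_eq (kline K v) P
      rw [show kline K v ⊓ P = ⊥ from (Submodule.eq_bot_iff _).2 fun y hy => hdisj y hy.1 hy.2, finrank_bot,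
        kline_finrank hK hv0, hPd] at h1
      rw [Module.finrank_fintype_fun_eq_card]
      omega
    have hPK : ∀ k ∈ K, ∀ y ∈ P, k *ᵥ y ∈ P := by
      rw [hP]
      intro k hk y hy z hz
      obtain ⟨l, hl, rfl⟩ := mem_kline.1 hz
      rw [hsa' k hk, mulVec_mulVec]
      exact hy _ (mem_kline.2 ⟨k * l, K.mul_mem hk hl, rfl⟩)
    have hPspan : ∀ p ∈ P, p ≠ 0 → kline K p = P := fun p hp hp0 =>
      Submodule.eq_of_le_of_finrank_eq (fun y hy => by
        obtain ⟨k, hk, rfl⟩ := mem_kline.1 hy; exact hPK k hk p hp) (by rw [kline_finrank hK hp0, hPd])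
    have hskewP : ∀ C : Matrix ι ι F, (∀ k ∈ K, C * k = k * C) → adj (RingHom.id F) (qG Q) C = -C →
        C *ᵥ v ∈ P := by
      intro C hC hCa
      rw [hP]
      intro z hz
      obtain ⟨k, hk, rfl⟩ := mem_kline.1 hz
      have h1 : pol Q (C *ᵥ v) (k *ᵥ v) = -pol Q v (k *ᵥ (C *ᵥ v)) := by
        rw [adj_pol hQ, hCa, neg_mulVec, pneg_right hQ, mulVec_mulVec, mulVec_mulVec, hC k hk]
      rw [Quad.pcomm v, hsa' k hk] at h1
      exact (mul_eq_zero.1 (show (2 : F) * pol Q (C *ᵥ v) (k *ᵥ v) = 0 by linear_combination h1)).resolve_left h2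
    have hskew0 : ∀ C : Matrix ι ι F, (∀ k ∈ K, C * k = k * C) → adj (RingHom.id F) (qG Q) C = -C →
        C *ᵥ v = 0 → C = 0 := by
      intro C hC hCa hCv
      have hkill : ∀ y ∈ kline K v, C *ᵥ y = 0 := fun y hy => by
        obtain ⟨k, hk, rfl⟩ := mem_kline.1 hy
        rw [mulVec_mulVec, hC k hk, ← mulVec_mulVec, hCv, mulVec_zero]
      have hCP : ∀ y ∈ P, C *ᵥ y ∈ P := by
        intro y hy
        rw [hP]
        intro z hz
        rw [adj_pol hQ, hCa, neg_mulVec, hkill z hz, neg_zero, pzero_right hQ]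
      obtain ⟨p, hp, hQp⟩ : ∃ p ∈ P, Q p ≠ 0 := by
        rw [hP] at hPd ⊢
        refine exists_nonsingular hQ ?_ fun h0 => ?_
        · intro w hw hw0
          suffices h1 : ∃ x ∈ qperp hQ (kline K v), pol Q w x ≠ 0 by
            obtain ⟨x, hx, hne⟩ := h1
            exact ⟨⟨x, hx, by rwa [Quad.pcomm]⟩, x, hx, hne⟩
          by_contra hcon
          push Not at hcon
          refine hw0 (eq_zero_of_perp_top hQ fun y => ?_)
          obtain ⟨s, hs, t, ht, rfl⟩ := Submodule.mem_sup.1 (hsup ▸ Submodule.mem_top : y ∈ kline K v ⊔ P)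
          rw [padd_right hQ, hw s hs, hcon t (hP ▸ ht), add_zero]
        · rw [h0, finrank_bot] at hPd
          have : 0 < Fintype.card ι := Fintype.card_pos
          omega
      have hp0 : p ≠ 0 := fun h0 => hQp (by rw [h0, qzero hQ])
      have hCp : C *ᵥ p = 0 := by
        have hmem : C *ᵥ p ∈ kline K p := by rw [hPspan p hp hp0]; exact hCP p hp
        obtain ⟨k, hk, hkp⟩ := mem_kline.1 hmem
        by_contra hne0
        have hk0 : k ≠ 0 := fun h => hne0 (by rw [← hkp, h, zero_mulVec])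
        obtain ⟨l, hl, hkl⟩ := hK.inv k hk hk0
        have h1 : pol Q (C *ᵥ p) (l *ᵥ p) = 2 * Q p := by
          rw [← hkp, hsa' k hk, mulVec_mulVec, hkl, one_mulVec, pself hQ]
        have h3 : pol Q (C *ᵥ p) (l *ᵥ p) = -pol Q (C *ᵥ p) (l *ᵥ p) := by
          conv_lhs => rw [adj_pol hQ, hCa, neg_mulVec, pneg_right hQ, mulVec_mulVec, hC l hl, ← mulVec_mulVec,
            ← hsa' l hl, Quad.pcomm]
        rw [h1] at h3
        exact mul_ne_zero (mul_ne_zero h2 h2) hQp (by linear_combination h3)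
      refine Matrix.ext_iff_mulVec.2 fun y => ?_
      rw [zero_mulVec]
      obtain ⟨s, hs, t, ht, rfl⟩ := Submodule.mem_sup.1 (hsup ▸ Submodule.mem_top : y ∈ kline K v ⊔ P)
      rw [← hPspan p hp hp0] at ht
      obtain ⟨k, hk, rfl⟩ := mem_kline.1 ht
      rw [mulVec_add, hkill s hs, mulVec_mulVec, hC k hk, ← mulVec_mulVec, hCp, mulVec_zero, add_zero]
    obtain ⟨g₁, hg₁, hA₁⟩ : ∃ g, InCen H K g ∧ A g ≠ 0 := by
      by_contra hcon
      push Not at hcon
      refine hne ?_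
      have hinvol : ∀ g, InCen H K g → ((g⁻¹ : GL ι F) : Matrix ι ι F) = (g : Matrix ι ι F) :=
        fun g hg => (sub_eq_zero.1 ((hAdef g).symm.trans (hcon g hg))).symm
      have h3 := hinvol (g₀ * h₀) ⟨H.mul_mem hg₀.1 hh₀.1, fun k hk => by
        rw [Units.val_mul, mul_assoc, hh₀.2 k hk, ← mul_assoc, hg₀.2 k hk, mul_assoc]⟩
      rw [_root_.mul_inv_rev, Units.val_mul, Units.val_mul, hinvol g₀ hg₀, hinvol h₀ hh₀] at h3
      exact h3.symm
    refine ⟨{s | ∃ g, InCen H K g ∧ A g = s}, ?_, ?_, ?_, ?_, _, ⟨g₁, hg₁, rfl⟩, ?_⟩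
    · rintro _ ⟨g, hg, rfl⟩ k hk; exact hAc g hg k hk
    · rintro _ ⟨g, hg, rfl⟩ _ ⟨h, hh, rfl⟩
      have hPv := hskewP (A g) (hAc g hg) (hAadj g hg)
      have hBv := hskewP (A h) (hAc h hh) (hAadj h hh)
      by_cases h0 : A g *ᵥ v = 0
      · rw [hskew0 (A g) (hAc g hg) (hAadj g hg) h0, zero_mul, mul_zero]
      rw [← hPspan _ hPv h0] at hBv
      obtain ⟨m, hm, hmv⟩ := mem_kline.1 hBv
      have hB : A h = m * A g := by
        refine sub_eq_zero.1 (hskew0 _ (fun k hk => ?_) ?_ ?_)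
        · rw [sub_mul, mul_sub, hAc h hh k hk, mul_assoc, hAc g hg k hk, ← mul_assoc, hK.comm m hm k hk, mul_assoc]
        · rw [hG.adj_sub, hG.adj_mul, hAadj h hh, hAadj g hg, hsa m hm, neg_mul, hAc g hg m hm]
          abel
        · rw [sub_mulVec, ← mulVec_mulVec, hmv, sub_self]
      rw [hB, ← mul_assoc, hAc g hg m hm]
    · rintro x hx _ ⟨g, hg, rfl⟩
      refine ⟨_, hg.conj hnorm hx, ?_⟩
      simp only [hAdef]
      rw [show (x * g * x⁻¹)⁻¹ = x * g⁻¹ * x⁻¹ by group, ← cj_coe, ← cj_coe]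
      simp [cj, mul_sub, sub_mul]
    · rintro _ ⟨g, hg, rfl⟩
      refine ⟨_, hg.inv, ?_⟩
      rw [hAadj g hg]
      simp only [hAdef]
      rw [inv_inv, neg_sub]
    · intro hAK
      refine hA₁ ?_
      have h4 := hsa _ hAK
      rw [hAadj g₁ hg₁] at h4
      have h5 : (2 : F) • A g₁ = 0 := by
        rw [two_smul]
        nth_rewrite 1 [← h4]
        exact neg_add_cancel _
      exact (smul_eq_zero.1 h5).resolve_left h2

/-- an element centralising the field outside of it -/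
theorem exists_cen_notMem [Nonempty ι] {H : Subgroup (GL ι F)} (hI : H ≤ Cfsg.isometryGroup F Q) (hirr : Irred H)
    {r : ℕ} (hr : r.Prime) {K : Subalgebra F (Matrix ι ι F)} (hK : IsFieldSubalgebra r K)
    (hn : Fintype.card ι = 2 * r) (hsa : ∀ k ∈ K, adj (RingHom.id F) (qG Q) k = k) (hnorm : Normalises H K) :
    ∃ g, InCen H K g ∧ (g : Matrix ι ι F) ∉ K := by
  by_contra hcon
  push Not at hcon
  have hG := refl_qG hQ
  have hker : ∀ g, InCen H K g → ∃ s : F, (g : Matrix ι ι F) = s • 1 := by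
    intro g hg
    have hgK := hcon g hg
    have e : (g : Matrix ι ι F) * (g : Matrix ι ι F) = 1 := by
      have h1 := hG.adj_mem_iff.1 (iso_le hQ (hI hg.1))
      rw [hsa _ hgK] at h1
      nth_rewrite 2 [h1]
      exact Asch.gl_mul_inv g
    by_cases h1 : (g : Matrix ι ι F) - 1 = 0
    · exact ⟨1, by rw [one_smul]; exact sub_eq_zero.1 h1⟩
    · obtain ⟨l, hl, hkl⟩ := hK.inv _ (K.sub_mem hgK K.one_mem) h1
      refine ⟨-1, ?_⟩
      rw [neg_smul, one_smul, eq_neg_iff_add_eq_zero]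
      calc (g : Matrix ι ι F) + 1 = (l * ((g : Matrix ι ι F) - 1)) * ((g : Matrix ι ι F) + 1) := by
            rw [hK.comm _ hl _ (K.sub_mem hgK K.one_mem), hkl, one_mul]
        _ = l * (((g : Matrix ι ι F) - 1) * ((g : Matrix ι ι F) + 1)) := mul_assoc _ _ _
        _ = 0 := by
            rw [show ((g : Matrix ι ι F) - 1) * ((g : Matrix ι ι F) + 1) = (g : Matrix ι ι F) * (g : Matrix ι ι F) - 1 by
              noncomm_ring, e, sub_self, mul_zero]
  obtain ⟨p, a, hp, hcp, hcard, ha⟩ := exists_char_card (F := F)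
  haveI := hcp
  haveI : Fact p.Prime := ⟨hp⟩
  haveI : Fact r.Prime := ⟨hr⟩
  obtain ⟨hfix, hfrob⟩ := fieldSubalgebra_frob hK hcard
  have hexp : ∀ g ∈ H, ∃ j : ℕ, ∀ k ∈ K, cj g k = k ^ (p ^ (a * j)) := by
    intro g hg
    obtain ⟨i, hi⟩ := hfrob (cj g) (fun x hx => hnorm g hg x hx) (cj_one g) (fun x _ y _ => cj_add g x y)
      (fun x _ y _ => cj_mul g x y)
    have hai : a ∣ i := (pow_fix_iff_field hcard i).1 fun c => by
      have h1 := hi _ (sc_mem K c)
      rw [cj_smul, cj_one, smul_pow, one_pow] at h1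
      have := congrFun (congrFun h1 (Classical.arbitrary ι)) (Classical.arbitrary ι)
      simpa using this.symm
    obtain ⟨j, rfl⟩ := hai
    exact ⟨j, hi⟩
  have hmod : ∀ j l : ℕ, (j : ZMod r) = l → ∀ k ∈ K, k ^ (p ^ (a * j)) = k ^ (p ^ (a * l)) := by
    intro j l hjl k hk
    wlog hle : l ≤ j generalizing j l
    · exact (this l j hjl.symm (by omega)).symm
    obtain ⟨d, rfl⟩ := Nat.exists_eq_add_of_le hle
    have hd : r ∣ d := by
      rw [← CharP.cast_eq_zero_iff (ZMod r) r]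
      simpa using hjl
    rw [mul_add, pow_add, mul_comm, pow_mul, (hfix _).2 (Nat.mul_dvd_mul_left a hd) k hk]
  have hfixg : ∀ g, g ∈ H → (∀ k ∈ K, cj g k = k) → InCen H K g := fun g hg hgK => ⟨hg, fun k hk => by
    conv_rhs => rw [← hgK k hk]
    rw [cj, mul_assoc ((g : Matrix ι ι F) * k), Asch.gl_inv_mul, mul_one]⟩
  have hv : (Pi.single (Classical.arbitrary ι) 1 : ι → F) ≠ 0 := by simp
  set v : ι → F := Pi.single (Classical.arbitrary ι) 1 with hvdef
  -- a small invariant subspace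
  suffices hsuff : ∃ (x : GL ι F), x ∈ H ∧ (∃ e : F, (x : Matrix ι ι F) ^ r = e • 1) ∧
      ∀ g ∈ H, ∃ (l : ℕ) (s : F), (g : Matrix ι ι F) = s • ((x : Matrix ι ι F) ^ l) by
    obtain ⟨x, hx, ⟨ε, hε⟩, hgen⟩ := hsuff
    let W : Submodule F (ι → F) := Submodule.span F (Set.range fun i : Fin r => ((x : Matrix ι ι F) ^ (i : ℕ)) *ᵥ v)
    have hW : ∀ w ∈ W, (x : Matrix ι ι F) *ᵥ w ∈ W := by
      intro w hw
      induction hw using Submodule.span_induction with
      | mem y hy =>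
        obtain ⟨i, rfl⟩ := hy
        rw [mulVec_mulVec, ← pow_succ']
        by_cases hi : (i : ℕ) + 1 < r
        · exact Submodule.subset_span ⟨⟨_, hi⟩, rfl⟩
        · rw [show (i : ℕ) + 1 = r by omega, hε, smul_mulVec, one_mulVec]
          refine W.smul_mem _ (Submodule.subset_span ⟨⟨0, hr.pos⟩, ?_⟩)
          simp
      | zero => rw [mulVec_zero]; exact W.zero_mem
      | add y z _ _ hy hz => rw [mulVec_add]; exact W.add_mem hy hz
      | smul c y _ hy => rw [mulVec_smul]; exact W.smul_mem c hy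
    have hpow : ∀ l, ∀ w ∈ W, ((x : Matrix ι ι F) ^ l) *ᵥ w ∈ W := by
      intro l
      induction l with
      | zero => intro w hw; rwa [pow_zero, one_mulVec]
      | succ l ih => intro w hw; rw [pow_succ, ← mulVec_mulVec]; exact ih _ (hW _ hw)
    rcases hirr.eq_bot_or_top W (fun g hg w hw => by
      obtain ⟨l, s, hs⟩ := hgen g hg
      rw [hs, smul_mulVec]
      exact W.smul_mem _ (hpow l w hw)) with h | h
    · have : v ∈ W := Submodule.subset_span ⟨⟨0, hr.pos⟩, by simp⟩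
      rw [h, Submodule.mem_bot] at this
      exact hv this
    · have h1 : Module.finrank F W ≤ r := (finrank_range_le_card _).trans (by simp)
      rw [h, finrank_top, Module.finrank_fintype_fun_eq_card, hn] at h1
      have := hr.two_le
      omega
  by_cases hall : ∀ g ∈ H, ∀ k ∈ K, cj g k = k
  · refine ⟨1, H.one_mem, ⟨1, by simp⟩, fun g hg => ?_⟩
    obtain ⟨s, hs⟩ := hker g (hfixg g hg (hall g hg))
    exact ⟨0, s, by rw [hs, pow_zero]⟩
  push Not at hall
  obtain ⟨x, hx, k₀, hk₀, hxk⟩ := hall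
  obtain ⟨jx, hjx⟩ := hexp x hx
  have hj0 : (jx : ZMod r) ≠ 0 := by
    intro h0
    apply hxk
    rw [hjx k₀ hk₀, hmod jx 0 (by simpa using h0) k₀ hk₀, mul_zero, pow_zero, pow_one]
  have hxpow : ∀ l, ∀ k ∈ K, cj (x ^ l) k = k ^ (p ^ (a * (jx * l))) := by
    intro l
    induction l with
    | zero => intro k _; simp [cj]
    | succ l ih =>
      intro k hk
      rw [pow_succ, ← cj_cj, hjx k hk, cj_pow, ih k hk, ← pow_mul, ← pow_add, ← mul_add, Nat.mul_succ]
  refine ⟨x, hx, ?_, fun g hg => ?_⟩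
  · obtain ⟨ε, hε⟩ := hker (x ^ r) (hfixg _ (H.pow_mem hx r) fun k hk => by
      rw [hxpow r k hk, (hfix _).2 (Nat.mul_dvd_mul_left a (dvd_mul_left r jx)) k hk])
    exact ⟨ε, by rw [← Units.val_pow_eq_pow_val]; exact hε⟩
  · obtain ⟨jg, hjg⟩ := hexp g hg
    set l := ((jg : ZMod r) / (jx : ZMod r)).val
    obtain ⟨s, hs⟩ := hker (g * (x ^ l)⁻¹) (hfixg _ (H.mul_mem hg (H.inv_mem (H.pow_mem hx l))) fun k hk => by
      obtain ⟨k', hk', hkk'⟩ : ∃ k' ∈ K, cj (x ^ l) k' = k :=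
        ⟨cj (x ^ l)⁻¹ k, hnorm _ (H.inv_mem (H.pow_mem hx l)) k hk, cj_cj_inv _ _⟩
      conv_lhs => rw [← hkk']
      rw [cj_cj, inv_mul_cancel_right, ← hkk', hjg k' hk', hxpow l k' hk']
      refine hmod _ _ ?_ k' hk'
      push_cast
      rw [ZMod.natCast_zmod_val, mul_div_cancel₀ _ hj0])
    refine ⟨l, s, ?_⟩
    have h1 : g = (g * (x ^ l)⁻¹) * x ^ l := by rw [inv_mul_cancel_right]
    rw [h1, Units.val_mul, hs, Units.val_pow_eq_pow_val, smul_mul_assoc, one_mul]

/-- a self-adjoint field of degree half the dimension leads to a class -/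
theorem class_rot [Nonempty ι] (hn5 : 5 ≤ Fintype.card ι) {H : Subgroup (GL ι F)}
    (hI : H ≤ Cfsg.isometryGroup F Q) (hirr : Irred H) {r : ℕ} (hr : r.Prime) {K : Subalgebra F (Matrix ι ι F)}
    (hK : IsFieldSubalgebra r K) (hn : Fintype.card ι = 2 * r)
    (hsa : ∀ k ∈ K, adj (RingHom.id F) (qG Q) k = k) (hnorm : Normalises H K) : OEClass Q H := by
  have hG := refl_qG hQ
  obtain ⟨S, hSK, hSS, hScj, hSadj, s₀, hs₀, hs₀K⟩ :=
    exists_commuting hQ hI hK hn hsa hnorm (exists_cen_notMem hQ hI hirr hr hK hn hsa hnorm)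
  obtain ⟨U, hU⟩ : ∃ U : Set (Matrix ι ι F), U = (K : Set (Matrix ι ι F)) ∪ S := ⟨_, rfl⟩
  have hUU : ∀ a ∈ U, ∀ b ∈ U, a * b = b * a := by
    rw [hU]
    rintro a (ha | ha) b (hb | hb)
    · exact hK.comm a ha b hb
    · exact (hSK b hb a ha).symm
    · exact hSK a ha b hb
    · exact hSS a ha b hb
  have hc : ∀ x ∈ Algebra.adjoin F U, ∀ y ∈ Algebra.adjoin F U, x * y = y * x := by
    have h1 : ∀ a ∈ U, ∀ y ∈ Algebra.adjoin F U, a * y = y * a := fun a ha y hy =>
      (Subalgebra.mem_centralizer_iff F).1 (Algebra.adjoin_le (S := Subalgebra.centralizer F {a})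
        (fun b hb => (Subalgebra.mem_centralizer_iff F).2 fun c hc => by rw [Set.mem_singleton_iff.1 hc]; exact hUU a ha b hb) hy)
        a rfl
    intro x hx y hy
    exact ((Subalgebra.mem_centralizer_iff F).1 (Algebra.adjoin_le (S := Subalgebra.centralizer F {y})
      (fun b hb => (Subalgebra.mem_centralizer_iff F).2 fun c hc => by
        rw [Set.mem_singleton_iff.1 hc]; exact (h1 b hb y hy).symm) hx) y rfl).symm
  have hnL : Normalises H (Algebra.adjoin F U) := fun g hg x hx => by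
    have h1 : Algebra.adjoin F U ≤ (Algebra.adjoin F U).comap (cjAlg g).toAlgHom := Algebra.adjoin_le fun b hb => by
      show cj g b ∈ Algebra.adjoin F U
      refine Algebra.subset_adjoin ?_
      rw [hU] at hb ⊢
      rcases hb with hb | hb
      · exact Or.inl (hnorm g hg b hb)
      · exact Or.inr (hScj g hg b hb)
    exact h1 hx
  have hdL : AdjClosed (RingHom.id F) (qG Q) (Algebra.adjoin F U : Set (Matrix ι ι F)) :=
    hG.adjClosed_adjoin fun a ha => Algebra.subset_adjoin (by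
      rw [hU] at ha ⊢
      rcases ha with ha | ha
      · exact Or.inl (show adj _ _ a ∈ K by rw [hsa a ha]; exact ha)
      · exact Or.inr (hSadj a ha))
  have hKL : K ≤ Algebra.adjoin F U := fun x hx => Algebra.subset_adjoin (hU ▸ Or.inl hx)
  have hs₀L : s₀ ∈ Algebra.adjoin F U := Algebra.subset_adjoin (hU ▸ Or.inr hs₀)
  have hne : ∃ z ∈ Algebra.adjoin F U, ∀ c : F, z ≠ c • (1 : Matrix ι ι F) :=
    ⟨s₀, hs₀L, fun c hc' => hs₀K (hc' ▸ sc_mem K c)⟩
  rcases comm_normalised hirr hc hnL hne with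
    ⟨t, m, e, D, hidem, horth, hsum, hD, hdec, hle, he0, hatom, htrans⟩ | ⟨r', K', -, -, -, -, -, hinv⟩
  · exact class_idem hQ hn5 hI hirr
      (comm_forms_idem hG (hI.trans (iso_le hQ)) hc hnL hdL hidem horth hsum hD hdec hle he0 hatom htrans)
  · obtain ⟨d, hd⟩ : ∃ d, d = Module.finrank F (Algebra.adjoin F U) := ⟨_, rfl⟩
    have hdn : d ∣ Fintype.card ι := finrank_dvd_card (K := Algebra.adjoin F U) ⟨hc, hinv, hd.symm⟩
    have hlt : r < d := by
      rw [← hK.finrank_eq, hd]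
      exact Submodule.finrank_lt_finrank_of_lt (show Subalgebra.toSubmodule K < Subalgebra.toSubmodule (Algebra.adjoin F U) from
        lt_of_le_of_ne hKL fun h => hs₀K (by
          have : s₀ ∈ Subalgebra.toSubmodule K := h ▸ hs₀L
          exact this))
    have hd2 : d = 2 * r := by
      rw [hn] at hdn
      obtain ⟨c, hc'⟩ := hdn
      rcases c with _ | _ | c
      · simp at hc'; exact absurd hc' hr.ne_zero
      · omega
      · nlinarith
    obtain ⟨K₂, hK₂L, hK₂, hmem⟩ := exists_subfield_subalgebra hc hinv two_pos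
      (hd ▸ hd2 ▸ dvd_mul_right 2 r : 2 ∣ Module.finrank F (Algebra.adjoin F U))
    refine class_two hQ hn5 hI hirr hK₂ (fun x hx => ?_) fun g hg x hx => ?_
    · rw [SetLike.mem_coe, hmem] at hx ⊢
      exact ⟨hdL x hx.1, by rw [← hG.adj_pow, hx.2]⟩
    · rw [hmem] at hx ⊢
      exact ⟨hnL g hg x hx.1, by rw [← cj_pow, hx.2]⟩

/-- normalised commutative algebras consist of scalars -/
theorem oe_scalar_of_comm [Nonempty ι] (hn : 5 ≤ Fintype.card ι) {H : Subgroup (GL ι F)}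
    (hI : H ≤ Cfsg.isometryGroup F Q) (hH : ¬ OEClass Q H) {Z : Subalgebra F (Matrix ι ι F)}
    (hc : ∀ x ∈ Z, ∀ y ∈ Z, x * y = y * x) (hnZ : Normalises H Z)
    (hd : AdjClosed (RingHom.id F) (qG Q) (Z : Set (Matrix ι ι F))) :
    ∀ z ∈ Z, ∃ c : F, z = c • (1 : Matrix ι ι F) := by
  by_contra hcon
  push Not at hcon
  have hirr := oe_irred hQ hI hH
  have hG := refl_qG hQ
  have hI' := hI.trans (iso_le hQ)
  rcases comm_forms hG hI' hirr hc hnZ hd hcon with h1 | h1 | ⟨r, K, hr, hK, hKd, hle, hKn⟩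
  · exact hH (class_idem hQ hn hI hirr (Or.inl h1))
  · exact hH (class_idem hQ hn hI hirr (Or.inr h1))
  · by_cases hr2 : r = 2
    · subst hr2
      exact hH (class_two hQ hn hI hirr hK hKd hKn)
    have hsa := adj_eq_of_odd hG hr hr2 hK hKd
    by_cases hn2 : Fintype.card ι = 2 * r
    · exact hH (class_rot hQ hn hI hirr hr hK hn2 hsa hKn)
    exact hH (.field hr hK (Or.inr hn2) (Or.inl ((selfAdjointFor_iff hQ).2 hsa)) hle)

end CfsgLib.Perm.Asch.OE
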