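import Cfsg.Agent.Lib.Perm.Asch.OE.Tensor

/-!
# The structure of subgroups of the orthogonal groups in even dimension
-/

set_option autoImplicit false
set_option linter.all false

namespace CfsgLib.Perm.Asch.OE

open scoped Classical Matrix commutatorElement
open Matrix Cfsg.Geo CfsgLib.Perm.Asch CfsgLib.Perm.Trans CfsgLib.Perm.Trans.Quad

variable {ι : Type} [Fintype ι] [DecidableEq ι] {F : Type*} [Field F]

local notation "pol" => QuadraticMap.polar

theorem not_irred_of_scalars (hn : 2 ≤ Fintype.card ι) {N : Subgroup (GL ι F)} (hN : N ≤ scalars ι F) : ¬ Irred N := by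
  intro hirr
  haveI : Nonempty ι := Fintype.card_pos_iff.1 (by omega)
  let v : ι → F := Pi.single (Classical.arbitrary ι) 1
  have hv : v ≠ 0 := fun h => one_ne_zero (Pi.single_eq_zero_iff.1 h)
  rcases hirr.eq_bot_or_top (Submodule.span F {v}) (fun g hg w hw => by
    obtain ⟨c, hc⟩ := Asch.mem_scalars.1 (hN hg)
    rw [hc, smul_mulVec, one_mulVec]
    exact Submodule.smul_mem _ _ hw) with h | h
  · exact hv (Submodule.span_singleton_eq_bot.1 h)
  · have h1 := finrank_span_singleton (K := F) hv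
    rw [h, finrank_top, Module.finrank_fintype_fun_eq_card] at h1
    omega

theorem exists_coordD (h2 : (2 : F) = 0) (P : GL ι F) (δ : ι → F) :
    ∃ D : (ι → F) → F, (∀ x y, D (x + y) = D x + D y) ∧ (∀ (c : F) x, D (c • x) = c ^ 2 * D x) ∧
      ∀ i, D ((P : Matrix ι ι F) *ᵥ Pi.single i 1) = δ i := by
  refine ⟨fun v => ∑ i, (((P⁻¹ : GL ι F) : Matrix ι ι F) *ᵥ v) i ^ 2 * δ i, fun x y => ?_, fun c x => ?_, fun i => ?_⟩
  · dsimp only
    rw [Matrix.mulVec_add, ← Finset.sum_add_distrib]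
    refine Finset.sum_congr rfl fun i _ => ?_
    rw [Pi.add_apply]
    linear_combination ((((P⁻¹ : GL ι F) : Matrix ι ι F) *ᵥ x) i * (((P⁻¹ : GL ι F) : Matrix ι ι F) *ᵥ y) i * δ i) * h2
  · dsimp only
    rw [Matrix.mulVec_smul, Finset.mul_sum]
    refine Finset.sum_congr rfl fun i _ => ?_
    rw [Pi.smul_apply, smul_eq_mul]
    ring
  · show ∑ j, _ = _
    rw [Matrix.mulVec_mulVec, Asch.gl_inv_mul, Matrix.one_mulVec, Finset.sum_eq_single i (fun j _ hj => by
      rw [Pi.single_eq_of_ne hj, zero_pow two_ne_zero, zero_mul]) (by simp), Pi.single_eq_same, one_pow, one_mul]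

theorem inv_of_basis {D : (ι → F) → F} (hadd : ∀ x y, D (x + y) = D x + D y)
    (hsq : ∀ (c : F) x, D (c • x) = c ^ 2 * D x) (P g : GL ι F)
    (h : ∀ i, D ((g : Matrix ι ι F) *ᵥ ((P : Matrix ι ι F) *ᵥ Pi.single i 1)) = D ((P : Matrix ι ι F) *ᵥ Pi.single i 1))
    (v : ι → F) : D ((g : Matrix ι ι F) *ᵥ v) = D v := by
  have key : ∀ w, D ((g : Matrix ι ι F) *ᵥ ((P : Matrix ι ι F) *ᵥ w)) - D ((P : Matrix ι ι F) *ᵥ w) = 0 := by
    refine sq_ext (fun x y => ?_) (fun s x => ?_) (fun i => by rw [h, sub_self])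
    · rw [Matrix.mulVec_add, Matrix.mulVec_add, hadd, hadd]; ring
    · rw [Matrix.mulVec_smul, Matrix.mulVec_smul, hsq, hsq]; ring
  have h1 := key (((P⁻¹ : GL ι F) : Matrix ι ι F) *ᵥ v)
  rw [Matrix.mulVec_mulVec _ (P : Matrix ι ι F), Asch.gl_mul_inv, Matrix.one_mulVec] at h1
  exact sub_eq_zero.1 h1

theorem subfield_elem {F₀ : Subfield F} {P g : GL ι F} (hg : g ∈ subfieldSubgroup F₀ P) :
    ∃ (s : F) (M₀ : Matrix ι ι F), (∀ i j, M₀ i j ∈ F₀) ∧
      ∀ w, (g : Matrix ι ι F) *ᵥ ((P : Matrix ι ι F) *ᵥ w) = s • ((P : Matrix ι ι F) *ᵥ (M₀ *ᵥ w)) := by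
  obtain ⟨k, hk, rfl⟩ := Subgroup.mem_map.1 hg
  obtain ⟨x, hx, z, hz, rfl⟩ := Subgroup.mem_sup_of_normal_right.1 hk
  obtain ⟨M, rfl⟩ := hx
  obtain ⟨s, hs⟩ := Asch.mem_scalars.1 hz
  refine ⟨s, ((Matrix.GeneralLinearGroup.map (F₀.subtype : F₀ →+* F) M : GL ι F) : Matrix ι ι F), fun i j => ?_, fun w => ?_⟩
  · exact ((M : Matrix ι ι F₀) i j).2
  · show ((P * (Matrix.GeneralLinearGroup.map (F₀.subtype : F₀ →+* F) M * z) * P⁻¹ : GL ι F) : Matrix ι ι F) *ᵥ _ = _
    rw [Units.val_mul, Units.val_mul, mulVec_mulVec, mul_assoc, Asch.gl_inv_mul, mul_one, ← mulVec_mulVec, Units.val_mul,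
      hs, mul_smul_comm, mul_one, smul_mulVec, mulVec_smul]

theorem slot_transpose {k t : ℕ} (i : Fin t) (X : Matrix (Fin k) (Fin k) F) : (slot i X)ᵀ = slot i Xᵀ := by
  ext x y
  simp only [Matrix.transpose_apply, slot_apply]
  simp [eq_comm]

theorem pv_single_one [Fintype F] {k t : ℕ} (a : Fin t → Fin k) :
    (Pi.single a (1 : F) : (Fin t → Fin k) → F) = Asch.pv (fun l => (Pi.single (a l) (1 : F) : Fin k → F)) := by
  have := pv_single_smul a (fun _ => (1 : F))
  simpa using this.symm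

theorem pv_update_add {k t : ℕ} (x : Fin t → Fin k → F) (l : Fin t) (y y' : Fin k → F) :
    Asch.pv (Function.update x l (y + y')) = Asch.pv (Function.update x l y) + Asch.pv (Function.update x l y') := by
  funext a
  simp only [Pi.add_apply, Asch.pv]
  rw [← Finset.mul_prod_erase _ _ (Finset.mem_univ l), ← Finset.mul_prod_erase _ _ (Finset.mem_univ l),
    ← Finset.mul_prod_erase _ _ (Finset.mem_univ l), Function.update_self, Function.update_self, Function.update_self,
    Pi.add_apply, add_mul]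
  congr 1 <;> congr 1 <;>
  · refine Finset.prod_congr rfl fun j hj => ?_
    rw [Function.update_of_ne (Finset.ne_of_mem_erase hj), Function.update_of_ne (Finset.ne_of_mem_erase hj)]

theorem pv_update_smul {k t : ℕ} (x : Fin t → Fin k → F) (l : Fin t) (s : F) (y : Fin k → F) :
    Asch.pv (Function.update x l (s • y)) = s • Asch.pv (Function.update x l y) := by
  funext a
  simp only [Pi.smul_apply, smul_eq_mul, Asch.pv]
  rw [← Finset.mul_prod_erase _ _ (Finset.mem_univ l), ← Finset.mul_prod_erase _ _ (Finset.mem_univ l),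
    Function.update_self, Function.update_self, Pi.smul_apply, smul_eq_mul, mul_assoc]
  congr 2
  refine Finset.prod_congr rfl fun j hj => ?_
  rw [Function.update_of_ne (Finset.ne_of_mem_erase hj), Function.update_of_ne (Finset.ne_of_mem_erase hj)]

theorem gform_pure_pv {k t : ℕ} (G₁ : Matrix (Fin k) (Fin k) F) (x y : Fin t → Fin k → F) :
    gform (RingHom.id F) (pure fun _ : Fin t => G₁) (Asch.pv x) (Asch.pv y) =
      ∏ l, gform (RingHom.id F) G₁ (x l) (y l) := by
  simp only [gform, RingHom.coe_id, Function.id_comp]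
  rw [pure_mulVec_pv]
  simp only [dotProduct, Asch.pv, ← Finset.prod_mul_distrib]
  exact (Fintype.prod_sum (fun l b => x l b * (G₁ *ᵥ y l) b)).symm

theorem conj_two [Fintype F] {G₂ : Matrix (Fin 2) (Fin 2) F} (hd2 : G₂.det ≠ 0) {b : GL (Fin 2) F} {c : F} (hc0 : c ≠ 0)
    (e2 : (b : Matrix (Fin 2) (Fin 2) F)ᵀ * G₂ * (b : Matrix (Fin 2) (Fin 2) F) = c • G₂) :
    ∃ z : F, cj b (G₂⁻¹ * J2 F) = z • (G₂⁻¹ * J2 F) := by
  set S := G₂⁻¹ * J2 F with hS
  have hG2i : G₂ * G₂⁻¹ = 1 := Matrix.mul_nonsing_inv _ (Ne.isUnit hd2)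
  have hG2i' : G₂⁻¹ * G₂ = 1 := Matrix.nonsing_inv_mul _ (Ne.isUnit hd2)
  set bm := (b : Matrix (Fin 2) (Fin 2) F)
  set bi := ((b⁻¹ : GL (Fin 2) F) : Matrix (Fin 2) (Fin 2) F)
  have hb : bm.det ≠ 0 := ((Matrix.isUnit_iff_isUnit_det _).1 b.isUnit).ne_zero
  refine ⟨(bm.det * c⁻¹)⁻¹, ?_⟩
  have e1 : bmᵀ * J2 F * bm = bm.det • J2 F := J2_congr bm
  have e3 : bi * S * bm = (bm.det * c⁻¹) • S := by
    have e5 : bi * G₂⁻¹ = c⁻¹ • (G₂⁻¹ * bmᵀ) := by
      calc bi * G₂⁻¹ = c⁻¹ • (G₂⁻¹ * (c • G₂) * (bi * G₂⁻¹)) := by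
            rw [mul_smul_comm, hG2i', smul_mul_assoc, one_mul, smul_smul, inv_mul_cancel₀ hc0, one_smul]
        _ = c⁻¹ • (G₂⁻¹ * (bmᵀ * G₂ * bm) * (bi * G₂⁻¹)) := by rw [e2]
        _ = _ := by
          simp only [mul_assoc]
          rw [← mul_assoc bm bi, Asch.gl_mul_inv, one_mul, hG2i, mul_one]
    rw [hS, ← mul_assoc bi, e5, smul_mul_assoc, smul_mul_assoc, mul_assoc, mul_assoc, ← mul_assoc (bmᵀ),
      e1, mul_smul_comm, smul_smul, mul_comm]
  show bm * S * bi = _
  calc bm * S * bi = (bm.det * c⁻¹)⁻¹ • (bm * ((bm.det * c⁻¹) • S) * bi) := by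
        rw [mul_smul_comm, smul_mul_assoc, smul_smul, inv_mul_cancel₀ (mul_ne_zero hb (inv_ne_zero hc0)), one_smul]
    _ = (bm.det * c⁻¹)⁻¹ • ((bm * bi) * S * (bm * bi)) := by rw [← e3]; simp only [mul_assoc]
    _ = _ := by rw [Asch.gl_mul_inv, one_mul, mul_one]

variable [Fintype F] {Q : (ι → F) → F} (hQ : IsNondegenerateQuadraticForm Q) {H M : Subgroup (GL ι F)}
include hQ

/-- a symplectic type group gives an isometry squaring to minus one -/
theorem oe_symType (hn : 5 ≤ Fintype.card ι) (hI : H ≤ Cfsg.isometryGroup F Q) (hH : ¬ OEClass Q H) (hMH : M ≤ H)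
    (hM : NormG H M) (hMs : ¬ M ≤ scalars ι F) (hmin : ∀ N ≤ M, NormG H N → ¬ N ≤ scalars ι F → N = M)
    (hcom : ∀ a ∈ M, ∀ b ∈ M, a * b * a⁻¹ * b⁻¹ ∈ scalars ι F) : False := by
  haveI : Nonempty ι := Fintype.card_pos_iff.1 (by omega)
  have hG := refl_qG hQ
  have hIso : Cfsg.isometryGroup F Q ≤ iso (RingHom.id F) (qG Q) := iso_le hQ
  have hle' : ∀ N ≤ iso (RingHom.id F) (qG Q), (2 : F) ≠ 0 → N ≤ Cfsg.isometryGroup F Q := by
    intro N hN h2 g hg
    refine Quad.mem_iso.2 fun x => ?_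
    have h := Asch.mem_iso_iff.1 (hN hg) x x
    rw [← pol_eq hQ, pself hQ, pself hQ] at h
    exact mul_left_cancel₀ h2 h
  by_cases h2 : (2 : F) = 0
  · haveI : CharP F 2 := CharTwo.of_one_ne_zero_of_two_eq_zero one_ne_zero h2
    have hMA := oe_absIrr_of_normal hQ hn hI hH hM (hMH.trans hI) hMs
    refine hMs fun a ha => hMA.mem_scalars_of_commute fun b hb => ?_
    obtain ⟨c, hc⟩ := Asch.mem_scalars.1 (hcom a ha b hb)
    have hsch : sch ι F c = a * b * a⁻¹ * b⁻¹ := Units.ext (by rw [sch_coe, hc])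
    have hcU : (c : F) * (c : F) = 1 := (sch_mem_iso hG c).1 (hsch ▸ hIso (Subgroup.mul_mem _ (Subgroup.mul_mem _
      (Subgroup.mul_mem _ (hI (hMH ha)) (hI (hMH hb))) (Subgroup.inv_mem _ (hI (hMH ha)))) (Subgroup.inv_mem _ (hI (hMH hb)))))
    have hc1 : c = 1 := Units.ext (by
      rcases mul_self_eq_one_iff.1 hcU with h | h
      · exact h
      · rw [h, CharTwo.neg_eq]; rfl)
    rw [hc1, map_one] at hsch
    calc a * b = a * b * a⁻¹ * b⁻¹ * (b * a) := by group
      _ = b * a := by rw [← hsch, one_mul]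
  obtain ⟨r, R, hR⟩ := exists_sympData hG ((hMH.trans hI).trans hIso) hM hMs hmin hcom
    (fun N hNI hN hNs => oe_absIrr_of_normal hQ hn hI hH hN (hle' N hNI h2) hNs)
  have hU : ∀ c : Fˣ, c ∈ unitCircle (RingHom.id F) → c = 1 ∨ c = -1 := by
    intro c hc
    have h1 : (c : F) * (c : F) = 1 := hc
    rwa [mul_self_eq_one_iff, ← Units.val_one, ← Units.val_neg, ← Units.ext_iff, ← Units.ext_iff] at h1
  have hle : Nat.card (unitCircle (RingHom.id F)) ≤ 2 := by
    classical
    refine le_trans (Nat.card_le_card_of_injective (fun c : unitCircle (RingHom.id F) => decide ((c : Fˣ) = 1)) ?_)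
      (by simp)
    intro a b hab
    have hab' : decide ((a : Fˣ) = 1) = decide ((b : Fˣ) = 1) := hab
    rw [decide_eq_decide] at hab'
    refine Subtype.ext ?_
    rcases hU a a.2 with h | h <;> rcases hU b b.2 with h' | h'
    · rw [h, h']
    · rw [h, hab'.1 h]
    · rw [hab'.2 h', h']
    · rw [h, h']
  have hr := hR.symp.1
  have hpos : 0 < Nat.card (unitCircle (RingHom.id F)) := Nat.card_pos
  obtain rfl : r = 2 := by
    have := Nat.le_of_dvd hpos hR.r_dvd
    have := hr.two_le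
    omega
  have hscal : ∀ x ∈ R, x ∈ scalars ι F → (x : Matrix ι ι F) = 1 ∨ (x : Matrix ι ι F) = -1 := by
    intro x hx hxs
    obtain ⟨c, hc⟩ := Asch.mem_scalars.1 hxs
    have hxc : sch ι F c = x := Units.ext (by rw [sch_coe, hc])
    rcases hU c ((hR.scalar_iff c).1 (hxc ▸ hx)).1 with h | h <;> rw [hc, h]
    · left; simp
    · right; simp
  have hcommR : ∀ a ∈ R, ∀ b ∈ R, (a : Matrix ι ι F) * (b : Matrix ι ι F) = (b : Matrix ι ι F) * (a : Matrix ι ι F) ∨
      (a : Matrix ι ι F) * (b : Matrix ι ι F) = -((b : Matrix ι ι F) * (a : Matrix ι ι F)) := by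
    intro a ha b hb
    have e : a * b = a * b * a⁻¹ * b⁻¹ * (b * a) := by group
    have e' := congrArg (fun z : GL ι F => (z : Matrix ι ι F)) e
    simp only [Units.val_mul] at e'
    rcases hscal _ (R.mul_mem (R.mul_mem (R.mul_mem ha hb) (R.inv_mem ha)) (R.inv_mem hb)) (hR.comm a ha b hb) with h | h <;>
      simp only [Units.val_mul] at h <;> rw [h] at e'
    · left; rw [e', one_mul]
    · right; rw [e', neg_one_mul]
  obtain ⟨a, ha, b, hb, hab⟩ : ∃ a ∈ R, ∃ b ∈ R, (a : Matrix ι ι F) * b ≠ (b : Matrix ι ι F) * a := by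
    by_contra hcon
    push Not at hcon
    exact not_irred_of_scalars (by omega) (fun x hx => hR.absIrr.mem_scalars_of_commute fun y hy =>
      Units.ext (by rw [Units.val_mul, Units.val_mul]; exact hcon x hx y hy)) hR.absIrr.irred
  have hanti := (hcommR a ha b hb).resolve_left hab
  have hsq : ∀ x ∈ R, (x : Matrix ι ι F) * x = 1 ∨ (x : Matrix ι ι F) * x = -1 := by
    intro x hx
    have hs : x * x ∈ scalars ι F := by
      refine hR.absIrr.mem_scalars_of_commute fun y hy => Units.ext ?_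
      simp only [Units.val_mul]
      rcases hcommR x hx y hy with h | h
      · rw [mul_assoc, h, ← mul_assoc, h, mul_assoc]
      · rw [mul_assoc, h, mul_neg, ← mul_assoc, h, neg_mul, neg_neg, mul_assoc]
    simpa only [Units.val_mul] using hscal _ (R.mul_mem hx hx) hs
  obtain ⟨x, hx, hxx⟩ : ∃ x ∈ R, (x : Matrix ι ι F) * x = -1 := by
    rcases hsq a ha with h | h
    swap
    · exact ⟨a, ha, h⟩
    rcases hsq b hb with h' | h'
    swap
    · exact ⟨b, hb, h'⟩
    refine ⟨a * b, R.mul_mem ha hb, ?_⟩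
    have hba : (b : Matrix ι ι F) * a = -((a : Matrix ι ι F) * b) := by rw [hanti, neg_neg]
    rw [Units.val_mul, mul_assoc, ← mul_assoc (b : Matrix ι ι F), hba, neg_mul, mul_neg, mul_assoc (a : Matrix ι ι F) (b : Matrix ι ι F),
      h', mul_one, h]
  obtain ⟨k, hk, -⟩ := hR.card
  exact hH (.sym h2 (Quad.mem_iso.1 (hle' R hR.le_iso h2 hx)) hxx ⟨k, hk⟩)

/-- a power of a form of dimension two -/
theorem oe_power_two (hn : 5 ≤ Fintype.card ι) (hI : H ≤ Cfsg.isometryGroup F Q) (hH : ¬ OEClass Q H) {t : ℕ}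
    (ht : 2 ≤ t) {e : ι ≃ (Fin t → Fin 2)} {P : GL ι F} (hle : H ≤ tensorWreathSubgroup 2 t e P) {c : F} (hc : c ≠ 0)
    {G₁ : Matrix (Fin 2) (Fin 2) F} (hd1 : G₁.det ≠ 0) {δ : F} (hδ : G₁ᵀ = δ • G₁)
    (hG : gramAt (RingHom.id F) (qG Q) e P = c • pure fun _ => G₁) : False := by
  haveI : Nonempty ι := Fintype.card_pos_iff.1 (by omega)
  have hR := refl_qG hQ
  have hirr := oe_irred hQ hI hH
  let i0 : Fin t := ⟨0, by omega⟩
  have hact : ∀ g ∈ H, ∃ (gs : Fin t → GL (Fin 2) F) (π : Equiv.Perm (Fin t)),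
      g = P * glReindex e.symm (pureGL gs * permGL π) * P⁻¹ ∧
      (∀ i, ∃ d : F, d ≠ 0 ∧ (gs i : Matrix (Fin 2) (Fin 2) F)ᵀ * G₁ * (gs i : Matrix (Fin 2) (Fin 2) F) = d • G₁) := by
    intro g hg
    obtain ⟨gs, π, e1, h1⟩ := wreath_similitude hR.det hG (iso_le hQ (hI hg)) (hle hg)
    simp only [RingHom.coe_id, Matrix.map_id] at h1
    exact ⟨gs, π, e1, h1⟩
  have halt : G₁ᵀ = -G₁ ∧ ∀ i, G₁ i i = 0 := by
    by_cases h2 : (2 : F) = 0
    · haveI : CharP F 2 := CharTwo.of_one_ne_zero_of_two_eq_zero one_ne_zero h2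
      have hsym : G₁ᵀ = G₁ := by
        rcases sign_of_symm_eps hd1 hδ with h | h <;> rw [hδ, h]
        · rw [one_smul]
        · rw [neg_smul, one_smul]; ext i j; simp [CharTwo.neg_eq]
      refine ⟨by rw [hsym]; ext i j; simp [CharTwo.neg_eq], fun i => ?_⟩
      by_contra hi
      obtain ⟨E, hE0, hEd, hEs⟩ := exists_row hsym hi
      set E' : Matrix (Fin t → Fin 2) (Fin t → Fin 2) F := pure fun _ => E
      set X := cj P (rx e E')
      have hE'0 : E' ≠ 0 := by
        intro h0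
        obtain ⟨a, b, hab⟩ : ∃ a b, E a b ≠ 0 := by
          by_contra hcon
          push Not at hcon
          exact hE0 (Matrix.ext hcon)
        have := congrFun (congrFun h0 fun _ => a) fun _ => b
        simp [E'] at this
        exact hab this.1
      obtain ⟨w, hw0, hw⟩ := Matrix.exists_mulVec_eq_zero_iff.2 (hEd le_rfl)
      have hX : ∃ v, v ≠ 0 ∧ X *ᵥ v = 0 := by
        refine ⟨(P : Matrix ι ι F) *ᵥ (Asch.pv (fun _ : Fin t => w) ∘ e), fun h0 => hw0 ?_, ?_⟩
        · funext a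
          have h1 := congrArg (((P⁻¹ : GL ι F) : Matrix ι ι F) *ᵥ ·) h0
          simp only [mulVec_mulVec, Asch.gl_inv_mul, one_mulVec, mulVec_zero] at h1
          have h2' := congrFun h1 (e.symm fun _ => a)
          simp [Asch.pv] at h2'
          exact h2'.1
        · show cj P (rx e E') *ᵥ _ = 0
          rw [cj, mulVec_mulVec, mul_assoc, Asch.gl_inv_mul, mul_one, ← mulVec_mulVec, rx_mulVec, pure_mulVec_pv]
          rw [show (Asch.pv (fun _ : Fin t => E *ᵥ w) : (Fin t → Fin 2) → F) = 0 from funext fun a =>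
            Finset.prod_eq_zero (Finset.mem_univ i0) (by simp [hw])]
          exact Matrix.mulVec_zero _
      refine not_irred_of_killed (S := {X}) ⟨X, rfl, fun h0 => hE'0 ?_⟩ ?_ ?_ hirr
      · apply (rx e).injective
        apply cj_injective P
        show X = _
        rw [h0, map_zero]
        simp [cj]
      · obtain ⟨v, hv0, hv⟩ := hX
        intro hb
        have : v ∈ killed ({X} : Set (Matrix ι ι F)) := fun s hs => by
          rw [Set.mem_singleton_iff.1 hs]; exact hv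
        rw [hb] at this
        exact hv0 this
      · rintro g hg s rfl
        obtain ⟨gs, π, rfl, hgs⟩ := hact g hg
        have hsi : ∀ j, ∃ s : F, E * (gs j : Matrix (Fin 2) (Fin 2) F) = s • E := fun j => by
          obtain ⟨c', -, h'⟩ := hgs j
          exact hEs _ c' h'
        choose s hs using hsi
        refine ⟨cj P (rx e ((∏ j, s j) • permMat π)), X, rfl, ?_⟩
        have hgc : ((P * glReindex e.symm (pureGL gs * permGL π) * P⁻¹ : GL ι F) : Matrix ι ι F) =
            cj P (rx e ((pureGL gs * permGL π : GL (Fin t → Fin 2) F) : Matrix (Fin t → Fin 2) (Fin t → Fin 2) F)) :=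
          (cj_coe _ _).symm.trans rfl
        rw [hgc, ← cj_mul, ← cj_mul, ← map_mul, ← map_mul, Units.val_mul, pureGL_coe, permGL_coe, ← mul_assoc]
        congr 2
        show pure _ * pure _ * _ = _
        rw [pure_mul, show ((fun _ : Fin t => E) * fun j => (gs j : Matrix (Fin 2) (Fin 2) F)) = fun j => s j • E from
          funext fun j => hs j, pure_smul, smul_mul_assoc, smul_mul_assoc]
        congr 1
        have h1 := cj_permGL_pure (F := F) π (fun _ : Fin t => E)
        rw [cj, permGL_coe] at h1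
        calc pure (fun _ : Fin t => E) * permMat π
            = permMat π * pure (fun _ : Fin t => E) *
                (((permGL π)⁻¹ : GL (Fin t → Fin 2) F) : Matrix (Fin t → Fin 2) (Fin t → Fin 2) F) * permMat π := by
              rw [h1]; rfl
          _ = _ := by rw [mul_assoc, ← permGL_coe, Asch.gl_inv_mul, mul_one]
    · rcases sign_of_symm_eps hd1 hδ with h | h
      swap
      · have hskew : G₁ᵀ = -G₁ := by rw [hδ, h, neg_smul, one_smul]
        refine ⟨hskew, fun i => ?_⟩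
        have := congrFun (congrFun hskew i) i
        rw [Matrix.transpose_apply, Matrix.neg_apply] at this
        exact (mul_eq_zero.1 (show (2 : F) * G₁ i i = 0 by linear_combination this)).resolve_left h2
      exfalso
      have hsym : G₁ᵀ = G₁ := by rw [hδ, h, one_smul]
      obtain ⟨S, hS⟩ : ∃ S, S = G₁⁻¹ * J2 F := ⟨_, rfl⟩
      have hG2i : G₁ * G₁⁻¹ = 1 := Matrix.mul_nonsing_inv _ (Ne.isUnit hd1)
      have hG2i' : G₁⁻¹ * G₁ = 1 := Matrix.nonsing_inv_mul _ (Ne.isUnit hd1)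
      have hJt : (J2 F)ᵀ = -(J2 F) := by ext a b; fin_cases a <;> fin_cases b <;> simp [J2]
      obtain ⟨X, hX⟩ : ∃ X : Fin t → Matrix ι ι F, ∀ i, X i = cj P (rx e (slot i S)) := ⟨_, fun _ => rfl⟩
      have hcommX : ∀ i j, X i * X j = X j * X i := by
        intro i j
        rw [hX, hX, ← cj_mul, ← cj_mul, ← map_mul, ← map_mul]
        congr 2
        rcases eq_or_ne i j with rfl | hij
        · rfl
        · show pure _ * pure _ = pure _ * pure _
          rw [pure_mul, pure_mul]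
          congr 1
          funext l
          rcases eq_or_ne l i with rfl | hl
          · simp [Pi.mulSingle_eq_of_ne hij]
          · simp [Pi.mulSingle_eq_of_ne hl]
      have hXadj : ∀ i, adj (RingHom.id F) (qG Q) (X i) = -X i := by
        intro i
        have hST : Sᵀ * G₁ = G₁ * -S := by
          rw [hS, Matrix.transpose_mul, Matrix.transpose_nonsing_inv, hsym, hJt, neg_mul, neg_mul, mul_assoc, hG2i',
            mul_one, mul_neg, ← mul_assoc, hG2i, one_mul]
        have h' := adj_of_gramAt hR e P (X := slot i S) (Y := slot i (-S)) ?_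
        · rw [hX, h', show slot i (-S) = -slot i S from map_neg (slotHom i) S, map_neg, ← neg_one_smul F (rx e (slot i S)),
            cj_smul, neg_one_smul]
        · simp only [RingHom.coe_id, Matrix.map_id]
          rw [hG, slot_transpose, mul_smul_comm, smul_mul_assoc]
          congr 1
          show pure _ * pure _ = pure _ * pure _
          rw [pure_mul, pure_mul]
          congr 1
          funext j
          rcases eq_or_ne j i with rfl | hj
          · simp only [Pi.mul_apply, Pi.mulSingle_eq_same]; exact hST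
          · simp only [Pi.mul_apply, Pi.mulSingle_eq_of_ne hj, one_mul, mul_one]
      set Z := Algebra.adjoin F (Set.range X)
      obtain ⟨z, hz⟩ := oe_scalar_of_comm hQ hn hI hH (Z := Z)
        (fun x hx y hy => by
          letI := Algebra.adjoinCommRingOfComm F (s := Set.range X) (by rintro _ ⟨i, rfl⟩ _ ⟨j, rfl⟩; exact hcommX i j)
          exact congrArg Subtype.val (mul_comm (⟨x, hx⟩ : Z) ⟨y, hy⟩))
        (fun g hg a ha => by
          have h1 : Z.map (cjAlg g).toAlgHom ≤ Z := by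
            rw [AlgHom.map_adjoin]
            refine Algebra.adjoin_le ?_
            rintro _ ⟨_, ⟨i, rfl⟩, rfl⟩
            show cj g (X i) ∈ Z
            obtain ⟨gs, π, rfl, hgs⟩ := hact g hg
            obtain ⟨d, hd0, hd⟩ := hgs (π i)
            obtain ⟨z, hz⟩ := conj_two hd1 hd0 hd
            rw [← hS] at hz
            have hzX : cj (P * glReindex e.symm (pureGL gs * permGL π) * P⁻¹) (X i) = z • X (π i) := by
              rw [hX, hX, cj_cj, inv_mul_cancel_right, ← cj_cj, ← cj_smul, ← map_smul]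
              congr 1
              show cj (Units.map (rx e).toAlgHom.toRingHom.toMonoidHom (pureGL gs * permGL π)) _ = _
              rw [cj_rx, ← cj_cj, cj_permGL_slot, cj_pureGL_slot, hz]
              exact congrArg (rx e) (map_smul (slotHom (π i)) z S)
            rw [hzX]
            exact Z.smul_mem (Algebra.subset_adjoin ⟨_, rfl⟩) z
          exact h1 ⟨a, ha, rfl⟩)
        (hR.adjClosed_adjoin (by
          rintro _ ⟨i, rfl⟩
          rw [hXadj]
          exact Z.neg_mem (Algebra.subset_adjoin ⟨i, rfl⟩)))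
        (X i0) (Algebra.subset_adjoin ⟨i0, rfl⟩)
      have hS1 : S = z • 1 := by
        apply slot_injective i0
        apply (rx e).injective
        apply cj_injective P
        rw [← hX, hz, show slot i0 (z • (1 : Matrix (Fin 2) (Fin 2) F)) = z • 1 by
          show slotHom i0 (z • 1) = _
          rw [map_smul, map_one], map_smul, map_one, cj_smul, cj_one]
      have hJ : J2 F = z • G₁ := by
        calc J2 F = G₁ * S := by rw [hS, ← mul_assoc, hG2i, one_mul]
          _ = _ := by rw [hS1, mul_smul_comm, mul_one]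
      have h01 := congrFun (congrFun hJ 0) 1
      have h10 := congrFun (congrFun hJ 1) 0
      have hsym' : G₁ 1 0 = G₁ 0 1 := congrFun (congrFun hsym 0) 1
      simp [J2, hsym'] at h01 h10
      rw [← h01] at h10
      exact h2 (by linear_combination -h10)
  obtain ⟨hskew, hdiag⟩ := halt
  obtain ⟨V, hVdef⟩ : ∃ V : (Fin t → Fin 2 → F) → (ι → F), ∀ x, V x = (P : Matrix ι ι F) *ᵥ (Asch.pv x ∘ e) :=
    ⟨_, fun _ => rfl⟩
  have hpolV : ∀ x y, pol Q (V x) (V y) = c * ∏ l, gform (RingHom.id F) G₁ (x l) (y l) := by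
    intro x y
    rw [hVdef, hVdef, pol_eq hQ, gform_gramAt, hG, ← gform_pure_pv]
    simp [gform, Matrix.smul_mulVec, dotProduct_smul]
  have hbasis : ∀ i, (P : Matrix ι ι F) *ᵥ Pi.single i 1 = V (fun l => Pi.single (e i l) 1) := by
    intro i
    rw [hVdef, ← pv_single_one]
    congr 1
    funext j
    by_cases hj : j = i
    · subst hj; simp
    · rw [Function.comp_apply, Pi.single_eq_of_ne hj, Pi.single_eq_of_ne (fun h => hj (e.injective h))]
  have hmove : ∀ g ∈ H, ∀ x, ∃ y, (g : Matrix ι ι F) *ᵥ V x = V y := by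
    intro g hg x
    obtain ⟨gs, π, rfl, -⟩ := hact g hg
    refine ⟨fun l => (gs l : Matrix (Fin 2) (Fin 2) F) *ᵥ x (π.symm l), ?_⟩
    rw [hVdef, hVdef, Units.val_mul, Units.val_mul, mulVec_mulVec, mul_assoc, Asch.gl_inv_mul, mul_one, ← mulVec_mulVec]
    congr 1
    show rx e ((pureGL gs * permGL π : GL (Fin t → Fin 2) F) : Matrix (Fin t → Fin 2) (Fin t → Fin 2) F) *ᵥ _ = _
    rw [rx_mulVec, Units.val_mul, pureGL_coe, permGL_coe, ← mulVec_mulVec, permMat_mulVec_pv, pure_mulVec_pv]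
  have hQV : ∀ x, Q (V x) = 0 := by
    intro x
    by_cases h2 : (2 : F) = 0
    swap
    · have h := hpolV x x
      rw [pself hQ, Finset.prod_eq_zero (Finset.mem_univ i0) (gform_self_eq_zero hskew hdiag _), mul_zero] at h
      exact (mul_eq_zero.1 h).resolve_left h2
    obtain ⟨D, hadd, hsq, hD⟩ := exists_coordD h2 P (fun i => Q ((P : Matrix ι ι F) *ᵥ Pi.single i 1))
    have hag : ∀ (s : Finset (Fin t)) (x : Fin t → Fin 2 → F), (∀ l ∉ s, ∃ a, x l = Pi.single a 1) →
        Q (V x) = D (V x) := by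
      intro s
      induction s using Finset.induction_on with
      | empty =>
        intro x hx
        choose a ha using fun l => hx l (Finset.notMem_empty l)
        have hxe : x = fun l => Pi.single ((e (e.symm a)) l) 1 := by
          funext l; rw [Equiv.apply_symm_apply, ha]
        rw [hxe, ← hbasis, hD]
      | @insert l s hl ih =>
        intro x hx
        refine sub_eq_zero.1 ?_
        have key : ∀ y, Q (V (Function.update x l y)) - D (V (Function.update x l y)) = 0 := by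
          refine sq_ext (fun y y' => ?_) (fun b y => ?_) (fun a => ?_)
          · obtain ⟨j, hj⟩ : ∃ j : Fin t, j ≠ l := by
              haveI : Nontrivial (Fin t) := Fin.nontrivial_iff_two_le.2 ht
              exact exists_ne l
            have h0 : pol Q (V (Function.update x l y)) (V (Function.update x l y')) = 0 := by
              rw [hpolV, Finset.prod_eq_zero (Finset.mem_univ j) ?_, mul_zero]
              rw [Function.update_of_ne hj, Function.update_of_ne hj]
              exact gform_self_eq_zero hskew hdiag _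
            have hV : V (Function.update x l (y + y')) = V (Function.update x l y) + V (Function.update x l y') := by
              rw [hVdef, hVdef, hVdef, pv_update_add, ← Matrix.mulVec_add]; rfl
            rw [hV, qadd hQ, hadd, h0]; ring
          · have hV : V (Function.update x l (b • y)) = b • V (Function.update x l y) := by
              rw [hVdef, hVdef, pv_update_smul, ← Matrix.mulVec_smul]; rfl
            rw [hV, qsmul hQ, hsq]; ring
          · refine sub_eq_zero.2 (ih _ fun j hj => ?_)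
            rcases eq_or_ne j l with rfl | hjl
            · exact ⟨a, Function.update_self _ _ _⟩
            · rw [Function.update_of_ne hjl]
              exact hx j fun h => (Finset.mem_insert.1 h).elim hjl hj
        have := key (x l)
        rwa [Function.update_eq_self] at this
    have hall : ∀ y, Q (V y) = D (V y) := fun y => hag Finset.univ y fun l hl => absurd (Finset.mem_univ l) hl
    have hD0 := addfun_zero (by omega) hirr hadd hsq (fun g hg v hv => by
      rw [inv_of_basis hadd hsq P g (fun i => ?_), hv]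
      obtain ⟨y, hy⟩ := hmove g hg (fun l => Pi.single (e i l) 1)
      rw [hD, hbasis, hy, ← hall, ← hy, Quad.mem_iso.1 (hI hg)])
    rw [hall, hD0]
  refine hH (.powerTwo ⟨t, ht, by rw [Fintype.card_congr e]; simp⟩ ?_)
  let u : {a : Fin t → Fin 2 // a i0 = 0} → ι → F := fun a => (P : Matrix ι ι F) *ᵥ Pi.single (e.symm a.1) 1
  refine ⟨Submodule.span F (Set.range u), le_top, ts_span hQ ?_ ?_, ?_⟩
  · rintro _ ⟨a, rfl⟩
    show Q ((P : Matrix ι ι F) *ᵥ Pi.single (e.symm a.1) 1) = 0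
    rw [hbasis, hQV]
  · rintro _ ⟨a, rfl⟩ _ ⟨b, rfl⟩
    show pol Q ((P : Matrix ι ι F) *ᵥ Pi.single (e.symm a.1) 1) ((P : Matrix ι ι F) *ᵥ Pi.single (e.symm b.1) 1) = 0
    rw [hbasis, hbasis, hpolV, Finset.prod_eq_zero (Finset.mem_univ i0) ?_, mul_zero]
    simp only [Equiv.apply_symm_apply, a.2, b.2, gform_single, hdiag]
  · have hli : LinearIndependent F u := by
      have h1 : LinearIndependent F fun i : ι => (P : Matrix ι ι F) *ᵥ (Pi.single i 1 : ι → F) := by
        have h0 := (Pi.basisFun F ι).linearIndependent.map' (Matrix.toLin' (P : Matrix ι ι F)) (LinearMap.ker_eq_bot.2 fun x y h => by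
          have := congrArg (((P⁻¹ : GL ι F) : Matrix ι ι F) *ᵥ ·) h
          simpa [Matrix.mulVec_mulVec] using this)
        simpa [Function.comp_def] using h0
      exact h1.comp (fun a : {a : Fin t → Fin 2 // a i0 = 0} => e.symm a.1) (e.symm.injective.comp Subtype.val_injective)
    rw [finrank_span_eq_card hli, finrank_top, Module.finrank_fintype_fun_eq_card, Fintype.card_congr e]
    let fl : (Fin t → Fin 2) ≃ (Fin t → Fin 2) :=
      Equiv.piCongrRight fun l => if l = i0 then Equiv.swap 0 1 else Equiv.refl _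
    have h1 : Fintype.card {a : Fin t → Fin 2 // a i0 = 0} = Fintype.card {a : Fin t → Fin 2 // ¬ a i0 = 0} := by
      refine Fintype.card_congr (fl.subtypeEquiv fun a => ?_)
      have : fl a i0 = Equiv.swap (0 : Fin 2) 1 (a i0) := by simp [fl]
      rw [this]
      generalize a i0 = z
      fin_cases z <;> simp
    have h3 := Fintype.card_subtype_compl (fun a : Fin t → Fin 2 => a i0 = 0)
    have h4 := Fintype.card_subtype_le (fun a : Fin t → Fin 2 => a i0 = 0)
    omega

theorem oe_of_not_simple (hn : 5 ≤ Fintype.card ι) (hI : H ≤ Cfsg.isometryGroup F Q) (hMH : M ≤ H) (hM : NormG H M)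
    (hMs : ¬ M ≤ scalars ι F) (hperf : ⁅M, M⁆ = M)
    (hmin : ∀ N ≤ M, NormG H N → ¬ N ≤ scalars ι F → N = M)
    (hns : ∃ U ≤ M, NormG M U ∧ ¬ U ≤ scalars ι F ∧ U ≠ M) : OEClass Q H := by
  by_contra hH
  haveI : Nonempty ι := Fintype.card_pos_iff.1 (by omega)
  have hMA := oe_absIrr_of_normal hQ hn hI hH hM (hMH.trans hI) hMs
  obtain ⟨d, t, e, P, c, G₁, hd, ht, hle, hc, hd1, hG⟩ :=
    exists_power_form (refl_qG hQ) (hI.trans (iso_le hQ)) hMH hM hMA hperf hmin hns
  obtain ⟨ε, δ, hε, hδε, hδ⟩ := power_refl (refl_qG hQ) (by omega) hc hd1 hG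
  simp only [RingHom.coe_id, Matrix.map_id] at hδ
  rcases Nat.lt_or_ge d 3 with hd3 | hd3
  swap
  · exact hH (.power hd3 ht (by rw [Fintype.card_congr e]; simp))
  obtain rfl : d = 2 := by omega
  exact oe_power_two hQ hn hI hH ht hle hc hd1 hδ hG

theorem OEClass.of_realisable (hn : 5 ≤ Fintype.card ι) (hI : H ≤ Cfsg.isometryGroup F Q) (hirr : Irred H)
    {P : Subgroup (GL ι F)} (hnP : NormG H P) (hP : AbsIrr P) (hPI : P ≤ Cfsg.isometryGroup F Q) {F₀ : Subfield F}
    (hne : F₀ ≠ ⊤) (hreal : RealisableOver F₀ (matrixSet P)) : OEClass Q H := by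
  haveI : Nonempty ι := Fintype.card_pos_iff.1 (by omega)
  obtain ⟨F₁, r, B, c, G₀, hr, hc, hle, hc0, h0, hG, hd0, -⟩ :=
    exists_rational_structure (refl_qG hQ) hnP hP (hPI.trans (iso_le hQ)) hne hreal
  have hζ : c⁻¹ ≠ 0 := inv_ne_zero hc0
  have hrat : ∀ u v : ι → F, (∀ i, u i ∈ F₁) → (∀ i, v i ∈ F₁) →
      c⁻¹ * pol Q ((B : Matrix ι ι F) *ᵥ u) ((B : Matrix ι ι F) *ᵥ v) ∈ F₁ := fun u v hu hv => by
    rw [pol_eq hQ]
    exact rational_gform hG h0 (by rw [inv_mul_cancel₀ hc0]; exact F₁.one_mem) hu hv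
  refine .sub hr hc hζ (fun u hu => ?_) hle
  show c⁻¹ * Q _ ∈ F₁
  by_cases h2 : (2 : F) = 0
  swap
  · have h := hrat u u hu hu
    rw [pself hQ, mul_left_comm] at h
    have h' := F₁.div_mem h (show (2 : F) ∈ F₁ by rw [← one_add_one_eq_two]; exact F₁.add_mem F₁.one_mem F₁.one_mem)
    rwa [mul_div_cancel_left₀ _ h2] at h'
  haveI : CharP F 2 := CharTwo.of_one_ne_zero_of_two_eq_zero one_ne_zero h2
  haveI : Fintype F₁ := Fintype.ofFinite _
  haveI : CharP F₁ 2 := CharTwo.of_one_ne_zero_of_two_eq_zero one_ne_zero (Subtype.ext h2)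
  obtain ⟨m, -, hm⟩ := FiniteField.card F₁ 2
  obtain ⟨q, hq⟩ : ∃ q, q = Nat.card F₁ := ⟨_, rfl⟩
  have hqm : q = 2 ^ (m : ℕ) := by rw [hq, Nat.card_eq_fintype_card, hm]
  have hfr : ∀ x y : F, (x + y) ^ q = x ^ q + y ^ q := fun x y => by rw [hqm]; exact add_pow_char_pow x y 2 m
  have hq0 : q ≠ 0 := by rw [hqm]; exact (Nat.two_pow_pos _).ne'
  have hfix : ∀ x : F, x ∈ F₁ → x ^ q = x := fun x hx => by rw [hq]; exact (mem_subfield_iff F₁ x).1 hx
  obtain ⟨D, hadd, hsq, hD⟩ := exists_coordD h2 B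
    (fun i => (c⁻¹ * Q ((B : Matrix ι ι F) *ᵥ Pi.single i 1)) ^ q - c⁻¹ * Q ((B : Matrix ι ι F) *ᵥ Pi.single i 1))
  have hD00 : D 0 = 0 := by simpa using hsq 0 0
  have hexp : ∀ (w : ι → F), (∀ i, w i ∈ F₁) →
      D ((B : Matrix ι ι F) *ᵥ w) = (c⁻¹ * Q ((B : Matrix ι ι F) *ᵥ w)) ^ q - c⁻¹ * Q ((B : Matrix ι ι F) *ᵥ w) := by
    intro w hw
    have key : ∀ s : Finset ι, D ((B : Matrix ι ι F) *ᵥ (∑ i ∈ s, w i • (Pi.single i 1 : ι → F))) =
        (c⁻¹ * Q ((B : Matrix ι ι F) *ᵥ (∑ i ∈ s, w i • (Pi.single i 1 : ι → F)))) ^ q -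
          c⁻¹ * Q ((B : Matrix ι ι F) *ᵥ (∑ i ∈ s, w i • (Pi.single i 1 : ι → F))) := by
      intro s
      induction s using Finset.induction_on with
      | empty => simp [qzero hQ, hD00, zero_pow hq0]
      | @insert a s ha ih =>
        rw [Finset.sum_insert ha, Matrix.mulVec_add, hadd, ih, Matrix.mulVec_smul, hsq, hD, qadd hQ, qsmul hQ,
          psmul_left hQ]
        have hp : c⁻¹ * pol Q ((B : Matrix ι ι F) *ᵥ Pi.single a 1)
            ((B : Matrix ι ι F) *ᵥ (∑ i ∈ s, w i • (Pi.single i 1 : ι → F))) ∈ F₁ := by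
          refine hrat _ _ (fun i => ?_) (fun i => ?_)
          · rw [Pi.single_apply]; split_ifs <;> [exact F₁.one_mem; exact F₁.zero_mem]
          · rw [Finset.sum_apply]
            refine sum_mem fun j _ => ?_
            rw [Pi.smul_apply, smul_eq_mul, Pi.single_apply]
            split_ifs
            · rw [mul_one]; exact hw j
            · rw [mul_zero]; exact F₁.zero_mem
        have hwa := hfix _ (hw a)
        have hp' := hfix _ (F₁.mul_mem (hw a) hp)
        simp only [mul_add, hfr]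
        rw [show c⁻¹ * (w a ^ 2 * Q ((B : Matrix ι ι F) *ᵥ Pi.single a 1)) =
          w a ^ 2 * (c⁻¹ * Q ((B : Matrix ι ι F) *ᵥ Pi.single a 1)) by ring,
          show c⁻¹ * (w a * pol Q ((B : Matrix ι ι F) *ᵥ Pi.single a 1)
            ((B : Matrix ι ι F) *ᵥ (∑ i ∈ s, w i • (Pi.single i 1 : ι → F)))) =
          w a * (c⁻¹ * pol Q ((B : Matrix ι ι F) *ᵥ Pi.single a 1)
            ((B : Matrix ι ι F) *ᵥ (∑ i ∈ s, w i • (Pi.single i 1 : ι → F)))) by ring, hp', mul_pow (w a ^ 2), ← pow_mul,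
          mul_comm 2 q, pow_mul, hwa]
        ring
    have hw' : w = ∑ i, w i • (Pi.single i 1 : ι → F) := pi_eq_sum_univ' w
    rw [hw']
    exact key Finset.univ
  obtain ⟨i₀, j₀, hij⟩ : ∃ i j, G₀ i j ≠ 0 := by
    by_contra hcon
    push Not at hcon
    exact hd0 (by rw [show G₀ = 0 from Matrix.ext hcon, Matrix.det_zero])
  have hsingle : ∀ i j, (Pi.single i (1 : F) : ι → F) j ∈ F₁ := fun i j => by
    rw [Pi.single_apply]; split_ifs <;> [exact F₁.one_mem; exact F₁.zero_mem]
  have hD0 := addfun_zero (by omega) hirr hadd hsq (fun g hg v hv => by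
    rw [inv_of_basis hadd hsq B g (fun i => ?_), hv]
    obtain ⟨s, M₀, hM₀, hgw⟩ := subfield_elem (hle hg)
    have hcol : ∀ i j, (M₀ *ᵥ (Pi.single i (1 : F) : ι → F)) j ∈ F₁ := fun i j => by
      rw [Matrix.mulVec_single_one]; exact hM₀ j i
    have hs2 : s ^ 2 ∈ F₁ := by
      have h1 := iso_pol (hI hg) ((B : Matrix ι ι F) *ᵥ Pi.single i₀ 1) ((B : Matrix ι ι F) *ᵥ Pi.single j₀ 1)
      rw [hgw, hgw, psmul_left hQ, psmul_right hQ] at h1
      have h2' : c⁻¹ * pol Q ((B : Matrix ι ι F) *ᵥ Pi.single i₀ 1) ((B : Matrix ι ι F) *ᵥ Pi.single j₀ 1) = G₀ i₀ j₀ := by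
        rw [pol_eq hQ, gform_mulVec, hG]
        have : gform (RingHom.id F) (c • G₀) (Pi.single i₀ 1) (Pi.single j₀ 1) = c * G₀ i₀ j₀ := by
          rw [gform_single, Matrix.smul_apply, smul_eq_mul]
        rw [this, inv_mul_cancel_left₀ hc0]
      have h3 := hrat _ _ (hcol i₀) (hcol j₀)
      rw [← h1] at h2'
      have h4 : s ^ 2 = G₀ i₀ j₀ / (c⁻¹ * pol Q ((B : Matrix ι ι F) *ᵥ (M₀ *ᵥ Pi.single i₀ 1))
          ((B : Matrix ι ι F) *ᵥ (M₀ *ᵥ Pi.single j₀ 1))) := by
        rw [eq_div_iff (fun h => hij (by rw [← h2']; linear_combination s ^ 2 * h))]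
        linear_combination h2'
      rw [h4]
      exact F₁.div_mem (h0 _ _) h3
    have hs : s ^ q = s := by
      have h5 := hfix _ hs2
      rw [← pow_mul, mul_comm 2 q, pow_mul] at h5
      rcases eq_or_eq_neg_of_sq_eq_sq _ _ h5 with h | h
      · exact h
      · rw [h, CharTwo.neg_eq]
    have hQi : s ^ 2 * Q ((B : Matrix ι ι F) *ᵥ (M₀ *ᵥ Pi.single i 1)) = Q ((B : Matrix ι ι F) *ᵥ Pi.single i 1) := by
      rw [← qsmul hQ, ← hgw, Quad.mem_iso.1 (hI hg)]
    rw [hgw, hsq, hexp _ (hcol i), hD, ← hQi]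
    rw [show c⁻¹ * (s ^ 2 * Q ((B : Matrix ι ι F) *ᵥ (M₀ *ᵥ Pi.single i 1))) =
      s ^ 2 * (c⁻¹ * Q ((B : Matrix ι ι F) *ᵥ (M₀ *ᵥ Pi.single i 1))) by ring, mul_pow (s ^ 2), ← pow_mul, mul_comm 2 q,
      pow_mul, hs]
    ring)
  have h := hexp u hu
  rw [hD0, eq_comm, sub_eq_zero] at h
  exact (mem_subfield_iff F₁ _).2 (hq ▸ h)

theorem oe_residual (hn : 5 ≤ Fintype.card ι) (hI : H ≤ Cfsg.isometryGroup F Q) (hH : ¬ OEClass Q H) (hMH : M ≤ H)
    (hM : NormG H M) (hMs : ¬ M ≤ scalars ι F) (hperf : ⁅M, M⁆ = M)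
    (hsimple : ∀ U ≤ M, NormG M U → ¬ U ≤ scalars ι F → U = M) : InOrthogonalResidualClass H := by
  haveI : Nonempty ι := Fintype.card_pos_iff.1 (by omega)
  have hirr := oe_irred hQ hI hH
  have hMA := oe_absIrr_of_normal hQ hn hI hH hM (hMH.trans hI) hMs
  have hMI : M ≤ iso (RingHom.id F) (qG Q) := (hMH.trans hI).trans (iso_le hQ)
  refine ⟨M, residualCore_of_simple hMA hMH hM hMs hperf hsimple fun F₀ hF₀ hreal =>
    hH (OEClass.of_realisable hQ hn hI hirr hM hMA (hMH.trans hI) hF₀ hreal), ?_⟩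
  rintro ⟨σ, f, hf, hfix⟩
  obtain ⟨G, hG⟩ := exists_gform σ.toRingHom f hf.add_left hf.smul_left
    (fun v x y => by rw [hf.herm, hf.add_left, map_add, ← hf.herm, ← hf.herm])
    (fun c v x => by rw [hf.herm, hf.smul_left, map_mul, ← hf.herm]; rfl)
  have hGinv : InvForm M σ.toRingHom G := invForm_iff.2 (hG ▸ hfix)
  obtain ⟨F₀, hne, hreal⟩ := realisable_of_twisted_form (refl_qG hQ) hMA hMI hGinv
    (hGinv.det_ne_zero hMA.irred (ne_zero_of_nondegenerate (σ := σ.toRingHom) (hG ▸ hf.nondegenerate))) σ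
    (fun x => rfl) hf.ne_refl
  exact hH (OEClass.of_realisable hQ hn hI hirr hM hMA (hMH.trans hI) hne hreal)

/-- Aschbacher's theorem for the orthogonal groups of dimension at least five. -/
theorem oe_structure (hn : 5 ≤ Fintype.card ι) (hI : H ≤ Cfsg.isometryGroup F Q) :
    OEClass Q H ∨ InOrthogonalResidualClass H := by
  by_cases hH : OEClass Q H
  · exact Or.inl hH
  have hirr := oe_irred hQ hI hH
  have hHs : ¬ H ≤ scalars ι F := fun hle => not_irred_of_scalars (by omega) hle hirr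
  obtain ⟨M, ⟨hMH, hMn, hMs⟩, hMmin⟩ := Set.Finite.exists_minimal
    (s := {N : Subgroup (GL ι F) | N ≤ H ∧ NormG H N ∧ ¬ N ≤ scalars ι F}) (Set.toFinite _)
    ⟨H, le_rfl, fun g hg x hx => H.mul_mem (H.mul_mem hg hx) (H.inv_mem hg), hHs⟩
  have hmin : ∀ N ≤ M, NormG H N → ¬ N ≤ scalars ι F → N = M := fun N hN hNn hNs =>
    le_antisymm hN (hMmin ⟨hN.trans hMH, hNn, hNs⟩ hN)
  by_cases hder : ⁅M, M⁆ ≤ scalars ι F
  · exact (oe_symType hQ hn hI hH hMH hMn hMs hmin
      fun a ha b hb => hder (Subgroup.commutator_mem_commutator ha hb)).elim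
  have hperf : ⁅M, M⁆ = M := hmin _ (Subgroup.commutator_le.2 fun a ha b hb => by
      rw [commutatorElement_def]
      exact M.mul_mem (M.mul_mem (M.mul_mem ha hb) (M.inv_mem ha)) (M.inv_mem hb)) hMn.commutator hder
  by_cases hsimple : ∀ U ≤ M, NormG M U → ¬ U ≤ scalars ι F → U = M
  · exact Or.inr (oe_residual hQ hn hI hH hMH hMn hMs hperf hsimple)
  · push Not at hsimple
    exact Or.inl (oe_of_not_simple hQ hn hI hMH hMn hMs hperf hmin hsimple)

end CfsgLib.Perm.Asch.OE
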