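import Cfsg.Agent.Lib.Perm.Asch.OE.Rot

/-!
# Clifford's theorem for orthogonal groups in even dimension
-/

set_option autoImplicit false
set_option linter.all false

namespace CfsgLib.Perm.Asch.OE

open scoped Classical Matrix Kronecker
open Matrix Cfsg.Geo CfsgLib.Perm.Asch CfsgLib.Perm.Trans CfsgLib.Perm.Trans.Quad

variable {ι : Type} [Fintype ι] [DecidableEq ι] {F : Type*} [Field F]

local notation "pol" => QuadraticMap.polar

theorem bilin_symplectic_diag [Fintype F] {μ : Type} [Fintype μ] [DecidableEq μ] {G : Matrix μ μ F} (hd : G.det ≠ 0)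
    (hs : Gᵀ = -G) (hdiag : ∀ i, G i i = 0) : IsSymplecticForm (gform (RingHom.id F) G) := by
  refine ⟨gform_bilinear G, fun v w => ?_, fun v => gform_self_eq_zero hs hdiag v, gform_nondegenerate hd⟩
  rw [gform_swap G w v, hs]; simp [gform, Matrix.neg_mulVec]

theorem pt2_add_right {n₁ n₂ : ℕ} (e : ι ≃ Fin n₁ × Fin n₂) (P : GL ι F) (x : Fin n₁ → F) (y y' : Fin n₂ → F) :
    pt2 e P x (y + y') = pt2 e P x y + pt2 e P x y' := by
  rw [pt2, pt2, pt2, ← Matrix.mulVec_add]
  congr 1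
  funext i
  simp [mul_add]

/-- product vectors go to product vectors -/
theorem pt2_act {n₁ n₂ : ℕ} {e : ι ≃ Fin n₁ × Fin n₂} {P g : GL ι F} (hg : g ∈ tensorProductSubgroup n₁ n₂ e P) :
    ∃ (a : Matrix (Fin n₁) (Fin n₁) F) (b : Matrix (Fin n₂) (Fin n₂) F), ∀ x y,
      (g : Matrix ι ι F) *ᵥ pt2 e P x y = pt2 e P (a *ᵥ x) (b *ᵥ y) := by
  obtain ⟨l, a, bm, rfl, hl⟩ := tensorProduct_elem hg
  refine ⟨a, bm, fun x y => ?_⟩
  rw [pt2, pt2, Units.val_mul, Units.val_mul, mulVec_mulVec, mul_assoc, Asch.gl_inv_mul, mul_one, ← mulVec_mulVec]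
  congr 1
  funext i
  show ∑ j, (l : Matrix _ _ F) (e i) (e j) * (x (e j).1 * y (e j).2) = _
  rw [e.sum_comp (fun q => (l : Matrix _ _ F) (e i) q * (x q.1 * y q.2)), Fintype.sum_prod_type]
  simp only [hl, Matrix.mulVec, dotProduct, Finset.sum_mul_sum]
  exact Finset.sum_congr rfl fun _ _ => Finset.sum_congr rfl fun _ _ => by
    rw [Matrix.kronecker_apply]; ring

/-- an additive map scaled by squares is determined on a basis -/
theorem sq_ext {κ : Type} [Fintype κ] [DecidableEq κ] {h : (κ → F) → F} (hadd : ∀ x y, h (x + y) = h x + h y)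
    (hsq : ∀ (c : F) x, h (c • x) = c ^ 2 * h x) (h0 : ∀ a, h (Pi.single a 1) = 0) (x : κ → F) : h x = 0 := by
  rw [pi_eq_sum_univ' x]
  show AddMonoidHom.mk' h hadd _ = 0
  rw [map_sum]
  refine Finset.sum_eq_zero fun a _ => ?_
  show h (x a • Pi.single a (1 : F)) = 0
  rw [hsq, h0, mul_zero]

variable [Fintype F] {Q : (ι → F) → F} (hQ : IsNondegenerateQuadraticForm Q) {H : Subgroup (GL ι F)}
include hQ

/-- in characteristic two a factor of the polar form that is not alternating gives an invariant subspace -/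
theorem oe_tensor_alternating [Nonempty ι] [CharP F 2] (hI : H ≤ Cfsg.isometryGroup F Q) (hirr : Irred H) {d k : ℕ}
    (hd : 2 ≤ d) {e : ι ≃ Fin d × Fin k} {P : GL ι F}
    {G₁ : Matrix (Fin d) (Fin d) F} {G₂ : Matrix (Fin k) (Fin k) F}
    (hle : H ≤ tensorProductSubgroup d k e P)
    (hG : gramAt (RingHom.id F) (qG Q) e P = G₁ ⊗ₖ G₂) (h1 : G₁ᵀ = G₁) : ∀ i, G₁ i i = 0 := by
  intro i
  by_contra hi
  haveI : Nonempty (Fin k) := ⟨(e (Classical.arbitrary _)).2⟩
  obtain ⟨E, hE0, hEd, hEs⟩ := exists_row h1 hi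
  set X := cj P (rx e (E ⊗ₖ (1 : Matrix (Fin k) (Fin k) F)))
  refine not_irred_of_killed (S := {X}) ⟨X, rfl, fun h0 => hE0 ?_⟩ ?_ ?_ hirr
  · have h' : E ⊗ₖ (1 : Matrix (Fin k) (Fin k) F) = 0 := by
      apply (rx e).injective
      apply cj_injective P
      show X = _
      rw [h0, map_zero]
      simp [cj]
    ext a b
    have := congrFun (congrFun h' (a, Classical.arbitrary _)) (b, Classical.arbitrary _)
    simpa [Matrix.kronecker_apply] using this
  · have hX : X.det = 0 := by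
      have h1' : (E ⊗ₖ (1 : Matrix (Fin k) (Fin k) F)).det = 0 := by
        rw [Matrix.det_kronecker, hEd hd, zero_pow (Fintype.card_pos (α := Fin k)).ne', zero_mul]
      show (cj P (Matrix.reindexAlgEquiv F F e.symm _)).det = 0
      rw [cj, Matrix.det_mul, Matrix.det_mul, Matrix.det_reindexAlgEquiv, h1', mul_zero, zero_mul]
    obtain ⟨v, hv0, hv⟩ := Matrix.exists_mulVec_eq_zero_iff.2 hX
    intro hb
    have : v ∈ killed ({X} : Set (Matrix ι ι F)) := fun s hs => by
      rw [Set.mem_singleton_iff.1 hs]; exact hv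
    rw [hb] at this
    exact hv0 this
  · rintro g hg s rfl
    obtain ⟨kk, a, b, c, rfl, hc0, hkk, ha, -⟩ := tensor_similitude (refl_qG hQ).det hG (iso_le hQ (hI hg)) (hle hg)
    simp only [RingHom.coe_id, Matrix.map_id] at ha
    obtain ⟨t, ht⟩ := hEs _ c ha
    refine ⟨cj P (rx e (t • ((1 : Matrix (Fin d) (Fin d) F) ⊗ₖ (b : Matrix (Fin k) (Fin k) F)))), X, rfl, ?_⟩
    have hgc : ((P * glReindex e.symm kk * P⁻¹ : GL ι F) : Matrix ι ι F) =
        cj P (rx e (kk : Matrix (Fin d × Fin k) (Fin d × Fin k) F)) := (cj_coe _ _).symm.trans rfl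
    rw [hgc, ← cj_mul, ← cj_mul, ← map_mul, ← map_mul, hkk, ← Matrix.mul_kronecker_mul, one_mul, ht, smul_mul_assoc,
      ← Matrix.mul_kronecker_mul, one_mul, mul_one, Matrix.smul_kronecker]

/-- a symmetric factor of dimension two cannot occur -/
theorem oe_tensor_two [Nonempty ι] (hn : 5 ≤ Fintype.card ι) (hI : H ≤ Cfsg.isometryGroup F Q) (hH : ¬ OEClass Q H)
    (htwo : (2 : F) ≠ 0) {d : ℕ} {e : ι ≃ Fin d × Fin 2} {P : GL ι F}
    {G₁ : Matrix (Fin d) (Fin d) F} {G₂ : Matrix (Fin 2) (Fin 2) F}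
    (hle : H ≤ tensorProductSubgroup d 2 e P)
    (hG : gramAt (RingHom.id F) (qG Q) e P = G₁ ⊗ₖ G₂) (h2 : G₂ᵀ = G₂) : False := by
  have hR := refl_qG hQ
  obtain ⟨hd1, hd2, -⟩ := factor_refl hR hG
  haveI : Nonempty (Fin d) := ⟨(e (Classical.arbitrary _)).1⟩
  set S := G₂⁻¹ * J2 F with hS
  have hG2i : G₂ * G₂⁻¹ = 1 := Matrix.mul_nonsing_inv _ (Ne.isUnit hd2)
  have hG2i' : G₂⁻¹ * G₂ = 1 := Matrix.nonsing_inv_mul _ (Ne.isUnit hd2)
  let X := cj P (rx e ((1 : Matrix (Fin d) (Fin d) F) ⊗ₖ S))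
  have hJt : (J2 F)ᵀ = -(J2 F) := by ext a b; fin_cases a <;> fin_cases b <;> simp [J2]
  have hconj : ∀ g ∈ H, ∃ c : F, cj g X = c • X := by
    intro g hg
    obtain ⟨kk, a, b, c, rfl, hc0, hkk, -, e2⟩ := tensor_similitude hR.det hG (iso_le hQ (hI hg)) (hle hg)
    simp only [RingHom.coe_id, Matrix.map_id] at e2
    set bm := (b : Matrix (Fin 2) (Fin 2) F)
    set bi := ((b⁻¹ : GL (Fin 2) F) : Matrix (Fin 2) (Fin 2) F)
    have hb : bm.det ≠ 0 := ((Matrix.isUnit_iff_isUnit_det _).1 b.isUnit).ne_zero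
    refine ⟨(bm.det * c)⁻¹, ?_⟩
    have hbS : bm * S * bi = (bm.det * c)⁻¹ • S := by
      have e1 : bmᵀ * J2 F * bm = bm.det • J2 F := J2_congr bm
      have e3 : bi * S * bm = (bm.det * c) • S := by
        have e5 : bi * G₂⁻¹ = c • (G₂⁻¹ * bmᵀ) := by
          calc bi * G₂⁻¹ = c • (G₂⁻¹ * (c⁻¹ • G₂) * (bi * G₂⁻¹)) := by
                rw [mul_smul_comm, hG2i', smul_mul_assoc, one_mul, smul_smul, mul_inv_cancel₀ hc0, one_smul]
            _ = c • (G₂⁻¹ * (bmᵀ * G₂ * bm) * (bi * G₂⁻¹)) := by rw [e2]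
            _ = _ := by
              simp only [mul_assoc]
              rw [← mul_assoc bm bi, Asch.gl_mul_inv, one_mul, hG2i, mul_one]
        rw [hS, ← mul_assoc bi, e5, smul_mul_assoc, smul_mul_assoc, mul_assoc, mul_assoc, ← mul_assoc (bmᵀ),
          e1, mul_smul_comm, smul_smul, mul_comm]
      calc bm * S * bi = (bm.det * c)⁻¹ • (bm * ((bm.det * c) • S) * bi) := by
            rw [mul_smul_comm, smul_mul_assoc, smul_smul, inv_mul_cancel₀ (mul_ne_zero hb hc0), one_smul]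
        _ = (bm.det * c)⁻¹ • ((bm * bi) * S * (bm * bi)) := by rw [← e3]; simp only [mul_assoc]
        _ = _ := by rw [Asch.gl_mul_inv, one_mul, mul_one]
    show cj _ (cj P _) = _ • cj P _
    rw [cj_cj, inv_mul_cancel_right, ← cj_cj, ← cj_smul, ← map_smul, ← Matrix.kronecker_smul, ← hbS]
    congr 1
    show cj (Units.map (rx e).toAlgHom.toRingHom.toMonoidHom kk) _ = _
    rw [cj_rx]
    congr 1
    have hinv : ((kk⁻¹ : GL (Fin d × Fin 2) F) : Matrix (Fin d × Fin 2) (Fin d × Fin 2) F) =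
        ((a⁻¹ : GL (Fin d) F) : Matrix (Fin d) (Fin d) F) ⊗ₖ bi := by
      rw [Matrix.coe_units_inv]
      refine Matrix.inv_eq_right_inv ?_
      rw [hkk, ← Matrix.mul_kronecker_mul, Asch.gl_mul_inv, Asch.gl_mul_inv, Matrix.one_kronecker_one]
    rw [cj, hinv, hkk, ← Matrix.mul_kronecker_mul, ← Matrix.mul_kronecker_mul, mul_one, Asch.gl_mul_inv]
  have hXadj : adj (RingHom.id F) (qG Q) X = -X := by
    have h' := adj_of_gramAt hR e P (X := (1 : Matrix (Fin d) (Fin d) F) ⊗ₖ S)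
      (Y := (1 : Matrix (Fin d) (Fin d) F) ⊗ₖ (-S)) ?_
    · rw [h', show (-S) = (-1 : F) • S by simp, Matrix.kronecker_smul, map_smul, cj_smul]
      simp [X]
    · simp only [RingHom.coe_id, Matrix.map_id]
      rw [hG, ← Matrix.kroneckerMap_transpose, Matrix.transpose_one, ← Matrix.mul_kronecker_mul,
        ← Matrix.mul_kronecker_mul, one_mul, mul_one, hS, Matrix.transpose_mul, Matrix.transpose_nonsing_inv, h2, hJt,
        mul_neg, ← mul_assoc, hG2i, one_mul, mul_assoc, hG2i', mul_one]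
  set Z := Algebra.adjoin F ({X} : Set (Matrix ι ι F))
  obtain ⟨z, hz⟩ := oe_scalar_of_comm hQ hn hI hH (Z := Z)
    (fun x hx y hy => by
      letI := Algebra.adjoinCommRingOfComm F (s := ({X} : Set (Matrix ι ι F))) (by rintro a rfl b rfl; rfl)
      exact congrArg Subtype.val (mul_comm (⟨x, hx⟩ : Z) ⟨y, hy⟩))
    (fun g hg a ha => by
      have h1 : Z.map (cjAlg g).toAlgHom ≤ Z := by
        rw [AlgHom.map_adjoin]
        refine Algebra.adjoin_le ?_
        rintro _ ⟨_, rfl, rfl⟩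
        obtain ⟨c, hc⟩ := hconj g hg
        show cj g X ∈ Z
        rw [hc]
        exact Z.smul_mem (Algebra.subset_adjoin rfl) c
      exact h1 ⟨a, ha, rfl⟩)
    (hR.adjClosed_adjoin (by
      rintro _ rfl
      rw [hXadj]
      exact Z.neg_mem (Algebra.subset_adjoin rfl)))
    X (Algebra.subset_adjoin rfl)
  have hS1 : S = z • 1 := by
    have h' : ((1 : Matrix (Fin d) (Fin d) F) ⊗ₖ S) = kr (Fin d) (Fin 2) F (z • 1) := by
      apply (rx e).injective
      apply cj_injective P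
      rw [kr_apply, Matrix.kronecker_smul, Matrix.one_kronecker_one, map_smul, map_one, cj_smul, cj_one]
      exact hz
    exact kr_injective (κ := Fin d) h'
  have hJ : J2 F = z • G₂ := by
    calc J2 F = G₂ * S := by rw [hS, ← mul_assoc, hG2i, one_mul]
      _ = _ := by rw [hS1, mul_smul_comm, mul_one]
  have h01 := congrFun (congrFun hJ 0) 1
  have h10 := congrFun (congrFun hJ 1) 0
  have hsym : G₂ 1 0 = G₂ 0 1 := congrFun (congrFun h2 0) 1
  simp [J2, hsym] at h01 h10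
  rw [← h01] at h10
  exact htwo (by linear_combination -h10)

/-- alternating factors: the quadratic form vanishes on product vectors -/
theorem oe_pure_zero (hn : 5 ≤ Fintype.card ι) (hI : H ≤ Cfsg.isometryGroup F Q) (hirr : Irred H) {d k : ℕ}
    {e : ι ≃ Fin d × Fin k} {P : GL ι F} (hle : H ≤ tensorProductSubgroup d k e P)
    {f₁ : (Fin d → F) → (Fin d → F) → F} {f₂ : (Fin k → F) → (Fin k → F) → F} (h₁ : IsSymplecticForm f₁)
    (h₂ : IsSymplecticForm f₂) (hs : IsTensorFormStructure id (pol Q) f₁ f₂ e P) :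
    ∀ x y, Q (pt2 e P x y) = 0 := by
  obtain ⟨c, hc, hf⟩ := form_pt2 h₁.bilinear h₂.bilinear hs
  by_cases htwo : (2 : F) = 0
  swap
  · intro x y
    have h := hf x x y y
    rw [pself hQ, h₁.alternating, zero_mul, mul_zero] at h
    exact (mul_eq_zero.1 h).resolve_left htwo
  let u : ι → ι → F := fun i => pt2 e P (Pi.single (e i).1 1) (Pi.single (e i).2 1)
  have hu : ∀ i, u i = (P : Matrix ι ι F) *ᵥ Pi.single i 1 := by
    intro i
    show (P : Matrix ι ι F) *ᵥ _ = _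
    congr 1
    funext l
    show (Pi.single (e i).1 (1 : F) : Fin d → F) (e l).1 * (Pi.single (e i).2 (1 : F) : Fin k → F) (e l).2 = _
    by_cases hl : l = i
    · subst hl; simp
    · rw [Pi.single_eq_of_ne hl]
      have : e l ≠ e i := fun h => hl (e.injective h)
      by_cases h1 : (e l).1 = (e i).1
      · rw [Pi.single_eq_of_ne fun h2 => this (Prod.ext h1 h2), mul_zero]
      · rw [Pi.single_eq_of_ne h1, zero_mul]
  obtain ⟨Dq, hDq⟩ : ∃ D : (ι → F) → F, ∀ v, D v = ∑ i, (((P⁻¹ : GL ι F) : Matrix ι ι F) *ᵥ v) i ^ 2 * Q (u i) :=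
    ⟨_, fun _ => rfl⟩
  have hDadd : ∀ x y, Dq (x + y) = Dq x + Dq y := by
    intro x y
    rw [hDq, hDq, hDq, Matrix.mulVec_add, ← Finset.sum_add_distrib]
    refine Finset.sum_congr rfl fun i _ => ?_
    rw [Pi.add_apply]
    linear_combination ((((P⁻¹ : GL ι F) : Matrix ι ι F) *ᵥ x) i * (((P⁻¹ : GL ι F) : Matrix ι ι F) *ᵥ y) i * Q (u i)) * htwo
  have hDsq : ∀ (a : F) x, Dq (a • x) = a ^ 2 * Dq x := by
    intro a x
    rw [hDq, hDq, Matrix.mulVec_smul, Finset.mul_sum]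
    refine Finset.sum_congr rfl fun i _ => ?_
    rw [Pi.smul_apply, smul_eq_mul]
    ring
  have hDu : ∀ i, Dq (u i) = Q (u i) := by
    intro i
    rw [hDq, hu i, Matrix.mulVec_mulVec, Asch.gl_inv_mul, Matrix.one_mulVec, Finset.sum_eq_single i (fun j _ hj => by
      rw [Pi.single_eq_of_ne hj, zero_pow two_ne_zero, zero_mul]) (by simp), Pi.single_eq_same, one_pow, one_mul, hu i]
  have hsingle : ∀ a b, Q (pt2 e P (Pi.single a 1) (Pi.single b 1)) = Dq (pt2 e P (Pi.single a 1) (Pi.single b 1)) := by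
    intro a b
    have h := hDu (e.symm (a, b))
    simp only [u, Equiv.apply_symm_apply] at h
    exact h.symm
  have hpure : ∀ x y, Q (pt2 e P x y) = Dq (pt2 e P x y) := by
    have h1 : ∀ a y, Q (pt2 e P (Pi.single a 1) y) - Dq (pt2 e P (Pi.single a 1) y) = 0 := by
      intro a y
      refine sq_ext (h := fun y => Q (pt2 e P (Pi.single a 1) y) - Dq (pt2 e P (Pi.single a 1) y))
        (fun y y' => ?_) (fun s y => ?_) (fun b => ?_) y
      · rw [pt2_add_right, qadd hQ, hDadd, hf, h₁.alternating, zero_mul, mul_zero]; ring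
      · rw [pt2_smul_right, qsmul hQ, hDsq]; ring
      · rw [hsingle, sub_self]
    intro x y
    refine sub_eq_zero.1 (sq_ext (h := fun x => Q (pt2 e P x y) - Dq (pt2 e P x y))
      (fun x x' => ?_) (fun s x => ?_) (fun a => h1 a y) x)
    · rw [pt2_add_left, qadd hQ, hDadd, hf, h₂.alternating, mul_zero, mul_zero]; ring
    · rw [pt2_smul_left, qsmul hQ, hDsq]; ring
  have hinv : ∀ g ∈ H, ∀ v, Dq ((g : Matrix ι ι F) *ᵥ v) = Dq v := by
    intro g hg v
    obtain ⟨a, b, hab⟩ := pt2_act (hle hg)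
    refine sub_eq_zero.1 ?_
    have key : ∀ w, Dq ((g : Matrix ι ι F) *ᵥ ((P : Matrix ι ι F) *ᵥ w)) - Dq ((P : Matrix ι ι F) *ᵥ w) = 0 := by
      refine sq_ext (fun x y => ?_) (fun s x => ?_) (fun i => ?_)
      · rw [Matrix.mulVec_add, Matrix.mulVec_add, hDadd, hDadd]; ring
      · rw [Matrix.mulVec_smul, Matrix.mulVec_smul, hDsq, hDsq]; ring
      · rw [← hu i, hab, ← hpure, ← hab, Quad.mem_iso.1 (hI hg), hDu, sub_self]
    have h := key (((P⁻¹ : GL ι F) : Matrix ι ι F) *ᵥ v)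
    rwa [Matrix.mulVec_mulVec _ (P : Matrix ι ι F), Asch.gl_mul_inv, Matrix.one_mulVec] at h
  have hD0 := addfun_zero (by omega) hirr hDadd hDsq (fun g hg x hx => by rw [hinv g hg, hx])
  intro x y
  rw [hpure, hD0]

/-- normal subgroups that are not scalar are absolutely irreducible -/
theorem oe_absIrr_of_normal (hn : 5 ≤ Fintype.card ι) (hI : H ≤ Cfsg.isometryGroup F Q) (hH : ¬ OEClass Q H)
    {N : Subgroup (GL ι F)} (hN : NormG H N) (hNI : N ≤ Cfsg.isometryGroup F Q)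
    (hNs : ¬ N ≤ scalars ι F) : AbsIrr N := by
  haveI : Nonempty ι := Fintype.card_pos_iff.1 (by omega)
  have hirr := oe_irred hQ hI hH
  refine (absIrr_or_tensor (refl_qG hQ) hirr (fun Z hc hnZ hd => oe_scalar_of_comm hQ hn hI hH hc hnZ hd) hN
    (hNI.trans (iso_le hQ)) hNs).resolve_right ?_
  rintro ⟨d, k, e, P, G₁, G₂, hd, hk, hle, hG⟩
  obtain ⟨hd1, hd2, ε, c₁, c₂, hε, hc, e1, e2⟩ := factor_refl (refl_qG hQ) hG
  simp only [RingHom.coe_id, Matrix.map_id] at hε e1 e2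
  haveI : Nonempty (Fin d) := ⟨⟨0, by omega⟩⟩
  haveI : Nonempty (Fin k) := ⟨⟨0, by omega⟩⟩
  have hε1 : ε = 1 := by
    obtain ⟨i, j, hij⟩ : ∃ i j, qG Q i j ≠ 0 := by
      by_contra hcon
      push Not at hcon
      exact (refl_qG hQ).ne_zero (Matrix.ext hcon)
    have := congrFun (congrFun hε i) j
    rw [qG_symm, Matrix.smul_apply, smul_eq_mul] at this
    exact mul_right_cancel₀ hij (by rw [one_mul]; exact this.symm)
  have hc21 : c₂ = c₁ := by
    rw [hε1] at hc
    rcases sign_of_symm_eps hd1 e1 with h | h <;> rw [h] at hc ⊢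
    · simpa using hc
    · linear_combination -hc
  rw [hc21] at e2
  have hts := tensorFormStructure_of_gramAt (σ := RingHom.id F) (G := qG Q) one_ne_zero (by rw [one_smul]; exact hG)
  rw [← pol_eq hQ] at hts
  have hAA : ∀ {d k : ℕ} (e : ι ≃ Fin d × Fin k) (P : GL ι F) {f₁ : (Fin d → F) → (Fin d → F) → F}
      {f₂ : (Fin k → F) → (Fin k → F) → F}, 2 ≤ d → 2 ≤ k → H ≤ tensorProductSubgroup d k e P →
      IsSymplecticForm f₁ → IsSymplecticForm f₂ → IsTensorFormStructure id (pol Q) f₁ f₂ e P → False :=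
    fun {d k} e P {f₁ f₂} hd hk hle h₁ h₂ hs => hH (OEClass.tensorA e P hd hk h₁ h₂ hs
      (oe_pure_zero hQ hn hI hirr hle h₁ h₂ hs) hle)
  by_cases htwo : (2 : F) = 0
  · haveI : CharP F 2 := CharTwo.of_one_ne_zero_of_two_eq_zero one_ne_zero htwo
    have hsym : ∀ {n : ℕ} {G : Matrix (Fin n) (Fin n) F}, Gᵀ = c₁ • G → Gᵀ = G := by
      intro n G hG'
      rcases sign_of_symm_eps hd1 e1 with h | h <;> rw [hG', h]
      · rw [one_smul]
      · rw [neg_smul, one_smul]; ext i j; simp [CharTwo.neg_eq]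
    have hskew : ∀ {n : ℕ} {G : Matrix (Fin n) (Fin n) F}, Gᵀ = G → Gᵀ = -G := fun {n G} h => by
      rw [h]; ext i j; simp [CharTwo.neg_eq]
    have hz1 := oe_tensor_alternating hQ hI hirr hd hle hG (hsym e1)
    have hz2 := oe_tensor_alternating hQ hI hirr hk (le_trans hle (tensorProduct_swap e P)) (gramAt_swap _ e P hG) (hsym e2)
    exact hAA e P hd hk hle (bilin_symplectic_diag hd1 (hskew (hsym e1)) hz1)
      (bilin_symplectic_diag hd2 (hskew (hsym e2)) hz2) hts
  rcases sign_of_symm_eps hd1 e1 with h | h <;> rw [h] at e1 e2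
  · rw [one_smul] at e1 e2
    rcases Nat.lt_or_ge k 3 with hk3 | hk3
    · obtain rfl : k = 2 := by omega
      exact oe_tensor_two hQ hn hI hH htwo hle hG e2
    rcases Nat.lt_or_ge d 3 with hd3 | hd3
    · obtain rfl : d = 2 := by omega
      exact oe_tensor_two hQ hn hI hH htwo (le_trans hle (tensorProduct_swap e P)) (gramAt_swap _ e P hG) e1
    rcases le_total d k with hdk | hdk
    · exact hH (OEClass.tensorS e P htwo hd3 hdk (bilin_symmetric hd1 e1) (bilin_symmetric hd2 e2) hts hle)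
    · have hts' := tensorFormStructure_of_gramAt (σ := RingHom.id F) (G := qG Q) one_ne_zero
        (G₁ := G₂) (G₂ := G₁) (by rw [one_smul]; exact gramAt_swap _ e P hG)
      rw [← pol_eq hQ] at hts'
      exact hH (OEClass.tensorS _ P htwo hk3 hdk (bilin_symmetric hd2 e2) (bilin_symmetric hd1 e1) hts'
        (le_trans hle (tensorProduct_swap e P)))
  · rw [neg_smul, one_smul] at e1 e2
    exact hAA e P hd hk hle (bilin_symplectic hd1 e1 htwo) (bilin_symplectic hd2 e2 htwo) hts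

end CfsgLib.Perm.Asch.OE
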