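import Cfsg.Agent.Lib.Perm.Asch.OE.Proper
import Cfsg.Agent.Lib.Perm.Asch.Forms.SpTensor8
import Cfsg.Agent.Lib.Classical.SymmDiag

/-!
# Tensor structures in dimensions eight to twelve
-/

set_option autoImplicit false
set_option linter.all false

namespace CfsgLib.Perm.Asch.OE

open scoped Classical Matrix Kronecker
open Matrix Cfsg.Geo CfsgLib.Perm.Asch CfsgLib.Perm.Trans CfsgLib.Perm.Trans.Quad

variable {ι : Type} [Fintype ι] [DecidableEq ι] {F : Type*} [Field F]
variable {Q : (ι → F) → F}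

local notation "pol" => QuadraticMap.polar

theorem pt2_single {n₁ n₂ : ℕ} (e : ι ≃ Fin n₁ × Fin n₂) (P : GL ι F) (i : ι) :
    pt2 e P (Pi.single (e i).1 1) (Pi.single (e i).2 1) = (P : Matrix ι ι F) *ᵥ Pi.single i 1 := by
  show (P : Matrix ι ι F) *ᵥ _ = _
  congr 1
  funext l
  show (Pi.single (e i).1 (1 : F) : Fin n₁ → F) (e l).1 * (Pi.single (e i).2 (1 : F) : Fin n₂ → F) (e l).2 = _
  by_cases hl : l = i
  · subst hl; simp
  · rw [Pi.single_eq_of_ne hl]
    have : e l ≠ e i := fun h => hl (e.injective h)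
    by_cases h1 : (e l).1 = (e i).1
    · rw [Pi.single_eq_of_ne fun h2 => this (Prod.ext h1 h2), mul_zero]
    · rw [Pi.single_eq_of_ne h1, zero_mul]

theorem pt2_swap {n₁ n₂ : ℕ} (e : ι ≃ Fin n₁ × Fin n₂) (P : GL ι F) (x : Fin n₁ → F) (y : Fin n₂ → F) :
    pt2 (e.trans (Equiv.prodComm _ _)) P y x = pt2 e P x y := by
  show (P : Matrix ι ι F) *ᵥ _ = (P : Matrix ι ι F) *ᵥ _
  congr 1
  funext l
  exact mul_comm _ _

theorem tensorStructure_swap {f : (ι → F) → (ι → F) → F} {n₁ n₂ : ℕ} {e : ι ≃ Fin n₁ × Fin n₂} {P : GL ι F}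
    {f₁ : (Fin n₁ → F) → (Fin n₁ → F) → F} {f₂ : (Fin n₂ → F) → (Fin n₂ → F) → F}
    (hs : IsTensorFormStructure id f f₁ f₂ e P) :
    IsTensorFormStructure id f f₂ f₁ (e.trans (Equiv.prodComm _ _)) P := by
  obtain ⟨c, hc, hf⟩ := hs
  refine ⟨c, hc, fun x y => ?_⟩
  have h := hf (x ∘ Equiv.prodComm _ _) (y ∘ Equiv.prodComm _ _)
  refine Eq.trans h (congrArg (c * ·) ?_)
  unfold formOfGram
  rw [← (Equiv.prodComm (Fin n₂) (Fin n₁)).sum_comp]
  refine Finset.sum_congr rfl fun a _ => ?_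
  rw [← (Equiv.prodComm (Fin n₂) (Fin n₁)).sum_comp]
  refine Finset.sum_congr rfl fun b _ => ?_
  obtain ⟨a1, a2⟩ := a
  obtain ⟨b1, b2⟩ := b
  simp only [Matrix.kronecker_apply, Function.comp_apply, Equiv.prodComm_apply, Prod.swap_prod_mk, id_eq]
  ring

variable [Fintype F] (hQ : IsNondegenerateQuadraticForm Q)
include hQ

/-- the quadratic form vanishes on products of alternating factors in odd characteristic -/
theorem pure_zero_odd (h2 : (2 : F) ≠ 0) {d k : ℕ} {e : ι ≃ Fin d × Fin k} {P : GL ι F}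
    {f₁ : (Fin d → F) → (Fin d → F) → F} {f₂ : (Fin k → F) → (Fin k → F) → F} (h₁ : IsSymplecticForm f₁)
    (h₂ : IsSymplecticForm f₂) (hs : IsTensorFormStructure id (pol Q) f₁ f₂ e P) :
    ∀ x y, Q (pt2 e P x y) = 0 := by
  obtain ⟨c, hc, hf⟩ := form_pt2 h₁.bilinear h₂.bilinear hs
  intro x y
  have h := hf x x y y
  rw [pself hQ, h₁.alternating, zero_mul, mul_zero] at h
  exact (mul_eq_zero.1 h).resolve_left h2

/-- a factor of dimension two forces plus type -/
theorem plus_of_pure_left {k : ℕ} (e : ι ≃ Fin 2 × Fin k) (P : GL ι F) (hp : ∀ x y, Q (pt2 e P x y) = 0) :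
    IsPlusTypeOn Q ⊤ := by
  let L : (Fin k → F) →ₗ[F] (ι → F) :=
    { toFun := fun y => pt2 e P (Pi.single 0 1) y
      map_add' := fun y y' => pt2_add_right e P _ y y'
      map_smul' := fun c y => pt2_smul_right e P c _ y }
  have hL : Function.Injective L := (injective_iff_map_eq_zero L).2 fun y hy => by
    have h := congrArg (((P⁻¹ : GL ι F) : Matrix ι ι F) *ᵥ ·) (show pt2 e P (Pi.single 0 1) y = 0 from hy)
    simp only [pt2, mulVec_mulVec, Asch.gl_inv_mul, one_mulVec, mulVec_zero] at h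
    funext j
    have h1 := congrFun h (e.symm (0, j))
    simpa using h1
  refine ⟨LinearMap.range L, le_top, ?_, ?_⟩
  · rintro x ⟨y, rfl⟩
    exact hp _ y
  · rw [LinearMap.finrank_range_of_inj hL, finrank_top, Module.finrank_fintype_fun_eq_card, Module.finrank_fintype_fun_eq_card,
      Fintype.card_congr e]
    simp

theorem plus_of_pure_right {d : ℕ} (e : ι ≃ Fin d × Fin 2) (P : GL ι F) (hp : ∀ x y, Q (pt2 e P x y) = 0) :
    IsPlusTypeOn Q ⊤ :=
  plus_of_pure_left hQ (e.trans (Equiv.prodComm _ _)) P fun x y => by rw [pt2_swap]; exact hp y x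

section OrthFour

variable (h2 : (2 : F) ≠ 0) {e : ι ≃ Fin 3 × Fin 4} {P : GL ι F}
variable {f₁ : (Fin 3 → F) → (Fin 3 → F) → F} {f₂ : (Fin 4 → F) → (Fin 4 → F) → F}
variable (h₁ : IsSymmetricForm f₁) (h₂ : IsSymmetricForm f₂)
variable (hs : IsTensorFormStructure id (pol Q) f₁ f₂ e P)
include h2 h₁ h₂ hs

/-- the type of `Q` is the type of the four-dimensional factor -/
theorem tensor34_type : IsPlusTypeOn Q ⊤ ↔ IsPlusTypeOn (fun v : Fin 4 → F => f₂ v v) ⊤ := by
  classical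
  let B : LinearMap.BilinForm F (Fin 3 → F) :=
    LinearMap.mk₂ F f₁ h₁.bilinear.add_left h₁.bilinear.smul_left h₁.bilinear.add_right h₁.bilinear.smul_right
  have hB : B.Nondegenerate := by
    constructor
    · intro x hx
      by_contra hne
      obtain ⟨-, ⟨y, hy⟩⟩ := h₁.nondegenerate x hne
      exact hy (hx y)
    · intro x hx
      by_contra hne
      obtain ⟨⟨y, hy⟩, -⟩ := h₁.nondegenerate x hne
      exact hy (hx y)
  obtain ⟨v, ho, hne⟩ := CfsgLib.Classical.exists_orthogonal_anisotropic h2 B ⟨fun x y => h₁.symm x y⟩ hB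
    (n := 3) (by simp)
  have ho' : ∀ i j, i ≠ j → f₁ (v i) (v j) = 0 := ho
  have hne' : ∀ i, f₁ (v i) (v i) ≠ 0 := hne
  have hli : LinearIndependent F v := Fintype.linearIndependent_iff.2 fun g hg i => by
    have h1 : B (∑ j, g j • v j) (v i) = 0 := by rw [hg]; simp
    rw [map_sum, LinearMap.sum_apply, Finset.sum_eq_single i (fun j _ hj => by
      rw [map_smul, LinearMap.smul_apply, show B (v j) (v i) = 0 from ho j i hj, smul_zero]) (by simp),
      map_smul, LinearMap.smul_apply, smul_eq_mul] at h1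
    exact (mul_eq_zero.1 h1).resolve_right (hne i)
  obtain ⟨c, hc, hf⟩ := form_pt2 h₁.bilinear h₂.bilinear hs
  let L : Fin 3 → (Fin 4 → F) →ₗ[F] (ι → F) := fun i =>
    { toFun := fun y => pt2 e P (v i) y
      map_add' := fun y y' => pt2_add_right e P _ y y'
      map_smul' := fun c y => pt2_smul_right e P c _ y }
  have hpol : ∀ i j y y', pol Q (L i y) (L j y') = c * (f₁ (v i) (v j) * f₂ y y') := fun i j y y' => hf _ _ _ _
  have hval : ∀ i y, (2 : F) * Q (L i y) = c * (f₁ (v i) (v i) * f₂ y y) := fun i y => by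
    rw [← pself hQ, hpol]
  have hinj : ∀ i, Function.Injective (L i) := fun i => (injective_iff_map_eq_zero (L i)).2 fun y hy => by
    by_contra h0
    obtain ⟨-, y', hy'⟩ := h₂.nondegenerate y h0
    have h1 := hpol i i y y'
    rw [hy, pzero_left hQ] at h1
    exact mul_ne_zero hc (mul_ne_zero (hne' i) hy') h1.symm
  let A : Fin 3 → Submodule F (ι → F) := fun i => LinearMap.range (L i)
  have hAd : ∀ i, Module.finrank F (A i) = 4 := fun i => by
    rw [LinearMap.finrank_range_of_inj (hinj i), Module.finrank_fin_fun]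
  have hnd : ∀ i, NdOn Q (A i) := fun i => by
    rintro w ⟨y, rfl⟩ hw0
    obtain ⟨-, y', hy'⟩ := h₂.nondegenerate y (fun h => hw0 (by rw [h, map_zero]))
    have h1 : pol Q (L i y) (L i y') ≠ 0 := by rw [hpol]; exact mul_ne_zero hc (mul_ne_zero (hne' i) hy')
    exact ⟨⟨L i y', ⟨y', rfl⟩, by rwa [Quad.pcomm]⟩, L i y', ⟨y', rfl⟩, h1⟩
  have hplus : ∀ i, IsPlusTypeOn Q (A i) ↔ IsPlusTypeOn (fun v : Fin 4 → F => f₂ v v) ⊤ := by
    intro i
    have hz : ∀ y, Q (L i y) = 0 ↔ f₂ y y = 0 := fun y => by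
      constructor
      · intro h
        have h1 := hval i y
        rw [h, mul_zero] at h1
        exact (mul_eq_zero.1 ((mul_eq_zero.1 h1.symm).resolve_left hc)).resolve_left (hne' i)
      · intro h
        have h1 := hval i y
        rw [h, mul_zero, mul_zero] at h1
        exact (mul_eq_zero.1 h1).resolve_left h2
    constructor
    · rintro ⟨U, hU, hUs, hUd⟩
      refine ⟨U.comap (L i), le_top, fun y hy => (hz y).1 (hUs _ hy), ?_⟩
      rw [finrank_top, Module.finrank_fin_fun, ← (Submodule.equivMapOfInjective (L i) (hinj i) (U.comap (L i))).finrank_eq.symm,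
        Submodule.map_comap_eq_self hU, hUd, hAd]
    · rintro ⟨U, -, hUs, hUd⟩
      refine ⟨U.map (L i), LinearMap.map_le_range, ?_, ?_⟩
      · rintro x ⟨y, hy, rfl⟩
        exact (hz y).2 (hUs y hy)
      · rw [← (Submodule.equivMapOfInjective (L i) (hinj i) U).finrank_eq, hUd, hAd, finrank_top, Module.finrank_fin_fun]
  have h := type_biSup hQ A _ Finset.univ (fun i _ => hnd i) (fun i _ => by rw [hAd]; exact ⟨2, rfl⟩)
    (fun i _ => hplus i) (by
      rintro i _ j _ hij x ⟨y, rfl⟩ z ⟨y', rfl⟩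
      rw [hpol, ho' i j hij, zero_mul, mul_zero])
  have htop : Finset.univ.sup A = ⊤ := by
    have hbot : qperp hQ (Finset.univ.sup A) = ⊥ := by
      refine (Submodule.eq_bot_iff _).2 fun z hz => ?_
      have h3 : ∀ x y, pol Q z (pt2 e P x y) = 0 := by
        intro x y
        have hx : x ∈ Submodule.span F (Set.range v) := by
          rw [hli.span_eq_top_of_card_eq_finrank (by simp)]; trivial
        induction hx using Submodule.span_induction with
        | mem u hu =>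
          obtain ⟨i, rfl⟩ := hu
          exact hz _ ((Finset.le_sup (f := A) (Finset.mem_univ i)) ⟨y, rfl⟩)
        | zero =>
          rw [show pt2 e P (0 : Fin 3 → F) y = 0 by
            rw [← zero_smul F (0 : Fin 3 → F), pt2_smul_left, zero_smul], pzero_right hQ]
        | add a b _ _ ea eb => rw [pt2_add_left, padd_right hQ, ea, eb, add_zero]
        | smul a b _ eb => rw [pt2_smul_left, psmul_right hQ, eb, mul_zero]
      have h4 : ∀ w, pfl hQ z ((P : Matrix ι ι F) *ᵥ w) = 0 := by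
        intro w
        rw [pi_eq_sum_univ' w, Matrix.mulVec_sum, map_sum]
        refine Finset.sum_eq_zero fun i _ => ?_
        rw [Matrix.mulVec_smul, map_smul, ← pt2_single e P i]
        show w i • pol Q _ z = 0
        rw [Quad.pcomm, h3, smul_zero]
      refine eq_zero_of_perp_top hQ fun x => ?_
      rw [Quad.pcomm]
      show pfl hQ z x = 0
      rw [← h4 (((P⁻¹ : GL ι F) : Matrix ι ι F) *ᵥ x), mulVec_mulVec, Asch.gl_mul_inv, one_mulVec]
    rw [← qperp_qperp_any hQ (Finset.univ.sup A), hbot]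
    exact eq_top_iff.2 fun x _ u hu => by rw [(Submodule.mem_bot F).1 hu, pzero_right hQ]
  rw [htop, Finset.card_univ, Fintype.card_fin] at h
  exact h.2.2.trans (or_iff_right (by decide))

/-- pairs of a triple and a pair of pairs -/
def pr26 : Fin 3 × Fin 4 ≃ Fin 2 × Fin 6 where
  toFun p := ((pr4.symm p.2).1, finProdFinEquiv (p.1, (pr4.symm p.2).2))
  invFun q := (((finProdFinEquiv (m := 3) (n := 2)).symm q.2).1, pr4 (q.1, ((finProdFinEquiv (m := 3) (n := 2)).symm q.2).2))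
  left_inv := by decide
  right_inv := by decide

/-- a plus type four-dimensional factor splits as a product of two planes -/
theorem tensor34_to_26 {H : Subgroup (GL ι F)} (hΩ : H ≤ omegaGL Q) (hplus : IsPlusTypeOn (fun v : Fin 4 → F => f₂ v v) ⊤)
    (hle : H ≤ tensorProductSubgroup 3 4 e P) :
    ∃ (e' : ι ≃ Fin 2 × Fin 6) (P' : GL ι F) (g₁ : (Fin 2 → F) → (Fin 2 → F) → F)
      (g₂ : (Fin 6 → F) → (Fin 6 → F) → F), IsSymplecticForm g₁ ∧ IsSymplecticForm g₂ ∧
      IsTensorFormStructure id (pol Q) g₁ g₂ e' P' ∧ H ≤ tensorProductSubgroup 2 6 e' P' := by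
  classical
  haveI : Nonempty ι := ⟨e.symm (0, 0)⟩
  have hR := refl_qG hQ
  set G := qG Q
  set σ := RingHom.id F
  rw [pol_eq hQ] at hs ⊢
  obtain ⟨c, hc, hf⟩ := hs
  set G₁ := c • gramMatrix f₁ with hG₁
  set G₂ := gramMatrix f₂
  have hG : gramAt σ G e P = G₁ ⊗ₖ G₂ := by
    ext a b
    have h : gform σ G ((P : Matrix ι ι F) *ᵥ (Pi.single a 1 ∘ e)) ((P : Matrix ι ι F) *ᵥ (Pi.single b 1 ∘ e)) = _ :=
      hf (Pi.single a 1) (Pi.single b 1)
    rw [gform_gramAt σ G e P (Pi.single a 1) (Pi.single b 1), gform_single] at h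
    refine h.trans ?_
    simp [G₁, G₂, formOfGram, Pi.single_apply, Matrix.kronecker_apply]
    ring
  have hGd := gramAt_det_ne_zero (σ := σ) hR.det e P
  rw [hG, Matrix.det_kronecker] at hGd
  have hG1d : G₁.det ≠ 0 := fun h => hGd (by simp [h])
  have hG1s : G₁ᵀ = G₁ := by
    ext i j
    simp only [G₁, Matrix.transpose_apply, Matrix.smul_apply]
    rw [show gramMatrix f₁ j i = gramMatrix f₁ i j from h₁.symm _ _]
  obtain ⟨u, hu⟩ := plus_frame h2 h₂ hplus
  let c4 : Fin 2 × Fin 2 ≃ Fin 4 := pr4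
  let CM : Matrix (Fin 4) (Fin 4) F := Matrix.of fun i y => u (c4.symm y) i
  have hCM : CMᵀ * G₂ * CM = (K22 F).submatrix c4.symm c4.symm := by
    ext y y'
    rw [Matrix.submatrix_apply, ← hu]
    have hgram : ∀ x x', f₂ x x' = ∑ a, ∑ b, x a * G₂ a b * x' b := by
      intro x x'
      conv_lhs => rw [pi_eq_sum_univ' x, pi_eq_sum_univ' x']
      rw [bilin_sum_left h₂.bilinear]
      refine Finset.sum_congr rfl fun a _ => ?_
      rw [bilin_sum_right h₂.bilinear]
      refine Finset.sum_congr rfl fun b _ => ?_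
      rw [h₂.bilinear.smul_left, h₂.bilinear.smul_right]
      simp [G₂, gramMatrix]
      ring
    rw [hgram, Matrix.mul_apply, Finset.sum_comm]
    simp only [Matrix.mul_apply, Matrix.transpose_apply, Finset.sum_mul, CM, Matrix.of_apply]
  have hKd : (K22 F).det ≠ 0 := by
    rw [K22, Matrix.det_kronecker]
    simp [J2, Matrix.det_fin_two]
  have hCd : CM.det ≠ 0 := fun h0 => by
    have := congrArg Matrix.det hCM
    rw [Matrix.det_mul, h0, mul_zero, Matrix.det_submatrix_equiv_self] at this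
    exact hKd this.symm
  let k0 : GL (Fin 3 × Fin 4) F :=
    { val := (1 : Matrix (Fin 3) (Fin 3) F) ⊗ₖ CM
      inv := (1 : Matrix (Fin 3) (Fin 3) F) ⊗ₖ CM⁻¹
      val_inv := by rw [← Matrix.mul_kronecker_mul, Matrix.mul_nonsing_inv _ (Ne.isUnit hCd), mul_one, Matrix.one_kronecker_one]
      inv_val := by rw [← Matrix.mul_kronecker_mul, Matrix.nonsing_inv_mul _ (Ne.isUnit hCd), mul_one, Matrix.one_kronecker_one] }
  set P' := P * glReindex e.symm k0 with hP'
  set e' := e.trans pr26 with he'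
  let φ : Fin 3 × Fin 2 ≃ Fin 6 := finProdFinEquiv
  let M6 : Matrix (Fin 6) (Fin 6) F := (G₁ ⊗ₖ J2 F).submatrix φ.symm φ.symm
  have hJs : (J2 F)ᵀ = -J2 F := by ext i j; fin_cases i <;> fin_cases j <;> simp [J2]
  have hJd : (J2 F).det ≠ 0 := by simp [J2, Matrix.det_fin_two]
  have hMs : M6ᵀ = -M6 := by
    rw [Matrix.transpose_submatrix, ← Matrix.kroneckerMap_transpose, hG1s, hJs]
    ext i j
    simp [M6, Matrix.kronecker_apply]
  have hMd : M6.det ≠ 0 := by
    rw [Matrix.det_submatrix_equiv_self, Matrix.det_kronecker]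
    exact mul_ne_zero (pow_ne_zero _ hG1d) (pow_ne_zero _ hJd)
  have hG' : gramAt σ G e' P' = J2 F ⊗ₖ M6 := by
    have h1 := gramAt_mul (σ := σ) G e P k0
    rw [← hP', hG] at h1
    simp only [σ, RingHom.coe_id, Matrix.map_id] at h1
    rw [show gramAt σ G e' P' = (gramAt σ G e P').submatrix pr26.symm pr26.symm from rfl]
    simp only [σ] at h1 ⊢
    rw [h1]
    show ((((1 : Matrix (Fin 3) (Fin 3) F) ⊗ₖ CM)ᵀ * (G₁ ⊗ₖ G₂) * ((1 : Matrix (Fin 3) (Fin 3) F) ⊗ₖ CM))).submatrix _ _ = _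
    rw [← Matrix.kroneckerMap_transpose, Matrix.transpose_one,
      ← Matrix.mul_kronecker_mul, ← Matrix.mul_kronecker_mul, one_mul, mul_one, hCM]
    ext ⟨x1, x2⟩ ⟨y1, y2⟩
    simp only [Matrix.submatrix_apply, Matrix.kroneckerMap_apply, K22, M6, pr26, φ, c4, Equiv.coe_fn_symm_mk,
      Equiv.symm_apply_apply]
    ring
  refine ⟨e', P', gform σ (J2 F), gform σ M6, bilin_symplectic hJd hJs h2, bilin_symplectic hMd hMs h2,
    tensorFormStructure_of_gramAt one_ne_zero (by rw [one_smul]; exact hG'), fun g hg => ?_⟩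
  obtain ⟨kk, a, b, l, hgk, hl, hkk, ea, eb⟩ := tensor_similitude hR.det hG
    (iso_le hQ (omegaGL_le_iso (hΩ hg))) (hle hg)
  simp only [σ, RingHom.coe_id, Matrix.map_id] at ea eb
  set A := (a : Matrix (Fin 3) (Fin 3) F)
  set Bm := (b : Matrix (Fin 4) (Fin 4) F)
  have hAd : A.det ≠ 0 := ((Matrix.isUnit_iff_isUnit_det A).1 a.isUnit).ne_zero
  set B' := (CM⁻¹ * Bm * CM).submatrix c4 c4 with hB'
  have hB'K : B'ᵀ * K22 F * B' = l⁻¹ • K22 F := by
    have h1 : (CM⁻¹ * Bm * CM)ᵀ * (CMᵀ * G₂ * CM) * (CM⁻¹ * Bm * CM) = l⁻¹ • (CMᵀ * G₂ * CM) := by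
      rw [Matrix.transpose_mul, Matrix.transpose_mul, Matrix.transpose_nonsing_inv]
      calc CMᵀ * (Bmᵀ * CMᵀ⁻¹) * (CMᵀ * G₂ * CM) * (CM⁻¹ * Bm * CM)
          = CMᵀ * (Bmᵀ * (CMᵀ⁻¹ * CMᵀ) * G₂ * (CM * CM⁻¹) * Bm) * CM := by simp only [mul_assoc]
        _ = _ := by
          rw [Matrix.nonsing_inv_mul _ (by rw [Matrix.det_transpose]; exact Ne.isUnit hCd),
            Matrix.mul_nonsing_inv _ (Ne.isUnit hCd), mul_one, mul_one, eb, mul_smul_comm, smul_mul_assoc]
    rw [hCM] at h1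
    have h3 := congrArg (fun X : Matrix (Fin 4) (Fin 4) F => X.submatrix c4 c4) h1
    simp only [Matrix.submatrix_mul _ _ c4 c4 c4 c4.bijective, Matrix.submatrix_submatrix, Matrix.submatrix_smul,
      Equiv.symm_comp_self, Matrix.submatrix_id_id, Pi.smul_apply] at h3
    rw [hB', Matrix.transpose_submatrix]
    exact h3
  obtain ⟨X, Y, hX, hY, hXY⟩ := similitude_K22 h2 (inv_ne_zero hl) hB'K
  have hK0 : K22 F ≠ 0 := fun h => hKd (by rw [h]; exact Matrix.det_zero)
  have hXY' : B' = X ⊗ₖ Y := by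
    refine hXY.resolve_right fun h => ?_
    have hm : X.det * Y.det = l⁻¹ := by
      have h1 : ((X ⊗ₖ Y)ᵀ * K22 F * (X ⊗ₖ Y)).submatrix Prod.swap Prod.swap = l⁻¹ • K22 F := by
        rw [← hB'K, h]
        ext p q
        simp [Matrix.mul_apply]
      rw [K22_congr] at h1
      have h3 := congrFun (congrFun h1 (0, 0)) (1, 1)
      simpa [K22, J2, Matrix.kronecker_apply] using h3
    have hdB : Bm.det = -(X.det * Y.det) ^ 2 := by
      have h1 : B'.det = Bm.det := by
        rw [hB', Matrix.det_submatrix_equiv_self, Matrix.det_conj' ((Matrix.isUnit_iff_isUnit_det _).2 (Ne.isUnit hCd))]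
      have hsgn : Equiv.Perm.sign (Equiv.prodComm (Fin 2) (Fin 2)) = -1 := by decide
      rw [← h1, h, show (X ⊗ₖ Y).submatrix id Prod.swap = (X ⊗ₖ Y).submatrix id (Equiv.prodComm (Fin 2) (Fin 2)) from rfl,
        Matrix.det_permute', Matrix.det_kronecker, hsgn]
      simp
      ring
    have hda : A.det ^ 2 = l ^ 3 := by
      have h1 := congrArg Matrix.det ea
      rw [Matrix.det_mul, Matrix.det_mul, Matrix.det_transpose, Matrix.det_smul G₁ l, Fintype.card_fin] at h1
      exact mul_right_cancel₀ hG1d (by linear_combination h1)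
    have hg1 := omega_det (hΩ hg)
    rw [hgk, Units.val_mul, Units.val_mul, Matrix.det_mul, Matrix.det_mul, mul_comm, ← mul_assoc, ← Matrix.det_mul,
      ← Units.val_mul, inv_mul_cancel, Units.val_one, Matrix.det_one, one_mul] at hg1
    rw [show ((glReindex e.symm kk : GL ι F) : Matrix ι ι F) =
      Matrix.reindexAlgEquiv F F e.symm (kk : Matrix (Fin 3 × Fin 4) (Fin 3 × Fin 4) F) from rfl,
      Matrix.det_reindexAlgEquiv, hkk, Matrix.det_kronecker, Fintype.card_fin, Fintype.card_fin, hdB, hm,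
      show A.det ^ 4 = (A.det ^ 2) ^ 2 by ring, hda] at hg1
    have h6 : (l * l⁻¹) ^ 6 = 1 := by rw [mul_inv_cancel₀ hl, one_pow]
    exact h2 (by linear_combination -hg1 - h6)
  have hAY : ((A ⊗ₖ Y).submatrix φ.symm φ.symm).det ≠ 0 := by
    rw [Matrix.det_submatrix_equiv_self, Matrix.det_kronecker]
    exact mul_ne_zero (pow_ne_zero _ hAd) (pow_ne_zero _ hY)
  refine Subgroup.mem_map.2 ⟨glReindex e'.symm (glReindex pr26 (k0⁻¹ * kk * k0)), Subgroup.mem_map.2 ⟨_,
    ⟨Matrix.GeneralLinearGroup.mkOfDetNeZero X hX, Matrix.GeneralLinearGroup.mkOfDetNeZero _ hAY, ?_⟩, rfl⟩, ?_⟩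
  · ext ⟨p1, p2⟩ ⟨q1, q2⟩
    show (((1 : Matrix (Fin 3) (Fin 3) F) ⊗ₖ CM⁻¹) * (kk : Matrix (Fin 3 × Fin 4) (Fin 3 × Fin 4) F) *
      ((1 : Matrix (Fin 3) (Fin 3) F) ⊗ₖ CM)) (pr26.symm (p1, p2)) (pr26.symm (q1, q2)) = _
    rw [hkk, ← Matrix.mul_kronecker_mul, ← Matrix.mul_kronecker_mul, one_mul, mul_one]
    have h1 := congrFun (congrFun hXY' (c4.symm (pr26.symm (p1, p2)).2)) (c4.symm (pr26.symm (q1, q2)).2)
    rw [hB', Matrix.submatrix_apply, Equiv.apply_symm_apply, Equiv.apply_symm_apply, Matrix.kronecker_apply] at h1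
    rw [Matrix.kronecker_apply, h1]
    simp [pr26, φ, c4, A, Matrix.kroneckerMap_apply]
    ring
  · show P' * glReindex e'.symm _ * P'⁻¹ = g
    have hre : ∀ k : GL (Fin 3 × Fin 4) F, glReindex e'.symm (glReindex pr26 k) = glReindex e.symm k := fun k =>
      Units.ext (Matrix.ext fun i j => by
        show (k : Matrix (Fin 3 × Fin 4) (Fin 3 × Fin 4) F) (pr26.symm (pr26 (e i))) (pr26.symm (pr26 (e j))) =
          (k : Matrix (Fin 3 × Fin 4) (Fin 3 × Fin 4) F) (e i) (e j)
        rw [Equiv.symm_apply_apply, Equiv.symm_apply_apply])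
    rw [hre, hP', hgk]
    simp only [map_mul, map_inv]
    group

end OrthFour

end CfsgLib.Perm.Asch.OE
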