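import Cfsg.Agent.Lib.Perm.Asch.OE.Base

/-!
# Types of nondegenerate subspaces: maximal singular part and anisotropic part
-/

set_option autoImplicit false
set_option linter.all false

namespace CfsgLib.Perm.Asch.OE

open scoped Classical Matrix
open Matrix Cfsg.Geo CfsgLib.Perm.Asch CfsgLib.Perm.Trans CfsgLib.Perm.Trans.Quad

variable {ι : Type} [Fintype ι] [DecidableEq ι] {F : Type*} [Field F]
variable {Q : (ι → F) → F}

local notation "pol" => QuadraticMap.polar

/-- `T` is singular and `L` is anisotropic, together spanning half of and the rest of `W` -/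
structure WD (Q : (ι → F) → F) (W T L : Submodule F (ι → F)) : Prop where
  tle : T ≤ W
  lle : L ≤ W
  ts : IsTotallySingularQuad Q T
  orth : AreOrthogonalFor (pol Q) T L
  nd : NdOn Q L
  aniso : ∀ x ∈ L, Q x = 0 → x = 0
  dim : 2 * Module.finrank F T + Module.finrank F L = Module.finrank F W

section Fields

theorem isSquare_mul_of_not [Fintype F] (h2 : (2 : F) ≠ 0) {a b : F} (ha : ¬ IsSquare a) (hb : ¬ IsSquare b) :
    IsSquare (a * b) := by
  classical
  have hc : ringChar F ≠ 2 := fun h => h2 (by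
    rw [← Nat.cast_ofNat (R := F) (n := 2), ← h]; exact ringChar.Nat.cast_ringChar)
  have ha0 : a ≠ 0 := fun h => ha (h ▸ IsSquare.zero)
  have hb0 : b ≠ 0 := fun h => hb (h ▸ IsSquare.zero)
  rw [← quadraticChar_one_iff_isSquare (mul_ne_zero ha0 hb0), map_mul,
    (quadraticChar_neg_one_iff_not_isSquare).2 ha, (quadraticChar_neg_one_iff_not_isSquare).2 hb]
  norm_num

/-- in characteristic two the values of `t² + t` form a subgroup of index two -/
theorem artin_schreier [Fintype F] (h2 : (2 : F) = 0) {l m : F} (hl : ∀ t : F, t ^ 2 + t ≠ l)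
    (hm : ∀ t : F, t ^ 2 + t ≠ m) : ∃ t : F, t ^ 2 + t = l + m := by
  classical
  let f : F → F := fun t => t ^ 2 + t
  set I : Finset F := Finset.univ.image f with hI
  have hq : Fintype.card F ≤ 2 * I.card := by
    refine Finset.card_le_mul_card_image (f := f) Finset.univ 2 fun c hc => ?_
    obtain ⟨t, -, rfl⟩ := Finset.mem_image.1 hc
    refine le_trans (Finset.card_le_card (t := {t, t + 1}) fun s hs => ?_) Finset.card_le_two
    have hst : s ^ 2 + s = t ^ 2 + t := (Finset.mem_filter.1 hs).2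
    rcases mul_eq_zero.1 (show (s - t) * (s + t + 1) = 0 by linear_combination hst) with h | h
    · simp [sub_eq_zero.1 h]
    · simp [show s = t + 1 by linear_combination h - (t + 1) * h2]
  have hdisj : Disjoint I (I.image (l + ·)) := by
    rw [Finset.disjoint_left]
    intro x hx hx'
    obtain ⟨t, -, rfl⟩ := Finset.mem_image.1 hx
    obtain ⟨y, hy, hyx⟩ := Finset.mem_image.1 hx'
    obtain ⟨s, -, rfl⟩ := Finset.mem_image.1 hy
    refine hl (t + s) ?_
    simp only [f] at hyx ⊢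
    linear_combination (t * s + s ^ 2 + s) * h2 - hyx
  have huniv : I ∪ I.image (l + ·) = Finset.univ := by
    refine Finset.eq_univ_of_card _ (le_antisymm (Finset.card_le_univ _) ?_)
    rw [Finset.card_union_of_disjoint hdisj, Finset.card_image_of_injective _ (add_right_injective l)]
    omega
  have hmem : m ∈ I ∪ I.image (l + ·) := huniv ▸ Finset.mem_univ m
  rcases Finset.mem_union.1 hmem with h | h
  · obtain ⟨t, -, ht⟩ := Finset.mem_image.1 h
    exact absurd ht (hm t)
  · obtain ⟨y, hy, hym⟩ := Finset.mem_image.1 h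
    obtain ⟨t, -, rfl⟩ := Finset.mem_image.1 hy
    refine ⟨t, ?_⟩
    simp only [f] at hym
    linear_combination hym - l * h2

end Fields

variable (hQ : IsNondegenerateQuadraticForm Q)
include hQ

theorem pair_indep {u v : ι → F} (h : pol Q u v ^ 2 ≠ 4 * Q u * Q v) : LinearIndependent F ![u, v] := by
  rw [LinearIndependent.pair_iff]
  intro a b hab
  have e1 := congrArg (fun z => pol Q z u) hab
  have e2 := congrArg (fun z => pol Q z v) hab
  simp only [padd_left hQ, psmul_left hQ, pself hQ, pzero_left hQ] at e1 e2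
  rw [pcomm v u] at e1
  have hne : pol Q u v ^ 2 - 4 * Q u * Q v ≠ 0 := sub_ne_zero.2 h
  refine ⟨?_, ?_⟩
  · exact (mul_eq_zero.1 (show a * (pol Q u v ^ 2 - 4 * Q u * Q v) = 0 by
      linear_combination pol Q u v * e2 - 2 * Q v * e1)).resolve_right hne
  · exact (mul_eq_zero.1 (show b * (pol Q u v ^ 2 - 4 * Q u * Q v) = 0 by
      linear_combination pol Q u v * e1 - 2 * Q u * e2)).resolve_right hne

theorem finrank_pair {u v : ι → F} (h : pol Q u v ^ 2 ≠ 4 * Q u * Q v) :
    Module.finrank F (Submodule.span F ({u, v} : Set (ι → F))) = 2 := by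
  rw [← Matrix.range_cons_cons_empty u v ![], finrank_span_eq_card (pair_indep hQ h), Fintype.card_fin]

theorem pair_span {L : Submodule F (ι → F)} {u v : ι → F} (hu : u ∈ L) (hv : v ∈ L)
    (hd : Module.finrank F L = 2) (h : pol Q u v ^ 2 ≠ 4 * Q u * Q v) : Submodule.span F ({u, v} : Set (ι → F)) = L :=
  Submodule.eq_of_le_of_finrank_eq (Submodule.span_le.2 (by rintro x (rfl | rfl) <;> assumption))
    (by rw [finrank_pair hQ h, hd])

/-- splitting off a hyperbolic pair -/
theorem pair_split {W : Submodule F (ι → F)} {e f : ι → F} (he : e ∈ W) (hf : f ∈ W) (hQe : Q e = 0) (hQf : Q f = 0)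
    (hef : pol Q e f = 1) :
    Submodule.span F {e, f} ⊔ pairPerp hQ W e f = W ∧
      Disjoint (Submodule.span F {e, f}) (pairPerp hQ W e f) ∧
      AreOrthogonalFor (pol Q) (Submodule.span F {e, f}) (pairPerp hQ W e f) ∧
      Module.finrank F (pairPerp hQ W e f) + 2 = Module.finrank F W := by
  have ho : AreOrthogonalFor (pol Q) (Submodule.span F {e, f}) (pairPerp hQ W e f) := by
    intro a ha b hb
    obtain ⟨s, t, rfl⟩ := Submodule.mem_span_pair.1 ha
    obtain ⟨-, hbe, hbf⟩ := (mem_pairPerp hQ).1 hb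
    rw [padd_left hQ, psmul_left hQ, psmul_left hQ, pcomm e b, hbe, pcomm f b, hbf]
    ring
  have hd : Disjoint (Submodule.span F {e, f}) (pairPerp hQ W e f) := by
    rw [Submodule.disjoint_def]
    intro x hx hx'
    obtain ⟨s, t, rfl⟩ := Submodule.mem_span_pair.1 hx
    obtain ⟨-, hbe, hbf⟩ := (mem_pairPerp hQ).1 hx'
    simp only [padd_left hQ, psmul_left hQ, pself hQ, hQe, hQf, hef, pcomm f e] at hbe hbf
    rw [show t = 0 by linear_combination hbe, show s = 0 by linear_combination hbf]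
    simp
  have hs : Submodule.span F {e, f} ⊔ pairPerp hQ W e f = W := by
    refine le_antisymm (sup_le (Submodule.span_le.2 (by rintro x (rfl | rfl) <;> assumption))
      (inf_le_left.trans inf_le_left)) fun x hx => ?_
    exact Submodule.mem_sup.2 ⟨pol Q x f • e + pol Q x e • f, Submodule.mem_span_pair.2 ⟨_, _, rfl⟩, _,
      pair_proj hQ he hf hQe hQf hef hx, by abel⟩
  refine ⟨hs, hd, ho, ?_⟩
  conv_rhs => rw [← hs, finrank_sup_disjoint hQ hd,
    finrank_pair hQ (show pol Q e f ^ 2 ≠ 4 * Q e * Q f by rw [hef, hQe]; simp)]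
  omega

theorem ts_sup {A B : Submodule F (ι → F)} (hA : IsTotallySingularQuad Q A) (hB : IsTotallySingularQuad Q B)
    (h : AreOrthogonalFor (pol Q) A B) : IsTotallySingularQuad Q (A ⊔ B) := by
  intro x hx
  obtain ⟨a, ha, b, hb, rfl⟩ := Submodule.mem_sup.1 hx
  rw [qadd hQ, hA a ha, hB b hb, h a ha b hb, add_zero, add_zero]

theorem exists_wd {W : Submodule F (ι → F)} (hW : NdOn Q W) : ∃ T L, WD Q W T L := by
  induction hn : Module.finrank F W using Nat.strong_induction_on generalizing W with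
  | _ n ih =>
  subst hn
  by_cases hs : ∃ e ∈ W, e ≠ 0 ∧ Q e = 0
  swap
  · push Not at hs
    refine ⟨⊥, W, bot_le, le_rfl, fun w hw => ?_, fun a ha b hb => ?_, hW, fun x hx hQx => ?_, by simp⟩
    · rw [(Submodule.mem_bot F).1 hw, qzero hQ]
    · rw [(Submodule.mem_bot F).1 ha, pzero_left hQ]
    · by_contra h0; exact hs x hx h0 hQx
  obtain ⟨e, he, he0, hQe⟩ := hs
  obtain ⟨f, hf, hQf, hef⟩ := exists_qpartner hQ hW he he0 hQe
  obtain ⟨hsup, hd, ho, hdim⟩ := pair_split hQ he hf hQe hQf hef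
  obtain ⟨T, L, h⟩ := ih _ (by omega) (pair_nd hQ he hf hQe hQf hef hW) rfl
  have hle : Submodule.span F {e} ≤ Submodule.span F {e, f} := Submodule.span_mono (by simp)
  refine ⟨Submodule.span F {e} ⊔ T, L, sup_le ((Submodule.span_singleton_le_iff_mem _ _).2 he)
    (h.tle.trans (inf_le_left.trans inf_le_left)), h.lle.trans (inf_le_left.trans inf_le_left), ts_sup hQ ?_ h.ts ?_,
    ?_, h.nd, h.aniso, ?_⟩
  · intro x hx
    obtain ⟨c, rfl⟩ := Submodule.mem_span_singleton.1 hx
    rw [qsmul hQ, hQe, mul_zero]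
  · exact fun a ha b hb => ho a (hle ha) b (h.tle hb)
  · exact orth_comm hQ (orth_sup_right hQ (orth_comm hQ fun a ha b hb => ho a (hle ha) b (h.lle hb)) (orth_comm hQ h.orth))
  · rw [finrank_sup_disjoint hQ (hd.mono hle h.tle), finrank_span_singleton he0]
    have := h.dim
    omega

theorem WD.aniso_le_two [Fintype F] {W T L : Submodule F (ι → F)} (h : WD Q W T L) : Module.finrank F L ≤ 2 := by
  by_contra hlt
  obtain ⟨u, hu, hu0, hQu⟩ := exists_qsingular hQ h.nd (by omega)
  exact hu0 (h.aniso u hu hQu)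

/-- a subspace is of plus type iff its anisotropic part vanishes -/
theorem WD.plus_iff [Fintype F] {W T L : Submodule F (ι → F)} (hW : NdOn Q W) (h : WD Q W T L) :
    IsPlusTypeOn Q W ↔ L = ⊥ := by
  constructor
  swap
  · intro hL
    refine ⟨T, h.tle, h.ts, ?_⟩
    have := h.dim
    rw [hL, finrank_bot] at this
    omega
  rintro ⟨U, hUW, hU, hUd⟩
  have hTT : T ≤ qperp hQ T := fun x hx y hy => pol_zero_of_singular hQ h.ts hx hy
  have hUU : U ≤ qperp hQ U := fun x hx y hy => pol_zero_of_singular hQ hU hx hy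
  obtain ⟨U', hU'⟩ : ∃ U', U' = (U ⊓ qperp hQ T) ⊔ T := ⟨_, rfl⟩
  have hU's : IsTotallySingularQuad Q U' := by
    rw [hU']
    exact ts_sup hQ (fun x hx => hU x hx.1) h.ts fun a ha b hb => ha.2 b hb
  have hU'le : U' ≤ W ⊓ qperp hQ T := by
    rw [hU']
    exact sup_le (le_inf (inf_le_left.trans hUW) inf_le_right) (le_inf h.tle hTT)
  have hdisj : Disjoint T L := by
    rw [Submodule.disjoint_def]
    exact fun x hx hx' => h.aniso x hx' (h.ts x hx)
  have hTL : T ⊔ L = W ⊓ qperp hQ T := by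
    refine Submodule.eq_of_le_of_finrank_le (sup_le (le_inf h.tle hTT)
      (le_inf h.lle fun x hx y hy => by rw [pcomm]; exact h.orth y hy x hx)) ?_
    have h1 := finrank_inf_ts hQ hW h.tle
    have h2 := h.dim
    rw [finrank_sup_disjoint hQ hdisj]
    omega
  have hU'd : Module.finrank F U ≤ Module.finrank F U' := by
    have h1 : qperp hQ (qperp hQ U ⊔ T) = U ⊓ qperp hQ T := by rw [qperp_sup hQ, qperp_qperp_any hQ]
    have h2 := finrank_qperp_add hQ (qperp hQ U ⊔ T)
    have h3 := finrank_qperp_add hQ U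
    rw [h1] at h2
    have h4 := Submodule.finrank_sup_add_finrank_inf_eq (qperp hQ U) T
    have h5 := Submodule.finrank_sup_add_finrank_inf_eq (U ⊓ qperp hQ T) T
    have h6 : Module.finrank F ↥(U ⊓ qperp hQ T ⊓ T) ≤ Module.finrank F ↥(qperp hQ U ⊓ T) :=
      Submodule.finrank_mono fun x hx => ⟨hUU hx.1.1, hx.2⟩
    rw [← hU'] at h5
    omega
  have hmod : U' ≤ T := by
    intro x hx
    have hx' := hU'le hx
    rw [← hTL] at hx'
    obtain ⟨t, ht, l, hl, rfl⟩ := Submodule.mem_sup.1 hx'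
    have hl' : l ∈ U' := by
      have := U'.sub_mem hx (show t ∈ U' by rw [hU']; exact Submodule.mem_sup_right ht)
      rwa [add_sub_cancel_left] at this
    rw [h.aniso l hl (hU's l hl'), add_zero]
    exact ht
  have h7 := Submodule.finrank_mono hmod
  have h8 := h.dim
  exact Submodule.finrank_eq_zero.1 (by omega)

theorem wd_self {L : Submodule F (ι → F)} (hL : NdOn Q L) (ha : ∀ x ∈ L, Q x = 0 → x = 0) : WD Q L ⊥ L :=
  ⟨bot_le, le_rfl, fun w hw => by rw [(Submodule.mem_bot F).1 hw, qzero hQ],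
    fun a ha b hb => by rw [(Submodule.mem_bot F).1 ha, pzero_left hQ], hL, ha, by simp⟩

/-- a plane is of plus type iff it has a singular vector -/
theorem plane_plus_iff {P : Submodule F (ι → F)} (hd : Module.finrank F P = 2) :
    IsPlusTypeOn Q P ↔ ∃ x ∈ P, x ≠ 0 ∧ Q x = 0 := by
  constructor
  · rintro ⟨U, hUP, hU, hUd⟩
    obtain ⟨x, hx, hx0⟩ := Submodule.exists_mem_ne_zero_of_ne_bot (p := U) fun h => by
      rw [h, finrank_bot, hd] at hUd; omega
    exact ⟨x, hUP hx, hx0, hU x hx⟩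
  · rintro ⟨x, hx, hx0, hQx⟩
    refine ⟨Submodule.span F {x}, (Submodule.span_singleton_le_iff_mem _ _).2 hx, fun y hy => ?_, by
      rw [finrank_span_singleton hx0, hd]⟩
    obtain ⟨c, rfl⟩ := Submodule.mem_span_singleton.1 hy
    rw [qsmul hQ, hQx, mul_zero]

/-- the type of an orthogonal sum is the type of the sum of the anisotropic parts -/
theorem plus_sup_core [Fintype F] {A B Ta La Tb Lb : Submodule F (ι → F)} (hA : NdOn Q A) (hB : NdOn Q B)
    (ho : AreOrthogonalFor (pol Q) A B) (ha : WD Q A Ta La) (hb : WD Q B Tb Lb) :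
    IsPlusTypeOn Q (A ⊔ B) ↔ IsPlusTypeOn Q (La ⊔ Lb) := by
  have hAB := orth_disjoint hQ hA ho
  have hoL : AreOrthogonalFor (pol Q) La Lb := fun a haa b hbb => ho a (ha.lle haa) b (hb.lle hbb)
  have hL := nd_sup hQ ha.nd hb.nd hoL
  obtain ⟨T, L, h⟩ := exists_wd hQ hL
  rw [h.plus_iff hQ hL]
  have hd1 : Disjoint Ta Tb := hAB.mono ha.tle hb.tle
  have hd2 : Disjoint (Ta ⊔ Tb) (La ⊔ Lb) := by
    rw [Submodule.disjoint_def]
    intro x hx hx'
    obtain ⟨s, hs, t, ht, rfl⟩ := Submodule.mem_sup.1 hx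
    obtain ⟨l, hl, m, hm, he⟩ := Submodule.mem_sup.1 hx'
    have h1 : s - l = m - t := by
      rw [← sub_eq_zero] at he ⊢
      rw [show s - l - (m - t) = -(l + m - (s + t)) by abel, he, neg_zero]
    have h2 : s - l = 0 := Submodule.disjoint_def.1 hAB _ (A.sub_mem (ha.tle hs) (ha.lle hl))
      (h1 ▸ B.sub_mem (hb.lle hm) (hb.tle ht))
    rw [h2] at h1
    have h3 : s = 0 := by
      have := sub_eq_zero.1 h2
      rw [this]
      exact ha.aniso l hl (this ▸ ha.ts s hs)
    have h4 : t = 0 := by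
      have := (sub_eq_zero.1 h1.symm).symm
      rw [this]
      exact hb.aniso m hm (this ▸ hb.ts t ht)
    rw [h3, h4, add_zero]
  have hT : T ≤ La ⊔ Lb := h.tle
  have hab : ∀ x ∈ Ta ⊔ Tb, ∀ y ∈ La ⊔ Lb, pol Q x y = 0 := by
    have o1 : AreOrthogonalFor (pol Q) Ta (La ⊔ Lb) :=
      orth_sup_right hQ ha.orth fun x hx y hy => ho x (ha.tle hx) y (hb.lle hy)
    have o2 : AreOrthogonalFor (pol Q) Tb (La ⊔ Lb) :=
      orth_sup_right hQ (fun x hx y hy => by rw [pcomm]; exact ho y (ha.lle hy) x (hb.tle hx)) hb.orth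
    exact orth_comm hQ (orth_sup_right hQ (orth_comm hQ o1) (orth_comm hQ o2))
  have hfull : WD Q (A ⊔ B) (Ta ⊔ Tb ⊔ T) L := by
    refine ⟨sup_le (sup_le_sup ha.tle hb.tle) (hT.trans (sup_le_sup ha.lle hb.lle)),
      h.lle.trans (sup_le_sup ha.lle hb.lle), ts_sup hQ (ts_sup hQ ha.ts hb.ts fun x hx y hy =>
        ho x (ha.tle hx) y (hb.tle hy)) h.ts (fun x hx y hy => hab x hx y (hT hy)), ?_, h.nd, h.aniso, ?_⟩
    · exact orth_comm hQ (orth_sup_right hQ (orth_comm hQ fun x hx y hy => hab x hx y (h.lle hy)) (orth_comm hQ h.orth))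
    · rw [finrank_sup_disjoint hQ (hd2.mono_right hT), finrank_sup_disjoint hQ hd1, finrank_sup_disjoint hQ hAB]
      have h1 := h.dim
      rw [finrank_sup_disjoint hQ (hAB.mono ha.lle hb.lle)] at h1
      have h2 := ha.dim
      have h3 := hb.dim
      omega
  exact hfull.plus_iff hQ (nd_sup hQ hA hB ho)

/-- frames of anisotropic planes differing by a scalar -/
theorem aniso_frames [Fintype F] {L L' : Submodule F (ι → F)} (hL : NdOn Q L) (hL' : NdOn Q L')
    (hd : Module.finrank F L = 2) (hd' : Module.finrank F L' = 2) (ha : ∀ x ∈ L, Q x = 0 → x = 0)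
    (ha' : ∀ x ∈ L', Q x = 0 → x = 0) {a : F} (h0 : a ≠ 0) :
    ∃ u ∈ L, ∃ v ∈ L, ∃ u' ∈ L', ∃ v' ∈ L', pol Q u v ^ 2 ≠ 4 * Q u * Q v ∧ Q u' = a * Q u ∧ Q v' = a * Q v ∧
      pol Q u' v' = a * pol Q u v := by
  obtain ⟨u, hu, hQu⟩ := exists_value_two hQ hL hd.ge 1
  obtain ⟨u', hu', hQu'⟩ := exists_value_two hQ hL' hd'.ge a
  by_cases h2 : (2 : F) = 0
  · have key : ∀ {P : Submodule F (ι → F)}, NdOn Q P → (∀ x ∈ P, Q x = 0 → x = 0) → ∀ {x : ι → F} {c : F}, x ∈ P →
        Q x = c → c ≠ 0 → ∃ y ∈ P, pol Q x y = c ∧ ∀ t : F, t ^ 2 + t ≠ Q y / c := by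
      intro P hP hPa x c hx hQx hc
      obtain ⟨z, hz, hzx⟩ := (hP x hx fun h => hc (by rw [← hQx, h, qzero hQ])).2
      refine ⟨(c / pol Q x z) • z, P.smul_mem _ hz, by rw [psmul_right hQ, div_mul_cancel₀ _ hzx], fun t ht => ?_⟩
      obtain ⟨y, hy⟩ : ∃ y, y = (c / pol Q x z) • z := ⟨_, rfl⟩
      have hxy : pol Q x y = c := by rw [hy, psmul_right hQ, div_mul_cancel₀ _ hzx]
      rw [← hy] at ht
      have hQy : Q y = (t ^ 2 + t) * c := by rw [ht, div_mul_cancel₀ _ hc]
      have h1 : y + t • x = 0 := hPa _ (P.add_mem (hy ▸ P.smul_mem _ hz) (P.smul_mem _ hx)) (by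
        rw [qadd hQ, qsmul hQ, psmul_right hQ, pcomm, hxy, hQy, hQx]
        linear_combination (t ^ 2 * c + t * c) * h2)
      have h3 := congrArg (fun w => pol Q w x) h1
      simp only [padd_left hQ, psmul_left hQ, pzero_left hQ, pself hQ, h2, zero_mul, mul_zero, add_zero] at h3
      rw [pcomm, hxy] at h3
      exact hc h3
    obtain ⟨v, hv, huv, hlv⟩ := key hL ha hu hQu one_ne_zero
    obtain ⟨y, hy, huy, hly⟩ := key hL' ha' hu' hQu' h0
    rw [div_one] at hlv
    obtain ⟨t, ht⟩ := artin_schreier h2 hly hlv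
    refine ⟨u, hu, v, hv, u', hu', y + t • u', L'.add_mem hy (L'.smul_mem _ hu'), ?_, by rw [hQu, hQu', mul_one], ?_, ?_⟩
    · rw [huv, hQu, show (4 : F) = 2 * 2 by norm_num, h2]
      simp
    · have e : Q y = a * (Q y / a) := (mul_div_cancel₀ (Q y) h0).symm
      rw [qadd hQ, qsmul hQ, psmul_right hQ, pcomm, huy, hQu', e]
      linear_combination a * ht + a * (Q y / a) * h2
    · rw [padd_right hQ, psmul_right hQ, huy, pself hQ, h2, huv]
      ring
  · have key : ∀ {P : Submodule F (ι → F)}, Module.finrank F P = 2 → (∀ x ∈ P, Q x = 0 → x = 0) →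
        ∀ {x : ι → F} {c : F}, x ∈ P → Q x = c → c ≠ 0 →
        ∃ y ∈ P, pol Q x y = 0 ∧ Q y ≠ 0 ∧ ¬ IsSquare (-Q y / c) := by
      intro P hPd hPa x c hx hQx hc
      obtain ⟨y, ⟨hy, hyx⟩, hy0⟩ := Submodule.exists_mem_ne_zero_of_ne_bot (p := P ⊓ LinearMap.ker (pfl hQ x))
        fun h => by
          have h1 := finrank_inf_pfl hQ P x
          rw [h, finrank_bot, hPd] at h1
          omega
      have hyx' : pol Q y x = 0 := hyx
      have hQy : Q y ≠ 0 := fun h => hy0 (hPa y hy h)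
      refine ⟨y, hy, by rw [pcomm]; exact hyx', hQy, fun ⟨s, hs⟩ => ?_⟩
      have e : s * s * c = -Q y := by rw [← hs, div_mul_cancel₀ _ hc]
      have h1 : y + s • x = 0 := hPa _ (P.add_mem hy (P.smul_mem _ hx)) (by
        rw [qadd hQ, qsmul hQ, psmul_right hQ, hyx', hQx]
        linear_combination e)
      have h3 := congrArg (fun w => pol Q w x) h1
      simp only [padd_left hQ, psmul_left hQ, pzero_left hQ, pself hQ, hQx, hyx', zero_add] at h3
      rcases mul_eq_zero.1 h3 with hs0 | h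
      · rw [hs0, zero_mul, zero_mul, eq_comm, neg_eq_zero] at e
        exact hQy e
      · exact mul_ne_zero h2 hc h
    obtain ⟨v, hv, huv, hQv, hns⟩ := key hd ha hu hQu one_ne_zero
    obtain ⟨y, hy, huy, hQy, hns'⟩ := key hd' ha' hu' hQu' h0
    obtain ⟨r, hr⟩ := isSquare_mul_of_not h2 hns hns'
    refine ⟨u, hu, v, hv, u', hu', (a * r / Q y) • y, L'.smul_mem _ hy, ?_, by rw [hQu, hQu', mul_one], ?_, ?_⟩
    · rw [huv, hQu]
      intro h
      exact mul_ne_zero (mul_ne_zero h2 h2) hQv (by linear_combination -h)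
    · rw [qsmul hQ]
      field_simp at hr ⊢
      linear_combination -hr
    · rw [psmul_right hQ, huy, huv]
      ring

/-- orthogonal sums of even-dimensional subspaces -/
theorem plus_sup_even [Fintype F] {A B : Submodule F (ι → F)} (hA : NdOn Q A) (hB : NdOn Q B)
    (ho : AreOrthogonalFor (pol Q) A B) (hea : Even (Module.finrank F A)) (heb : Even (Module.finrank F B)) :
    IsPlusTypeOn Q (A ⊔ B) ↔ (IsPlusTypeOn Q A ↔ IsPlusTypeOn Q B) := by
  obtain ⟨Ta, La, ha⟩ := exists_wd hQ hA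
  obtain ⟨Tb, Lb, hb⟩ := exists_wd hQ hB
  rw [plus_sup_core hQ hA hB ho ha hb, ha.plus_iff hQ hA, hb.plus_iff hQ hB]
  rcases eq_or_ne La ⊥ with h1 | h1
  · rw [h1, bot_sup_eq, (wd_self hQ hb.nd hb.aniso).plus_iff hQ hb.nd]
    simp
  rcases eq_or_ne Lb ⊥ with h2 | h2
  · rw [h2, sup_bot_eq, (wd_self hQ ha.nd ha.aniso).plus_iff hQ ha.nd]
    simp
  simp only [h1, h2, iff_true]
  have two : ∀ {W T L : Submodule F (ι → F)}, WD Q W T L → Even (Module.finrank F W) → L ≠ ⊥ →
      Module.finrank F L = 2 := by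
    intro W T L h he hne
    have e1 := h.aniso_le_two hQ
    have e2 : 1 ≤ Module.finrank F L := Submodule.one_le_finrank_iff.2 hne
    have e3 := h.dim
    obtain ⟨j, hj⟩ := he
    omega
  have d1 := two ha hea h1
  have d2 := two hb heb h2
  obtain ⟨u, hu, v, hv, u', hu', v', hv', hdet, e1, e2, e3⟩ :=
    aniso_frames hQ ha.nd hb.nd d1 d2 ha.aniso hb.aniso (neg_ne_zero.2 one_ne_zero)
  have hoL : AreOrthogonalFor (pol Q) La Lb := fun x hx y hy => ho x (ha.lle hx) y (hb.lle hy)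
  refine ⟨Submodule.span F {u + u', v + v'}, ?_, ?_, ?_⟩
  · rw [Submodule.span_le]
    rintro x (rfl | rfl)
    · exact Submodule.add_mem_sup hu hu'
    · exact Submodule.add_mem_sup hv hv'
  · intro x hx
    obtain ⟨s, t, rfl⟩ := Submodule.mem_span_pair.1 hx
    simp only [qadd hQ, qsmul hQ, psmul_left hQ, psmul_right hQ, padd_left hQ, padd_right hQ, e1, e2, e3,
      hoL u hu u' hu', hoL v hv v' hv', hoL u hu v' hv', pcomm u' v, hoL v hv u' hu']
    ring
  · have hli : LinearIndependent F ![u + u', v + v'] := by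
      rw [LinearIndependent.pair_iff]
      intro s t hst
      have h5 : s • u + t • v = -(s • u' + t • v') := eq_neg_of_add_eq_zero_left (by rw [← hst]; module)
      have h6 : s • u + t • v = 0 := Submodule.disjoint_def.1 (orth_disjoint hQ ha.nd hoL) _
        (La.add_mem (La.smul_mem _ hu) (La.smul_mem _ hv))
        (h5 ▸ Lb.neg_mem (Lb.add_mem (Lb.smul_mem _ hu') (Lb.smul_mem _ hv')))
      exact LinearIndependent.pair_iff.1 (pair_indep hQ hdet) s t h6
    rw [← Matrix.range_cons_cons_empty (u + u') (v + v') ![], finrank_span_eq_card hli, Fintype.card_fin,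
      finrank_sup_disjoint hQ (orth_disjoint hQ ha.nd hoL), d1, d2]

/-- orthogonal sums of two odd-dimensional subspaces -/
theorem plus_sup_lines [Fintype F] {A B Ta La Tb Lb : Submodule F (ι → F)} (hA : NdOn Q A) (hB : NdOn Q B)
    (ho : AreOrthogonalFor (pol Q) A B) (ha : WD Q A Ta La) (hb : WD Q B Tb Lb)
    (hda : Module.finrank F La = 1) (hdb : Module.finrank F Lb = 1) {u u' : ι → F} (hu : u ∈ La) (hu0 : u ≠ 0)
    (hu' : u' ∈ Lb) (hu0' : u' ≠ 0) : IsPlusTypeOn Q (A ⊔ B) ↔ IsSquare (-Q u' / Q u) := by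
  have hQu : Q u ≠ 0 := fun h => hu0 (ha.aniso u hu h)
  have hQu' : Q u' ≠ 0 := fun h => hu0' (hb.aniso u' hu' h)
  have hoL : AreOrthogonalFor (pol Q) La Lb := fun x hx y hy => ho x (ha.lle hx) y (hb.lle hy)
  have hdisj := orth_disjoint hQ ha.nd hoL
  rw [plus_sup_core hQ hA hB ho ha hb, plane_plus_iff hQ (by rw [finrank_sup_disjoint hQ hdisj, hda, hdb])]
  have hla : La = Submodule.span F {u} := (Submodule.eq_of_le_of_finrank_eq
    ((Submodule.span_singleton_le_iff_mem _ _).2 hu) (by rw [finrank_span_singleton hu0, hda])).symm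
  have hlb : Lb = Submodule.span F {u'} := (Submodule.eq_of_le_of_finrank_eq
    ((Submodule.span_singleton_le_iff_mem _ _).2 hu') (by rw [finrank_span_singleton hu0', hdb])).symm
  constructor
  · rintro ⟨x, hx, hx0, hQx⟩
    obtain ⟨p, hp, r, hr, rfl⟩ := Submodule.mem_sup.1 hx
    rw [hla, Submodule.mem_span_singleton] at hp
    rw [hlb, Submodule.mem_span_singleton] at hr
    obtain ⟨s, rfl⟩ := hp
    obtain ⟨t, rfl⟩ := hr
    rw [qadd hQ, qsmul hQ, qsmul hQ, psmul_left hQ, psmul_right hQ, hoL u hu u' hu'] at hQx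
    have ht : t ≠ 0 := fun h => by
      subst h
      have hs : s = 0 := by
        have : s ^ 2 * Q u = 0 := by linear_combination hQx
        exact pow_eq_zero_iff two_ne_zero |>.1 ((mul_eq_zero.1 this).resolve_right hQu)
      exact hx0 (by rw [hs, zero_smul, zero_smul, add_zero])
    refine ⟨s / t, ?_⟩
    field_simp
    linear_combination -hQx
  · rintro ⟨s, hs⟩
    have e : s * s * Q u = -Q u' := by rw [← hs, div_mul_cancel₀ _ hQu]
    refine ⟨s • u + u', Submodule.add_mem_sup (La.smul_mem _ hu) hu', fun h0 => ?_, ?_⟩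
    · exact hu0' (Submodule.disjoint_def.1 hdisj.symm u' hu'
        ((eq_neg_of_add_eq_zero_right h0) ▸ La.neg_mem (La.smul_mem _ hu)))
    · rw [qadd hQ, qsmul hQ, psmul_left hQ, hoL u hu u' hu']
      linear_combination e

theorem isometric_line {u u' : ι → F} (hu0 : u ≠ 0) (hu0' : u' ≠ 0) (h : Q u' = Q u) :
    AreIsometricFor Q (Submodule.span F {u}) (Submodule.span F {u'}) := by
  refine ⟨(LinearEquiv.toSpanNonzeroSingleton F _ u hu0).symm.trans
    (LinearEquiv.toSpanNonzeroSingleton F _ u' hu0'), fun x => ?_⟩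
  obtain ⟨a, rfl⟩ := (LinearEquiv.toSpanNonzeroSingleton F _ u hu0).surjective x
  rw [LinearEquiv.trans_apply, LinearEquiv.symm_apply_apply]
  show Q (a • u') = Q (a • u)
  rw [qsmul hQ, qsmul hQ, h]

/-- isometric anisotropic parts give isometric spaces -/
theorem wd_isometric {W W' T T' L L' : Submodule F (ι → F)} (hW : NdOn Q W) (hW' : NdOn Q W') (h : WD Q W T L)
    (h' : WD Q W' T' L') (hd : Module.finrank F W = Module.finrank F W') (hLL : AreIsometricFor Q L L') :
    AreIsometricFor Q W W' := by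
  induction ht : Module.finrank F T generalizing W W' T T' with
  | zero =>
    have h1 := h.dim
    have h2 := h'.dim
    have h3 := isometric_finrank hLL
    rw [← Submodule.eq_of_le_of_finrank_eq h.lle (by omega), ← Submodule.eq_of_le_of_finrank_eq h'.lle (by omega)]
    exact hLL
  | succ t ih =>
    have step : ∀ {W T L : Submodule F (ι → F)}, NdOn Q W → WD Q W T L → Module.finrank F T = t + 1 →
        ∃ (e f : ι → F) (T₁ : Submodule F (ι → F)), e ∈ W ∧ f ∈ W ∧ Q e = 0 ∧ Q f = 0 ∧ pol Q e f = 1 ∧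
          WD Q (pairPerp hQ W e f) T₁ L ∧ Module.finrank F T₁ = t := by
      intro W T L hW h hT
      obtain ⟨e, he, he0⟩ := Submodule.exists_mem_ne_zero_of_ne_bot (p := T) fun h0 => by
        rw [h0, finrank_bot] at hT; omega
      obtain ⟨f, hf, hQf, hef⟩ := exists_qpartner hQ (nd_inf_qperp hQ hW h.nd h.lle)
        (show e ∈ W ⊓ qperp hQ L from ⟨h.tle he, fun l hl => h.orth e he l hl⟩) he0 (h.ts e he)
      obtain ⟨-, -, -, hdim⟩ := pair_split hQ (h.tle he) hf.1 (h.ts e he) hQf hef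
      have h1 := finrank_inf_pfl hQ T f
      have h2 : Module.finrank F ↥(T ⊓ LinearMap.ker (pfl hQ f)) < Module.finrank F T := by
        refine Submodule.finrank_lt_finrank_of_lt (lt_of_le_of_ne inf_le_left fun h0 => ?_)
        have : pol Q e f = 0 := ((h0.symm ▸ he : e ∈ T ⊓ LinearMap.ker (pfl hQ f))).2
        rw [hef] at this
        exact one_ne_zero this
      refine ⟨e, f, T ⊓ LinearMap.ker (pfl hQ f), h.tle he, hf.1, h.ts e he, hQf, hef,
        ⟨fun x hx => (mem_pairPerp hQ).2 ⟨h.tle hx.1, pol_zero_of_singular hQ h.ts hx.1 he, hx.2⟩,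
          fun x hx => (mem_pairPerp hQ).2 ⟨h.lle hx, by rw [pcomm]; exact h.orth e he x hx,
            by rw [pcomm]; exact hf.2 x hx⟩, fun x hx => h.ts x hx.1, fun a ha => h.orth a ha.1, h.nd, h.aniso, ?_⟩,
        by omega⟩
      have := h.dim
      omega
    have ht' : Module.finrank F T' = t + 1 := by
      have h1 := h.dim
      have h2 := h'.dim
      have h3 := isometric_finrank hLL
      omega
    obtain ⟨e, f, T₁, he, hf, hQe, hQf, hef, hd1, ht1⟩ := step hW h ht
    obtain ⟨e', f', T₁', he', hf', hQe', hQf', hef', hd1', ht1'⟩ := step hW' h' ht'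
    obtain ⟨hs, hdj, ho, hdim⟩ := pair_split hQ he hf hQe hQf hef
    obtain ⟨hs', hdj', ho', hdim'⟩ := pair_split hQ he' hf' hQe' hQf' hef'
    rw [← hs, ← hs']
    exact isometric_sup hQ hdj hdj' ho ho'
      (isometric_pair hQ (by rw [hef, hQe]; simp) (by rw [hQe, hQe']) (by rw [hQf, hQf']) (by rw [hef, hef']))
      (ih (pair_nd hQ he hf hQe hQf hef hW) (pair_nd hQ he' hf' hQe' hQf' hef' hW') hd1 hd1' (by omega) ht1)

/-- an isometry carries the decomposition over -/
theorem wd_transport {W W' T L : Submodule F (ι → F)} (h : WD Q W T L) (hi : AreIsometricFor Q W W') :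
    ∃ T' L', WD Q W' T' L' ∧ Module.finrank F L' = Module.finrank F L ∧
      ∀ u ∈ L, ∃ u' ∈ L', Q u' = Q u := by
  obtain ⟨e, he⟩ := hi
  let img : Submodule F (ι → F) → Submodule F (ι → F) := fun X =>
    (X.comap W.subtype).map (W'.subtype.comp e.toLinearMap)
  have hfin : ∀ X, X ≤ W → Module.finrank F (img X) = Module.finrank F X := fun X hX => by
    rw [← (Submodule.equivMapOfInjective (W'.subtype.comp e.toLinearMap) (fun a b hab => e.injective (Subtype.ext hab)) (X.comap W.subtype)).finrank_eq]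
    exact (Submodule.comapSubtypeEquivOfLe hX).finrank_eq
  have himg : ∀ X x, x ∈ img X → ∃ y : W, (y : ι → F) ∈ X ∧ (e y : ι → F) = x := by
    rintro X x ⟨y, hy, rfl⟩
    exact ⟨y, hy, rfl⟩
  refine ⟨img T, img L, ⟨?_, ?_, ?_, ?_, ?_, ?_, ?_⟩, hfin L h.lle, fun u hu => ?_⟩
  · intro x hx
    obtain ⟨y, -, rfl⟩ := himg _ x hx
    exact (e y).2
  · intro x hx
    obtain ⟨y, -, rfl⟩ := himg _ x hx
    exact (e y).2
  · intro x hx
    obtain ⟨y, hy, rfl⟩ := himg _ x hx
    rw [he]; exact h.ts _ hy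
  · intro a ha b hb
    obtain ⟨y, hy, rfl⟩ := himg _ a ha
    obtain ⟨z, hz, rfl⟩ := himg _ b hb
    rw [isometric_pol hQ he]
    exact h.orth _ hy _ hz
  · intro w hw hw0
    obtain ⟨y, hy, rfl⟩ := himg _ w hw
    obtain ⟨x, hx, hxy⟩ := (h.nd _ hy fun h0 => hw0 (by rw [show y = 0 from Subtype.ext h0, map_zero]; rfl)).1
    have hmem : (e ⟨x, h.lle hx⟩ : ι → F) ∈ img L := ⟨⟨x, h.lle hx⟩, hx, rfl⟩
    exact ⟨⟨_, hmem, by rw [isometric_pol hQ he]; exact hxy⟩,
      ⟨_, hmem, by rw [pcomm, isometric_pol hQ he]; exact hxy⟩⟩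
  · intro x hx hQx
    obtain ⟨y, hy, rfl⟩ := himg _ x hx
    rw [he] at hQx
    rw [show y = 0 from Subtype.ext (h.aniso _ hy hQx), map_zero]; rfl
  · rw [hfin T h.tle, hfin L h.lle, h.dim]
    exact e.finrank_eq
  · exact ⟨_, ⟨⟨u, h.lle hu⟩, hu, rfl⟩, he _⟩

theorem plus_of_isometric {W W' : Submodule F (ι → F)} (hi : AreIsometricFor Q W W') (h : IsPlusTypeOn Q W) :
    IsPlusTypeOn Q W' := by
  obtain ⟨U, hUW, hU, hUd⟩ := h
  obtain ⟨e, he⟩ := hi
  refine ⟨(U.comap W.subtype).map (W'.subtype.comp e.toLinearMap), ?_, ?_, ?_⟩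
  · rintro x ⟨y, -, rfl⟩
    exact (e y).2
  · rintro x ⟨y, hy, rfl⟩
    show Q (e y : ι → F) = 0
    rw [he]; exact hU _ hy
  · rw [← (Submodule.equivMapOfInjective (W'.subtype.comp e.toLinearMap) (fun a b hab => e.injective (Subtype.ext hab)) (U.comap W.subtype)).finrank_eq,
      (Submodule.comapSubtypeEquivOfLe hUW).finrank_eq, hUd]
    exact e.finrank_eq

/-- even-dimensional subspaces are classified by their type -/
theorem isometric_of_type [Fintype F] {W W' : Submodule F (ι → F)} (hW : NdOn Q W) (hW' : NdOn Q W')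
    (hd : Module.finrank F W = Module.finrank F W') (he : Even (Module.finrank F W))
    (ht : IsPlusTypeOn Q W ↔ IsPlusTypeOn Q W') : AreIsometricFor Q W W' := by
  obtain ⟨T, L, h⟩ := exists_wd hQ hW
  obtain ⟨T', L', h'⟩ := exists_wd hQ hW'
  refine wd_isometric hQ hW hW' h h' hd ?_
  rw [h.plus_iff hQ hW, h'.plus_iff hQ hW'] at ht
  rcases eq_or_ne L ⊥ with h1 | h1
  · rw [h1, ht.1 h1]
    exact isometric_refl ⊥
  have h2 : L' ≠ ⊥ := fun e => h1 (ht.2 e)
  obtain ⟨j, hj⟩ := he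
  have e1 := h.aniso_le_two hQ
  have e2 := h'.aniso_le_two hQ
  have e3 : 1 ≤ Module.finrank F L := Submodule.one_le_finrank_iff.2 h1
  have e4 : 1 ≤ Module.finrank F L' := Submodule.one_le_finrank_iff.2 h2
  have e5 := h.dim
  have e6 := h'.dim
  obtain ⟨u, hu, v, hv, u', hu', v', hv', hdet, q1, q2, q3⟩ :=
    aniso_frames hQ h.nd h'.nd (by omega) (by omega) h.aniso h'.aniso (one_ne_zero (α := F))
  rw [one_mul] at q1 q2 q3
  rw [← pair_span hQ hu hv (by omega) hdet, ← pair_span hQ hu' hv' (by omega) (by rw [q1, q2, q3]; exact hdet)]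
  exact isometric_pair hQ hdet q1 q2 q3

theorem two_ne_of_odd_nd [Fintype F] {W : Submodule F (ι → F)} (hW : NdOn Q W) (ho : Odd (Module.finrank F W)) :
    (2 : F) ≠ 0 := by
  intro h2
  obtain ⟨T, L, h⟩ := exists_wd hQ hW
  have e1 := h.aniso_le_two hQ
  have e5 := h.dim
  obtain ⟨j, hj⟩ := ho
  have hd : Module.finrank F L = 1 := by omega
  obtain ⟨u, hu, hu0⟩ := Submodule.exists_mem_ne_zero_of_ne_bot (p := L) fun h0 => by
    rw [h0, finrank_bot] at hd; omega
  obtain ⟨x, hx, hxu⟩ := (h.nd u hu hu0).1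
  have hL : L = Submodule.span F {u} := (Submodule.eq_of_le_of_finrank_eq
    ((Submodule.span_singleton_le_iff_mem _ _).2 hu) (by rw [finrank_span_singleton hu0, hd])).symm
  rw [hL, Submodule.mem_span_singleton] at hx
  obtain ⟨c, rfl⟩ := hx
  exact hxu (by rw [psmul_left hQ, pself hQ, h2, zero_mul, mul_zero])

/-- two orthogonal isometric subspaces of odd dimension -/
theorem plus_sup_odd_iso [Fintype F] {A B : Submodule F (ι → F)} (hA : NdOn Q A) (hB : NdOn Q B)
    (ho : AreOrthogonalFor (pol Q) A B) (hoa : Odd (Module.finrank F A)) (hi : AreIsometricFor Q A B) :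
    IsPlusTypeOn Q (A ⊔ B) ↔ IsSquare (-1 : F) := by
  obtain ⟨Ta, La, ha⟩ := exists_wd hQ hA
  obtain ⟨Tb, Lb, hb, hdb, hval⟩ := wd_transport hQ ha hi
  have e1 := ha.aniso_le_two hQ
  have e5 := ha.dim
  obtain ⟨j, hj⟩ := hoa
  obtain ⟨u, hu, hu0⟩ := Submodule.exists_mem_ne_zero_of_ne_bot (p := La) fun h0 => by
    rw [h0, finrank_bot] at e5; omega
  obtain ⟨u', hu', hQu'⟩ := hval u hu
  have hQu : Q u ≠ 0 := fun h => hu0 (ha.aniso u hu h)
  have hu0' : u' ≠ 0 := fun h => hQu (by rw [← hQu', h, qzero hQ])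
  rw [plus_sup_lines hQ hA hB ho ha hb (by omega) (by omega) hu hu0 hu' hu0', hQu', neg_div, div_self hQu]

/-- two orthogonal nonisometric subspaces of equal odd dimension -/
theorem plus_sup_odd_noniso [Fintype F] {A B : Submodule F (ι → F)} (hA : NdOn Q A) (hB : NdOn Q B)
    (ho : AreOrthogonalFor (pol Q) A B) (hoa : Odd (Module.finrank F A))
    (hd : Module.finrank F A = Module.finrank F B) (hi : ¬ AreIsometricFor Q A B) :
    IsPlusTypeOn Q (A ⊔ B) ↔ ¬ IsSquare (-1 : F) := by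
  have h2 := two_ne_of_odd_nd hQ hA hoa
  obtain ⟨Ta, La, ha⟩ := exists_wd hQ hA
  obtain ⟨Tb, Lb, hb⟩ := exists_wd hQ hB
  have e1 := ha.aniso_le_two hQ
  have e2 := hb.aniso_le_two hQ
  have e5 := ha.dim
  have e6 := hb.dim
  obtain ⟨j, hj⟩ := hoa
  have d1 : Module.finrank F La = 1 := by omega
  have d2 : Module.finrank F Lb = 1 := by omega
  obtain ⟨u, hu, hu0⟩ := Submodule.exists_mem_ne_zero_of_ne_bot (p := La) fun h0 => by
    rw [h0, finrank_bot] at d1; omega
  obtain ⟨u', hu', hu0'⟩ := Submodule.exists_mem_ne_zero_of_ne_bot (p := Lb) fun h0 => by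
    rw [h0, finrank_bot] at d2; omega
  have hQu : Q u ≠ 0 := fun h => hu0 (ha.aniso u hu h)
  have hns : ¬ IsSquare (Q u' / Q u) := by
    rintro ⟨s, hs⟩
    refine hi (wd_isometric hQ hA hB ha hb hd ?_)
    have hs0 : s ≠ 0 := fun h => by
      rw [h, mul_zero, div_eq_zero_iff] at hs
      exact hu0' (hb.aniso u' hu' (hs.resolve_right hQu))
    rw [← Submodule.eq_of_le_of_finrank_eq ((Submodule.span_singleton_le_iff_mem _ _).2 (La.smul_mem s hu))
      (by rw [finrank_span_singleton (smul_ne_zero hs0 hu0), d1]),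
      ← Submodule.eq_of_le_of_finrank_eq ((Submodule.span_singleton_le_iff_mem _ _).2 hu')
      (by rw [finrank_span_singleton hu0', d2])]
    refine isometric_line hQ (smul_ne_zero hs0 hu0) hu0' ?_
    rw [qsmul hQ, sq, ← hs, div_mul_cancel₀ _ hQu]
  rw [plus_sup_lines hQ hA hB ho ha hb d1 d2 hu hu0 hu' hu0', neg_div, neg_eq_neg_one_mul]
  constructor
  · intro h1 h3
    refine hns ?_
    have := h3.mul h1
    rwa [← mul_assoc, neg_one_mul, neg_neg, one_mul] at this
  · exact fun h1 => isSquare_mul_of_not h2 h1 hns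

end CfsgLib.Perm.Asch.OE
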