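import Cfsg.Agent.Lib.Perm.Asch.OE.Types

/-!
# Types of decompositions, of spaces with an operator, and of subfield structures
-/

set_option autoImplicit false
set_option linter.all false

namespace CfsgLib.Perm.Asch.OE

open scoped Classical Matrix
open Matrix Cfsg.Geo CfsgLib.Perm.Asch CfsgLib.Perm.Trans CfsgLib.Perm.Trans.Quad

variable {ι : Type} [Fintype ι] [DecidableEq ι] {F : Type*} [Field F] [Fintype F]
variable {Q : (ι → F) → F}

local notation "pol" => QuadraticMap.polar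

theorem isSquare_neg_one_mod : IsSquare (-1 : F) ↔ Fintype.card F % 4 ≠ 3 := FiniteField.isSquare_neg_one_iff

variable (hQ : IsNondegenerateQuadraticForm Q)
include hQ

theorem type_biSup {α : Type} (A : α → Submodule F (ι → F)) (P0 : Prop) (s : Finset α)
    (hnd : ∀ i ∈ s, NdOn Q (A i)) (hev : ∀ i ∈ s, Even (Module.finrank F (A i)))
    (hp : ∀ i ∈ s, IsPlusTypeOn Q (A i) ↔ P0)
    (ho : ∀ i ∈ s, ∀ j ∈ s, i ≠ j → AreOrthogonalFor (pol Q) (A i) (A j)) :
    NdOn Q (s.sup A) ∧ Even (Module.finrank F ↥(s.sup A)) ∧ (IsPlusTypeOn Q (s.sup A) ↔ (Even s.card ∨ P0)) := by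
  classical
  induction s using Finset.induction_on with
  | empty =>
    rw [Finset.sup_empty]
    refine ⟨fun w hw hw0 => absurd ((Submodule.mem_bot F).1 hw) hw0, by simp, ?_⟩
    exact iff_of_true ⟨⊥, bot_le, fun w hw => by rw [(Submodule.mem_bot F).1 hw, qzero hQ], by simp⟩
      (Or.inl (by simp))
  | @insert a s ha ih =>
    obtain ⟨h1, h2, h3⟩ := ih (fun i hi => hnd i (Finset.mem_insert_of_mem hi))
      (fun i hi => hev i (Finset.mem_insert_of_mem hi)) (fun i hi => hp i (Finset.mem_insert_of_mem hi))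
      (fun i hi j hj => ho i (Finset.mem_insert_of_mem hi) j (Finset.mem_insert_of_mem hj))
    have hA := hnd a (Finset.mem_insert_self a s)
    have hle : s.sup A ≤ qperp hQ (A a) := Finset.sup_le fun j hj x hx y hy =>
      ho j (Finset.mem_insert_of_mem hj) a (Finset.mem_insert_self a s) (fun e => ha (e ▸ hj)) x hx y hy
    have horth : AreOrthogonalFor (pol Q) (A a) (s.sup A) := fun x hx y hy => by rw [pcomm]; exact hle hy x hx
    rw [Finset.sup_insert]
    refine ⟨nd_sup hQ hA h1 horth, ?_, ?_⟩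
    · rw [finrank_sup_disjoint hQ (orth_disjoint hQ hA horth)]
      exact (hev a (Finset.mem_insert_self a s)).add h2
    · rw [plus_sup_even hQ hA h1 horth (hev a (Finset.mem_insert_self a s)) h2, hp a (Finset.mem_insert_self a s), h3,
        Finset.card_insert_of_notMem ha, Nat.even_add_one]
      tauto

theorem top_split {W : Submodule F (ι → F)} (hW : NdOn Q W) : W ⊔ qperp hQ W = ⊤ := by
  simpa using nd_split hQ hW (le_top : W ≤ ⊤)

theorem orth_qperp (W : Submodule F (ι → F)) : AreOrthogonalFor (pol Q) W (qperp hQ W) :=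
  fun x hx y hy => by rw [pcomm]; exact hy x hx

theorem halves_even {W : Submodule F (ι → F)} (hW : NdOn Q W) (he : Even (Module.finrank F W))
    (he' : Even (Fintype.card ι)) : IsPlusTypeOn Q ⊤ ↔ (IsPlusTypeOn Q W ↔ IsPlusTypeOn Q (qperp hQ W)) := by
  rw [← top_split hQ hW]
  refine plus_sup_even hQ hW (qperp_nd hQ hW) (orth_qperp hQ W) he ?_
  have := finrank_qperp_add hQ W
  rw [← this, Nat.even_add] at he'
  exact he'.2 he

theorem halves_odd_iso {W : Submodule F (ι → F)} (hW : NdOn Q W) (ho : Odd (Module.finrank F W))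
    (hi : AreIsometricFor Q W (qperp hQ W)) : IsPlusTypeOn Q ⊤ ↔ IsSquare (-1 : F) := by
  rw [← top_split hQ hW]
  exact plus_sup_odd_iso hQ hW (qperp_nd hQ hW) (orth_qperp hQ W) ho hi

theorem halves_odd_noniso {W : Submodule F (ι → F)} (hW : NdOn Q W) (ho : Odd (Module.finrank F W))
    (hd : 2 * Module.finrank F W = Fintype.card ι) (hi : ¬ AreIsometricFor Q W (qperp hQ W)) :
    IsPlusTypeOn Q ⊤ ↔ ¬ IsSquare (-1 : F) := by
  rw [← top_split hQ hW]
  refine plus_sup_odd_noniso hQ hW (qperp_nd hQ hW) (orth_qperp hQ W) ho ?_ hi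
  have := finrank_qperp_add hQ W
  omega

section Dec

variable {t k : ℕ} {D : Fin t → Submodule F (ι → F)}

theorem dec_type_even (hD : IsOrthogonalMDecomposition Q k D) (hk : Even k) (i : Fin t) :
    IsPlusTypeOn Q ⊤ ↔ (Even t ∨ IsPlusTypeOn Q (D i)) := by
  have h := type_biSup hQ D (IsPlusTypeOn Q (D i)) Finset.univ (fun j _ => hD.decomp.nondegenerate j)
    (fun j _ => by rw [hD.decomp.decomp.finrank_eq]; exact hk)
    (fun j _ => ⟨plus_of_isometric hQ (hD.isometric j i), plus_of_isometric hQ (hD.isometric i j)⟩)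
    (fun a _ b _ hab => hD.decomp.orthogonal a b hab)
  rw [Finset.sup_univ_eq_iSup, hD.decomp.decomp.iSup_eq_top, Finset.card_univ, Fintype.card_fin] at h
  exact h.2.2

theorem dec_type_pairs (hD : IsOrthogonalMDecomposition Q k D) (hk : Odd k) {j : ℕ} (hj : t = 2 * j) :
    IsPlusTypeOn Q ⊤ ↔ (Even j ∨ IsSquare (-1 : F)) := by
  let A : Fin j → Submodule F (ι → F) := fun i => D ⟨2 * i.1, by omega⟩ ⊔ D ⟨2 * i.1 + 1, by omega⟩
  have hne : ∀ i : Fin j, (⟨2 * i.1, by omega⟩ : Fin t) ≠ ⟨2 * i.1 + 1, by omega⟩ := fun i h => by simp at h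
  have h := type_biSup hQ A (IsSquare (-1 : F)) Finset.univ
    (fun i _ => nd_sup hQ (hD.decomp.nondegenerate _) (hD.decomp.nondegenerate _) (hD.decomp.orthogonal _ _ (hne i)))
    (fun i _ => by
      rw [finrank_sup_disjoint hQ (orth_disjoint hQ (hD.decomp.nondegenerate _) (hD.decomp.orthogonal _ _ (hne i))),
        hD.decomp.decomp.finrank_eq, hD.decomp.decomp.finrank_eq]
      exact ⟨k, rfl⟩)
    (fun i _ => plus_sup_odd_iso hQ (hD.decomp.nondegenerate _) (hD.decomp.nondegenerate _)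
      (hD.decomp.orthogonal _ _ (hne i)) (by rw [hD.decomp.decomp.finrank_eq]; exact hk) (hD.isometric _ _))
    (fun a _ b _ hab => by
      have hab' : a.1 ≠ b.1 := fun h => hab (Fin.ext h)
      have key : ∀ x y : Fin t, x.1 / 2 = a.1 → y.1 / 2 = b.1 → AreOrthogonalFor (pol Q) (D x) (D y) :=
        fun x y hx hy => hD.decomp.orthogonal x y fun e => hab' (by rw [← hx, ← hy, e])
      refine orth_sup_right hQ ?_ ?_ <;> refine orth_comm hQ (orth_sup_right hQ ?_ ?_) <;>
        exact orth_comm hQ (key _ _ (by simp <;> omega) (by simp <;> omega)))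
  have htop : Finset.univ.sup A = ⊤ := by
    rw [Finset.sup_univ_eq_iSup, eq_top_iff, ← hD.decomp.decomp.iSup_eq_top]
    refine iSup_le fun x => le_trans ?_ (le_iSup A ⟨x.1 / 2, by omega⟩)
    rcases Nat.even_or_odd x.1 with ⟨y, hy⟩ | ⟨y, hy⟩
    · refine le_trans (le_of_eq ?_) le_sup_left
      congr 1; ext; simp only; omega
    · refine le_trans (le_of_eq ?_) le_sup_right
      congr 1; ext; simp only; omega
  rw [htop, Finset.card_univ, Fintype.card_fin] at h
  exact h.2.2

/-- decompositions into evenly many pieces -/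
theorem dec_plus (hD : IsOrthogonalMDecomposition Q k D) (ht : Even t) (h : Even k ∨ Even (t / 2)) :
    IsPlusTypeOn Q ⊤ := by
  rcases Nat.even_or_odd k with hk | hk
  · exact (dec_type_even hQ hD hk ⟨0, by have := hD.decomp.decomp.two_le; omega⟩).2 (Or.inl ht)
  · obtain ⟨j, hj⟩ := ht
    refine (dec_type_pairs hQ hD hk (j := j) (by omega)).2 (Or.inl ?_)
    rcases h with h | h
    · exact absurd h (Nat.not_even_iff_odd.2 hk)
    · rwa [show t / 2 = j by omega] at h

end Dec

theorem nd_pair {u v : ι → F} (h : pol Q u v ^ 2 ≠ 4 * Q u * Q v) : NdOn Q (Submodule.span F {u, v}) := by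
  intro w hw hw0
  suffices h1 : ∃ x ∈ Submodule.span F ({u, v} : Set (ι → F)), pol Q w x ≠ 0 by
    obtain ⟨x, hx, hne⟩ := h1
    exact ⟨⟨x, hx, by rwa [pcomm]⟩, x, hx, hne⟩
  by_contra hcon
  push Not at hcon
  have e1 := hcon u (Submodule.subset_span (by simp))
  have e2 := hcon v (Submodule.subset_span (by simp))
  obtain ⟨a, b, rfl⟩ := Submodule.mem_span_pair.1 hw
  simp only [padd_left hQ, psmul_left hQ, pself hQ] at e1 e2
  rw [pcomm v u] at e1
  have hne : pol Q u v ^ 2 - 4 * Q u * Q v ≠ 0 := sub_ne_zero.2 h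
  have ha : a = 0 := (mul_eq_zero.1 (show a * (pol Q u v ^ 2 - 4 * Q u * Q v) = 0 by
    linear_combination pol Q u v * e2 - 2 * Q v * e1)).resolve_right hne
  have hb : b = 0 := (mul_eq_zero.1 (show b * (pol Q u v ^ 2 - 4 * Q u * Q v) = 0 by
    linear_combination pol Q u v * e1 - 2 * Q u * e2)).resolve_right hne
  exact hw0 (by rw [ha, hb]; simp)

theorem nd_of_aniso_two {L : Submodule F (ι → F)} (hd : Module.finrank F L = 2) (ha : ∀ x ∈ L, Q x = 0 → x = 0) :
    NdOn Q L := by
  intro w hw hw0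
  suffices h1 : ∃ x ∈ L, pol Q w x ≠ 0 by
    obtain ⟨x, hx, hne⟩ := h1
    exact ⟨⟨x, hx, by rwa [pcomm]⟩, x, hx, hne⟩
  by_contra hcon
  push Not at hcon
  have hQw : Q w ≠ 0 := fun h => hw0 (ha w hw h)
  by_cases h2 : (2 : F) = 0
  · obtain ⟨z, hz, hzw⟩ := SetLike.exists_of_lt (lt_of_le_of_ne ((Submodule.span_singleton_le_iff_mem _ _).2 hw)
      fun h => by
        have := finrank_span_singleton (K := F) hw0
        rw [h] at this; omega)
    obtain ⟨s, hs⟩ := sq_surjective h2 (Q z / Q w)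
    refine hzw (Submodule.mem_span_singleton.2 ⟨-s, ?_⟩)
    have h1 : z + s • w = 0 := ha _ (L.add_mem hz (L.smul_mem _ hw)) (by
      rw [qadd hQ, qsmul hQ, hs, div_mul_cancel₀ _ hQw, psmul_right hQ, pcomm, hcon z hz]
      linear_combination (Q z) * h2)
    rw [neg_smul]
    exact (eq_neg_of_add_eq_zero_left h1).symm
  · have := hcon w hw
    rw [pself hQ] at this
    exact mul_ne_zero h2 hQw this

/-- spaces split into planes invariant under a set of operators closed under adjoints -/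
theorem type_of_split (P0 : Prop) (S : Set (Matrix ι ι F)) (hadj : ∀ s ∈ S, adj (RingHom.id F) (qG Q) s ∈ S)
    (hsplit : ∀ P : Submodule F (ι → F), NdOn Q P → P ≠ ⊥ → (∀ s ∈ S, ∀ x ∈ P, s *ᵥ x ∈ P) →
      ∃ L ≤ P, NdOn Q L ∧ Module.finrank F L = 2 ∧ (∀ s ∈ S, ∀ x ∈ L, s *ᵥ x ∈ L) ∧ (IsPlusTypeOn Q L ↔ P0))
    {P : Submodule F (ι → F)} (hP : NdOn Q P) (hinv : ∀ s ∈ S, ∀ x ∈ P, s *ᵥ x ∈ P) :
    ∃ j, Module.finrank F P = 2 * j ∧ (IsPlusTypeOn Q P ↔ (Even j ∨ P0)) := by
  induction hn : Module.finrank F P using Nat.strong_induction_on generalizing P with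
  | _ n ih =>
  subst hn
  rcases eq_or_ne P ⊥ with hb | hb
  · refine ⟨0, by rw [hb, finrank_bot], iff_of_true ?_ (Or.inl (by simp))⟩
    exact ⟨⊥, bot_le, fun w hw => by rw [(Submodule.mem_bot F).1 hw, qzero hQ], by rw [hb, finrank_bot]⟩
  obtain ⟨L, hLP, hL, hLd, hLinv, hLp⟩ := hsplit P hP hb hinv
  have hR := nd_inf_qperp hQ hP hL hLP
  have hdim := finrank_nd_inf hQ hL hLP
  obtain ⟨j, hj, hjp⟩ := ih _ (by omega) hR (fun s hs x hx => ⟨hinv s hs x hx.1, fun y hy => by
    rw [adj_pol hQ]; exact hx.2 _ (hLinv _ (hadj s hs) y hy)⟩) rfl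
  refine ⟨j + 1, by omega, ?_⟩
  conv_lhs => rw [← nd_split hQ hL hLP]
  rw [plus_sup_even hQ hL hR (fun a ha b hb => by rw [pcomm]; exact hb.2 a ha) (hLd ▸ even_two) ⟨j, by omega⟩, hLp,
    hjp, Nat.even_add_one]
  tauto

/-- an isometry squaring to minus one -/
theorem type_of_sq_neg_one (h2 : (2 : F) ≠ 0) {a : Matrix ι ι F} (haQ : ∀ x, Q (a *ᵥ x) = Q x) (ha : a * a = -1) :
    ∃ j, Fintype.card ι = 2 * j ∧ (IsPlusTypeOn Q ⊤ ↔ (Even j ∨ IsSquare (-1 : F))) := by
  have hap : ∀ x y, pol Q (a *ᵥ x) (a *ᵥ y) = pol Q x y := fun x y => by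
    simp only [QuadraticMap.polar, ← mulVec_add, haQ]
  have haa : ∀ x, a *ᵥ (a *ᵥ x) = -x := fun x => by rw [mulVec_mulVec, ha, neg_mulVec, one_mulVec]
  have hadja : ∀ x y, pol Q (a *ᵥ x) y = pol Q x ((-a) *ᵥ y) := fun x y => by
    rw [neg_mulVec, pneg_right hQ]
    have h := hap x (a *ᵥ y)
    rw [haa, pneg_right hQ] at h
    linear_combination -h
  have e1 : adj (RingHom.id F) (qG Q) a = -a :=
    (refl_qG hQ).adj_eq_of_forall fun u v => by rw [← pol_eq hQ]; exact hadja u v
  have hadj : ∀ s ∈ ({a, -a} : Set (Matrix ι ι F)), adj (RingHom.id F) (qG Q) s ∈ ({a, -a} : Set (Matrix ι ι F)) := by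
    rintro s (rfl | rfl)
    · exact Or.inr e1
    · left
      rw [show -a = (-1 : F) • a by rw [neg_one_smul], (refl_qG hQ).adj_smul, e1, RingHom.id_apply, neg_one_smul,
        neg_neg]
  obtain ⟨j, hj, h⟩ := type_of_split hQ (IsSquare (-1 : F)) _ hadj (fun P hP hb hinv => by
    obtain ⟨u, hu, hQu⟩ := exists_nonsingular hQ hP hb
    have hau : a *ᵥ u ∈ P := hinv a (Or.inl rfl) u hu
    have horth : pol Q u (a *ᵥ u) = 0 := by
      have h := hap u (a *ᵥ u)
      rw [haa, pneg_right hQ, pcomm] at h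
      exact (mul_eq_zero.1 (show (2 : F) * pol Q u (a *ᵥ u) = 0 by linear_combination -h)).resolve_left h2
    have hdet : pol Q u (a *ᵥ u) ^ 2 ≠ 4 * Q u * Q (a *ᵥ u) := by
      rw [horth, haQ]
      intro h
      exact mul_ne_zero (mul_ne_zero (mul_ne_zero h2 h2) hQu) hQu (by linear_combination -h)
    refine ⟨Submodule.span F {u, a *ᵥ u}, Submodule.span_le.2 (by rintro x (rfl | rfl) <;> assumption),
      nd_pair hQ hdet, finrank_pair hQ hdet, ?_, ?_⟩
    · intro s hs x hx
      obtain ⟨p, r, rfl⟩ := Submodule.mem_span_pair.1 hx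
      refine Submodule.mem_span_pair.2 ?_
      rcases hs with rfl | rfl
      · exact ⟨-r, p, by rw [mulVec_add, mulVec_smul, mulVec_smul, haa]; module⟩
      · exact ⟨r, -p, by rw [neg_mulVec, mulVec_add, mulVec_smul, mulVec_smul, haa]; module⟩
    · rw [plane_plus_iff hQ (finrank_pair hQ hdet)]
      constructor
      · rintro ⟨x, hx, hx0, hQx⟩
        obtain ⟨p, r, rfl⟩ := Submodule.mem_span_pair.1 hx
        rw [qadd hQ, qsmul hQ, qsmul hQ, haQ, psmul_left hQ, psmul_right hQ, horth] at hQx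
        have hpr : p ^ 2 + r ^ 2 = 0 := (mul_eq_zero.1 (show (p ^ 2 + r ^ 2) * Q u = 0 by
          linear_combination hQx)).resolve_right hQu
        have hr : r ≠ 0 := fun h0 => by
          subst h0
          have hp : p = 0 := pow_eq_zero_iff two_ne_zero |>.1 (by linear_combination hpr)
          exact hx0 (by rw [hp, zero_smul, zero_smul, add_zero])
        refine ⟨p / r, ?_⟩
        field_simp
        linear_combination -hpr
      · rintro ⟨s, hs⟩
        refine ⟨s • u + a *ᵥ u, Submodule.mem_span_pair.2 ⟨s, 1, by rw [one_smul]⟩, fun h0 => ?_, ?_⟩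
        · have := (LinearIndependent.pair_iff.1 (pair_indep hQ hdet) s 1 (by rw [one_smul]; exact h0)).2
          exact one_ne_zero this
        · rw [qadd hQ, qsmul hQ, haQ, psmul_left hQ, horth]
          linear_combination -(Q u) * hs) (ndOn_top hQ) (fun _ _ _ _ => Submodule.mem_top)
  rw [finrank_top, Module.finrank_fintype_fun_eq_card] at hj
  exact ⟨j, hj, h⟩

/-- a quadratic field extension acting by similarities -/
theorem type_of_similar_field [Nonempty ι] {K : Subalgebra F (Matrix ι ι F)} (hK : IsFieldSubalgebra 2 K)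
    (hd : AdjClosed (RingHom.id F) (qG Q) (K : Set (Matrix ι ι F)))
    (hsim : ∀ k ∈ K, ∃ c : F, ∀ v, Q (k *ᵥ v) = c * Q v) :
    ∃ j, Fintype.card ι = 2 * j ∧ (IsPlusTypeOn Q ⊤ ↔ Even j) := by
  obtain ⟨j, hj, h⟩ := type_of_split hQ False (K : Set (Matrix ι ι F)) (fun s hs => hd s hs) (fun P hP hb hinv => by
    obtain ⟨u, hu, hQu⟩ := exists_nonsingular hQ hP hb
    let ev : K →ₗ[F] (ι → F) :=
      { toFun := fun k => (k : Matrix ι ι F) *ᵥ u
        map_add' := fun x y => Matrix.add_mulVec _ _ _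
        map_smul' := fun c x => Matrix.smul_mulVec _ _ _ }
    have hval : ∀ k ∈ K, k ≠ 0 → Q (k *ᵥ u) ≠ 0 := by
      intro k hk hk0 h0
      obtain ⟨l, hl, hkl⟩ := hK.inv k hk hk0
      obtain ⟨c, hc⟩ := hsim l hl
      refine hQu ?_
      rw [← one_mulVec u, ← hkl, hK.comm k hk l hl, ← mulVec_mulVec, hc, h0, mul_zero]
    have hinj : Function.Injective ev := (injective_iff_map_eq_zero ev).2 fun k hk => by
      by_contra h0
      refine hval k k.2 (fun e => h0 (Subtype.ext e)) ?_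
      show Q (ev k) = 0
      rw [hk, qzero hQ]
    have hfr : Module.finrank F (LinearMap.range ev) = 2 := by
      rw [LinearMap.finrank_range_of_inj hinj]; exact hK.finrank_eq
    have hani : ∀ x ∈ LinearMap.range ev, Q x = 0 → x = 0 := by
      rintro x ⟨k, rfl⟩ hx
      by_contra h0
      refine hval k k.2 (fun e => h0 ?_) hx
      show (k : Matrix ι ι F) *ᵥ u = 0
      rw [e, zero_mulVec]
    refine ⟨LinearMap.range ev, by rintro x ⟨k, rfl⟩; exact hinv _ k.2 u hu, nd_of_aniso_two hQ hfr hani, hfr, ?_, ?_⟩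
    · rintro s hs x ⟨k, rfl⟩
      exact ⟨⟨s * k, K.mul_mem hs k.2⟩, (mulVec_mulVec u s (k : Matrix ι ι F)).symm⟩
    · rw [plane_plus_iff hQ hfr, iff_false]
      rintro ⟨x, hx, hx0, hQx⟩
      exact hx0 (hani x hx hQx)) (ndOn_top hQ) (fun _ _ _ _ => Submodule.mem_top)
  rw [finrank_top, Module.finrank_fintype_fun_eq_card] at hj
  exact ⟨j, hj, by rw [h]; simp⟩

/-- self-adjoint fields in characteristic two -/
theorem two_mul_dvd_of_selfAdjoint [Nonempty ι] (h2 : (2 : F) = 0) {r : ℕ} {K : Subalgebra F (Matrix ι ι F)}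
    (hK : IsFieldSubalgebra r K) (hsa : IsSelfAdjointFor (pol Q) K) : 2 * r ∣ Fintype.card ι := by
  have hsq : ∀ k ∈ K, ∃ l ∈ K, l * l = k := by
    have hinj : Function.Injective fun x : K => x * x := by
      intro x y hxy
      have e : (x : Matrix ι ι F) * x = (y : Matrix ι ι F) * y := congrArg Subtype.val hxy
      have hadd : ((x : Matrix ι ι F) + y) * ((x : Matrix ι ι F) + y) = 0 := by
        rw [add_mul, mul_add, mul_add, e, hK.comm _ y.2 _ x.2,
          show (y : Matrix ι ι F) * y + (x : Matrix ι ι F) * y + ((x : Matrix ι ι F) * y + (y : Matrix ι ι F) * y) =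
            (2 : F) • ((y : Matrix ι ι F) * y + (x : Matrix ι ι F) * y) by rw [two_smul]; abel, h2, zero_smul]
      by_contra hne
      obtain ⟨z, hz, hxz⟩ := hK.inv _ (K.add_mem x.2 y.2) fun h0 => hne (Subtype.ext (by
        rw [eq_neg_of_add_eq_zero_left h0, ← neg_one_smul F (y : Matrix ι ι F),
          show (-1 : F) = 1 by linear_combination -h2, one_smul]))
      have h3 : (x : Matrix ι ι F) + y = 0 := by
        rw [← mul_one ((x : Matrix ι ι F) + y), ← hxz, ← mul_assoc, hadd, zero_mul]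
      rw [h3, zero_mul] at hxz
      exact zero_ne_one hxz
    haveI : Finite K := Finite.of_injective _ Subtype.val_injective
    intro k hk
    obtain ⟨l, hl⟩ := (Finite.injective_iff_surjective.1 hinj) ⟨k, hk⟩
    exact ⟨l, l.2, congrArg Subtype.val hl⟩
  have h := two_mul_dvd_finrank hQ.polar_bilinear K hK.comm (fun x hx hx0 => hK.inv x hx hx0) hsa
    (fun k hk v => by
      obtain ⟨l, hl, rfl⟩ := hsq k hk
      rw [← mulVec_mulVec, hsa l hl, pself hQ, h2, zero_mul]) ⊤ (fun k _ w _ => Submodule.mem_top)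
    (fun w _ hw => eq_zero_of_perp_top hQ fun y => by rw [pcomm]; exact hw y Submodule.mem_top)
  rwa [finrank_top, Module.finrank_fintype_fun_eq_card, hK.finrank_eq] at h

end CfsgLib.Perm.Asch.OE
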