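import Cfsg.Agent.Lib.Perm.Asch.OE.Types2

/-!
# A rational structure over a subfield of index two forces plus type
-/

set_option autoImplicit false
set_option linter.all false

namespace CfsgLib.Perm.Asch.OE

open scoped Classical Matrix
open Matrix Cfsg.Geo CfsgLib.Perm.Asch CfsgLib.Perm.Trans CfsgLib.Perm.Trans.Quad
open CfsgLib.Perm.Trans.Subf (em em_add em_smul em_sum em_zero em_injective em_ne_zero)

variable {ι : Type} [Fintype ι] [DecidableEq ι] {F : Type*} [Field F] [Fintype F]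
variable {Q : (ι → F) → F}

local notation "pol" => QuadraticMap.polar

attribute [local instance] Quad.subfieldFin

/-- quadratic equations over a subfield of index two have roots -/
theorem quad_root_ext {F₀ : Subfield F} (hc : Fintype.card F = Nat.card F₀ ^ 2) {p c : F} (hp : p ∈ F₀) (hc0 : c ∈ F₀) :
    ∃ a : F, a ^ 2 + p * a + c = 0 := by
  classical
  set q := Nat.card F₀ with hq
  have hfix : ∀ x ∈ F₀, x ^ q = x := fun x hx => (mem_subfield_iff F₀ x).1 hx
  have hq2 : 2 ≤ q := Finite.one_lt_card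
  by_cases h2 : (2 : F) = 0
  · haveI : CharP F 2 := CharTwo.of_one_ne_zero_of_two_eq_zero one_ne_zero h2
    haveI : Fact (Nat.Prime 2) := ⟨Nat.prime_two⟩
    by_cases hp0 : p = 0
    · obtain ⟨s, hs⟩ := sq_surjective h2 c
      exact ⟨s, by rw [hp0, hs]; linear_combination c * h2⟩
    obtain ⟨k, hk⟩ : ∃ k, q = 2 ^ k := by
      haveI : CharP F₀ 2 := RingHom.charP F₀.subtype Subtype.val_injective 2
      obtain ⟨n, -, hn⟩ := FiniteField.card F₀ 2
      exact ⟨n, by rw [hq, Nat.card_eq_fintype_card, hn]⟩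
    obtain ⟨x, hx⟩ : ∃ x : F, x ∉ F₀ := by
      by_contra hcon
      push Not at hcon
      have htop : F₀ = ⊤ := eq_top_iff.2 fun y _ => hcon y
      have h1 : q = Fintype.card F := by
        rw [hq, htop, Nat.card_congr Subfield.topEquiv.toEquiv, Nat.card_eq_fintype_card]
      rw [← h1] at hc
      nlinarith
    have hxq : (x ^ q) ^ q = x := by rw [← pow_mul, ← sq, ← hc, FiniteField.pow_card]
    have hadd : ∀ a b : F, (a + b) ^ q = a ^ q + b ^ q := fun a b => by rw [hk, add_pow_char_pow]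
    obtain ⟨s, hs⟩ : ∃ s, s = x + x ^ q := ⟨_, rfl⟩
    have hsF : s ∈ F₀ := (mem_subfield_iff F₀ s).2 (by rw [← hq, hs, hadd, hxq, add_comm])
    have hmF : x * x ^ q ∈ F₀ := (mem_subfield_iff F₀ _).2 (by rw [← hq, mul_pow, hxq, mul_comm])
    have hs0 : s ≠ 0 := fun h => hx ((mem_subfield_iff F₀ x).2 (by rw [← hq]; linear_combination h - hs - x * h2))
    have hyI : (x / s) ^ 2 + x / s = x * x ^ q / s ^ 2 := by
      field_simp
      rw [hs]
      linear_combination (x ^ 2) * h2
    have hl : c / p ^ 2 ∈ F₀ := F₀.div_mem hc0 (F₀.pow_mem hp 2)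
    have hm : x * x ^ q / s ^ 2 ∈ F₀ := F₀.div_mem hmF (F₀.pow_mem hsF 2)
    have hm' : ∀ t : F₀, t ^ 2 + t ≠ ⟨_, hm⟩ := by
      intro t ht
      have ht' : (t : F) ^ 2 + t = x * x ^ q / s ^ 2 := by
        have := congrArg Subtype.val ht
        push_cast at this
        exact this
      refine hx ?_
      have hy : x / s ∈ F₀ := by
        rcases mul_eq_zero.1 (show (x / s - t) * (x / s + t + 1) = 0 by linear_combination hyI - ht') with h | h
        · rw [sub_eq_zero.1 h]; exact t.2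
        · rw [show x / s = (t : F) + 1 by linear_combination h - ((t : F) + 1) * h2]
          exact F₀.add_mem t.2 F₀.one_mem
      have := F₀.mul_mem hy hsF
      rwa [div_mul_cancel₀ _ hs0] at this
    obtain ⟨b, hb⟩ : ∃ b : F, b ^ 2 + b = c / p ^ 2 := by
      by_cases hl' : ∃ t : F₀, t ^ 2 + t = ⟨_, hl⟩
      · obtain ⟨t, ht⟩ := hl'
        refine ⟨t, ?_⟩
        have := congrArg Subtype.val ht
        push_cast at this
        exact this
      push Not at hl'
      obtain ⟨t, ht⟩ := artin_schreier (F := F₀) (Subtype.ext (by push_cast; exact h2)) hl' hm'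
      refine ⟨(t : F) + x / s, ?_⟩
      have ht' : (t : F) ^ 2 + t = c / p ^ 2 + x * x ^ q / s ^ 2 := by
        have := congrArg Subtype.val ht
        push_cast at this
        exact this
      linear_combination ht' + hyI + (x * x ^ q / s ^ 2 + (t : F) * (x / s)) * h2
    refine ⟨p * b, ?_⟩
    have e : (c / p ^ 2) * p ^ 2 = c := div_mul_cancel₀ _ (pow_ne_zero 2 hp0)
    linear_combination (p ^ 2) * hb + e + c * h2
  · have hchar : ringChar F ≠ 2 := fun h => h2 (by
      rw [← Nat.cast_ofNat (R := F) (n := 2), ← h]; exact ringChar.Nat.cast_ringChar)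
    obtain ⟨s, hs⟩ : IsSquare (p ^ 2 - 4 * c) := by
      by_cases h0 : p ^ 2 - 4 * c = 0
      · rw [h0]; exact IsSquare.zero
      have h4 : p ^ 2 - 4 * c ∈ F₀ := F₀.sub_mem (F₀.pow_mem hp 2) (F₀.mul_mem (by
        rw [show (4 : F) = 1 + 1 + (1 + 1) by norm_num]
        exact F₀.add_mem (F₀.add_mem F₀.one_mem F₀.one_mem) (F₀.add_mem F₀.one_mem F₀.one_mem)) hc0)
      have h1 : (p ^ 2 - 4 * c) ^ (q - 1) = 1 := by
        refine mul_right_cancel₀ h0 ?_
        rw [← pow_succ, Nat.sub_add_cancel (by omega), hfix _ h4, one_mul]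
      rw [FiniteField.isSquare_iff hchar h0]
      have hodd : Fintype.card F % 2 = 1 := FiniteField.odd_card_of_char_ne_two hchar
      have hqodd : q % 2 = 1 := by
        rcases Nat.mod_two_eq_zero_or_one q with h | h
        · rw [hc, Nat.pow_mod, h] at hodd
          simp at hodd
        · exact h
      obtain ⟨m, hm⟩ : ∃ m, q = 2 * m + 1 := ⟨q / 2, by omega⟩
      have e : Fintype.card F / 2 = (q - 1) * (m + 1) := by
        rw [hc, hm]
        have : (2 * m + 1) ^ 2 = 2 * ((2 * m + 1 - 1) * (m + 1)) + 1 := by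
          rw [show 2 * m + 1 - 1 = 2 * m by omega]; ring
        omega
      rw [e, pow_mul, h1, one_pow]
    refine ⟨(s - p) / 2, ?_⟩
    field_simp
    linear_combination -hs

section Lift

variable {F₀ : Subfield F} {P : GL ι F}
variable (hQ : IsNondegenerateQuadraticForm Q) (hrat : ∀ a : ι → F₀, Q (em F₀ P a) ∈ F₀)
include hQ hrat

/-- independent rational vectors stay independent -/
theorem em_li {α : Type*} [Fintype α] {b : α → ι → F₀} (hb : LinearIndependent F₀ b) :
    LinearIndependent F (fun i => em F₀ P (b i)) := by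
  classical
  have hdual : ∀ j, ∃ p : ι → F₀, ∀ i, pol Q (em F₀ P (b i)) (em F₀ P p) = if i = j then 1 else 0 := by
    intro j
    obtain ⟨p, hp, hp1⟩ := exists_qperp_ne (qr_nd hQ hrat) (W := Submodule.span F₀ (b '' {i | i ≠ j})) (z := b j)
      (hb.notMem_span_image (by simp))
    refine ⟨p, fun i => ?_⟩
    rw [← qr_pol hrat]
    split_ifs with h
    · subst h; rw [hp1]; rfl
    · rw [Quad.pcomm, hp _ (Submodule.subset_span ⟨i, h, rfl⟩)]; rfl
  refine Fintype.linearIndependent_iff.2 fun g hg j => ?_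
  obtain ⟨p, hp⟩ := hdual j
  have h1 : pfl hQ (em F₀ P p) (∑ i, g i • em F₀ P (b i)) = 0 := by rw [hg, map_zero]
  rw [map_sum, Finset.sum_eq_single j] at h1
  · rw [map_smul, show pfl hQ (em F₀ P p) (em F₀ P (b j)) = pol Q (em F₀ P (b j)) (em F₀ P p) from rfl, hp,
      if_pos rfl, smul_eq_mul, mul_one] at h1
    exact h1
  · intro i _ hij
    rw [map_smul, show pfl hQ (em F₀ P p) (em F₀ P (b i)) = pol Q (em F₀ P (b i)) (em F₀ P p) from rfl, hp,
      if_neg hij, smul_zero]
  · exact fun h => absurd (Finset.mem_univ j) h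

omit hrat in
theorem ts_span {S : Set (ι → F)} (hs : ∀ x ∈ S, Q x = 0) (ho : ∀ x ∈ S, ∀ y ∈ S, pol Q x y = 0) :
    IsTotallySingularQuad Q (Submodule.span F S) := by
  have h1 : Submodule.span F S ≤ qperp hQ (Submodule.span F S) :=
    Submodule.span_le.2 fun x hx => (mem_qperp_span hQ).2 fun y hy => ho x hx y hy
  intro x hx
  induction hx using Submodule.span_induction with
  | mem y hy => exact hs y hy
  | zero => exact qzero hQ
  | add a b ha hb ea eb => rw [qadd hQ, ea, eb, h1 ha b hb, add_zero, add_zero]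
  | smul c a _ ea => rw [qsmul hQ, ea, mul_zero]

theorem plus_of_rat (hc : Fintype.card F = Nat.card F₀ ^ 2) (he : Even (Fintype.card ι)) : IsPlusTypeOn Q ⊤ := by
  classical
  have hQ0 := qr_nd hQ hrat
  obtain ⟨T, L, h⟩ := exists_wd hQ0 (ndOn_top hQ0)
  have hdim := h.dim
  rw [finrank_top, Module.finrank_fintype_fun_eq_card] at hdim
  have hle := h.aniso_le_two hQ0
  obtain ⟨k, hk⟩ := he
  let bT := Module.finBasis F₀ T
  let b : Fin (Module.finrank F₀ T) → ι → F₀ := fun i => (bT i : ι → F₀)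
  have hb : LinearIndependent F₀ b := bT.linearIndependent.map' T.subtype T.ker_subtype
  have hbT : ∀ i, b i ∈ T := fun i => (bT i).2
  have hsing : ∀ x ∈ T, Q (em F₀ P x) = 0 := fun x hx => qr_zero hQ hrat (h.ts x hx)
  have horth : ∀ x ∈ T, ∀ y ∈ T, pol Q (em F₀ P x) (em F₀ P y) = 0 := fun x hx y hy =>
    qr_perp hQ hrat (pol_zero_of_singular hQ0 h.ts hx hy)
  rcases (show Module.finrank F₀ L = 0 ∨ Module.finrank F₀ L = 2 by omega) with hL | hL
  · refine ⟨Submodule.span F (Set.range fun i => em F₀ P (b i)), le_top, ts_span hQ ?_ ?_, ?_⟩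
    · rintro _ ⟨i, rfl⟩; exact hsing _ (hbT i)
    · rintro _ ⟨i, rfl⟩ _ ⟨j, rfl⟩; exact horth _ (hbT i) _ (hbT j)
    · rw [finrank_span_eq_card (em_li hQ hrat hb), Fintype.card_fin, finrank_top, Module.finrank_fintype_fun_eq_card]
      omega
  obtain ⟨u, hu, hQu⟩ := exists_value_two hQ0 h.nd hL.ge 1
  have hu0 : u ≠ 0 := fun h0 => by rw [h0, qzero hQ0] at hQu; exact zero_ne_one hQu
  obtain ⟨v, hv, hvu⟩ := SetLike.exists_of_lt (lt_of_le_of_ne ((Submodule.span_singleton_le_iff_mem _ _).2 hu)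
    fun h0 => by
      have := finrank_span_singleton (K := F₀) hu0
      rw [h0] at this; omega)
  obtain ⟨a, ha⟩ := quad_root_ext hc (pol (qr hrat) u v).2 (qr hrat v).2
  let c : Fin (Module.finrank F₀ T) ⊕ Fin 2 → ι → F₀ := Sum.elim b ![u, v]
  have huv : LinearIndependent F₀ ![u, v] := by
    rw [LinearIndependent.pair_iff' hu0]
    intro s hs
    exact hvu (Submodule.mem_span_singleton.2 ⟨s, hs⟩)
  have hc' : LinearIndependent F₀ c := by
    refine hb.sum_type huv (Submodule.disjoint_def.2 fun x hx hx' => ?_)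
    refine h.aniso x ?_ (h.ts x ?_)
    · exact Submodule.span_le.2 (by rintro _ ⟨i, rfl⟩; fin_cases i <;> assumption) hx'
    · exact Submodule.span_le.2 (by rintro _ ⟨i, rfl⟩; exact hbT i) hx
  obtain ⟨w, hw⟩ : ∃ w, w = a • em F₀ P u + em F₀ P v := ⟨_, rfl⟩
  let g : Fin (Module.finrank F₀ T) ⊕ Unit → ι → F := Sum.elim (fun i => em F₀ P (b i)) (fun _ => w)
  have hg : LinearIndependent F g := by
    refine Fintype.linearIndependent_iff.2 fun s hs => ?_
    have h1 := Fintype.linearIndependent_iff.1 (em_li hQ hrat hc')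
      (Sum.elim (fun i => s (Sum.inl i)) ![s (Sum.inr ()) * a, s (Sum.inr ())]) (by
        rw [← hs, Fintype.sum_sum_type, Fintype.sum_sum_type, Fin.sum_univ_two]
        simp [c, g, hw, smul_add, smul_smul])
    intro i
    rcases i with i | ⟨⟩
    · simpa using h1 (Sum.inl i)
    · simpa using h1 (Sum.inr 1)
  refine ⟨Submodule.span F (Set.range g), le_top, ts_span hQ ?_ ?_, ?_⟩
  · rintro _ ⟨i | ⟨⟩, rfl⟩
    · exact hsing _ (hbT i)
    · show Q w = 0
      rw [hw, qadd hQ, qsmul hQ, psmul_left hQ, ← qr_pol hrat, ← qr_coe hrat, ← qr_coe hrat, hQu]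
      push_cast
      linear_combination ha
  · have hTw : ∀ i, pol Q (em F₀ P (b i)) w = 0 := fun i => by
      rw [hw, padd_right hQ, psmul_right hQ, qr_perp hQ hrat (h.orth _ (hbT i) u hu),
        qr_perp hQ hrat (h.orth _ (hbT i) v hv), mul_zero, add_zero]
    rintro _ ⟨i | ⟨⟩, rfl⟩ _ ⟨j | ⟨⟩, rfl⟩
    · exact horth _ (hbT i) _ (hbT j)
    · exact hTw i
    · show pol Q w (em F₀ P (b j)) = 0
      rw [Quad.pcomm]; exact hTw j
    · show pol Q w w = 0
      rw [pself hQ]
      have : Q w = 0 := by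
        rw [hw, qadd hQ, qsmul hQ, psmul_left hQ, ← qr_pol hrat, ← qr_coe hrat, ← qr_coe hrat, hQu]
        push_cast
        linear_combination ha
      rw [this, mul_zero]
  · rw [finrank_span_eq_card hg, finrank_top, Module.finrank_fintype_fun_eq_card]
    simp
    omega

end Lift

omit [DecidableEq ι] in
theorem smul_form_nd [DecidableEq ι] (hQ : IsNondegenerateQuadraticForm Q) {ζ : F} (hζ : ζ ≠ 0) :
    IsNondegenerateQuadraticForm (fun v => ζ * Q v) := by
  have hp : ∀ u v, pol (fun v => ζ * Q v) u v = ζ * pol Q u v := fun u v => by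
    simp only [QuadraticMap.polar]; ring
  refine ⟨fun c v => by rw [hQ.smul]; ring, ⟨fun x y v => ?_, fun c x v => ?_, fun v x y => ?_, fun c v x => ?_⟩,
    fun v hv => ?_⟩
  · rw [hp, hp, hp, padd_left hQ, mul_add]
  · rw [hp, hp, psmul_left hQ]; ring
  · rw [hp, hp, hp, padd_right hQ, mul_add]
  · rw [hp, hp, psmul_right hQ]; ring
  · obtain ⟨⟨x, hx⟩, y, hy⟩ := hQ.nondegenerate v hv
    exact ⟨⟨x, by rw [hp]; exact mul_ne_zero hζ hx⟩, y, by rw [hp]; exact mul_ne_zero hζ hy⟩

theorem plus_of_rat2 (hQ : IsNondegenerateQuadraticForm Q) {F₀ : Subfield F} {P : GL ι F} {ζ : F}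
    (hc : Fintype.card F = Nat.card F₀ ^ 2) (hζ : ζ ≠ 0)
    (hs : IsQuadFormRationalStructure (fun v => ζ * Q v) F₀ P) (he : Even (Fintype.card ι)) :
    IsPlusTypeOn Q ⊤ := by
  obtain ⟨U, h1, h2, h3⟩ := plus_of_rat (smul_form_nd hQ hζ) (P := P) (fun a => hs _ fun i => (a i).2) hc he
  exact ⟨U, h1, fun w hw => (mul_eq_zero.1 (h2 w hw)).resolve_left hζ, h3⟩

end CfsgLib.Perm.Asch.OE
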